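import Cfsg.Agent.Lib.Classical.OddSp.Local

/-!
# Without a graph the planes are permuted

All conjugates of the reflections in the planes commute, so a subgroup containing the quaternion
groups of the planes and no graph permutes the planes.
-/

set_option autoImplicit false
set_option linter.unusedSectionVars false
set_option linter.unusedSimpArgs false
set_option linter.style.haveILetI false

namespace Cfsg.Agent.Classical.OddSp

open Matrix
open TorusNormalizer (negOne negOne_sq coe_negOne)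
open Cfsg.Agent.Classical.OddIndex

universe u

variable {F : Type u} [Field F] [Fintype F] {n : ℕ}

/-- A set with zero closed under `x, y ↦ 2x - y` is closed under addition in odd characteristic. -/
theorem add_mem_of_reflect {M : Type*} [AddCommGroup M] (P : M → Prop) (h0 : P 0)
    (href : ∀ x y, P x → P y → P (2 • x - y)) {p : ℕ} (hp : Odd p) (hpM : ∀ x : M, p • x = 0) :
    ∀ x y, P x → P y → P (x + y) := by
  have hneg : ∀ x, P x → P (-x) := fun x hx => by simpa using href 0 x h0 hx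
  have hmul : ∀ x, P x → ∀ j : ℕ, P (j • x) ∧ P ((j + 1) • x) := by
    intro x hx j
    induction j with
    | zero => exact ⟨by simpa using h0, by simpa using hx⟩
    | succ j ih =>
      refine ⟨ih.2, ?_⟩
      rw [show (j + 1 + 1) • x = 2 • ((j + 1) • x) - j • x by
        simp only [add_smul, one_smul, two_smul]; abel]
      exact href _ _ ih.2 ih.1
  intro x y hx hy
  obtain ⟨m, hm⟩ := hp
  have hhalf : 2 • ((m + 1) • x) = x := by
    rw [← mul_smul, show 2 * (m + 1) = p + 1 by omega, add_smul, one_smul, hpM, zero_add]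
  have h := href ((m + 1) • x) (-y) (hmul x hx m).2 (hneg y hy)
  rwa [hhalf, sub_neg_eq_add] at h

namespace QData

variable {D : QData F} {S : Finset (Fin n)} {H : Subgroup (Vs n F ≃ₗ[F] Vs n F)}

/-- Some conjugate of a reflection moves exactly the graph of `f` over the plane `k`. -/
def Gr (S : Finset (Fin n)) (H : Subgroup (Vs n F ≃ₗ[F] Vs n F)) (k : Fin n)
    (f : (Fin 2 → F) →ₗ[F] Vs n F) : Prop :=
  (∀ v, f v k = 0) ∧ (∀ v w, Bf n F (f v) (f w) = 0) ∧
    ∃ m ∈ S, ∃ h ∈ H, ∀ v, ∃ w, h (emb m w) = emb k v + f v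

theorem gr_zero {k : Fin n} (hk : k ∈ S) : Gr S H k 0 :=
  ⟨fun v => rfl, fun v w => by simp, k, hk, 1, one_mem H, fun v => ⟨v, by simp⟩⟩

theorem gr_comp (hy : D.Hyp S H) {k : Fin n} (hk : k ∈ S) {f : (Fin 2 → F) →ₗ[F] Vs n F}
    (hf : Gr S H k f) {q : Matrix.SpecialLinearGroup (Fin 2) F} (hq : q ∈ D.Q) :
    Gr S H k (f ∘ₗ (q : Matrix (Fin 2) (Fin 2) F).mulVecLin) := by
  obtain ⟨hfk, hiso, m, hm, h, hh, hmap⟩ := hf
  refine ⟨fun v => hfk _, fun v w => hiso _ _, m, hm, single k q⁻¹ * h,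
    mul_mem (hy.mem_single k hk _ (inv_mem hq)) hh, fun v => ?_⟩
  obtain ⟨w, hw⟩ := hmap ((q : Matrix (Fin 2) (Fin 2) F) *ᵥ v)
  refine ⟨w, funext fun j => ?_⟩
  rw [LinearEquiv.mul_apply, hw]
  by_cases hj : j = k
  · subst hj
    rw [single_apply_same, Pi.add_apply, Pi.add_apply, emb_same, emb_same, hfk, LinearMap.comp_apply,
      hfk, add_zero, add_zero, Matrix.mulVec_mulVec, ← Matrix.SpecialLinearGroup.coe_mul,
      inv_mul_cancel, Matrix.SpecialLinearGroup.coe_one, Matrix.one_mulVec]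
  · rw [single_apply_ne hj, Pi.add_apply, Pi.add_apply, emb_ne hj, emb_ne hj, LinearMap.comp_apply,
      Matrix.mulVecLin_apply]

/-- The conjugate of one graph by the reflection in another. -/
theorem gr_reflect (hy : D.Hyp S H) {k : Fin n} {f g : (Fin 2 → F) →ₗ[F] Vs n F} (hf : Gr S H k f)
    (hg : Gr S H k g) (horth : ∀ v u, Bf n F (f v) (g u) = 0) : Gr S H k (2 • f - g) := by
  obtain ⟨hfk, hfiso, m, hm, h, hh, hmap⟩ := hf
  obtain ⟨hgk, hgiso, m', hm', h', hh', hmap'⟩ := hg
  have horth' : ∀ v u, Bf n F (g u) (f v) = 0 := fun v u => by rw [Bf_swap, horth, neg_zero]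
  refine ⟨fun v => ?_, fun v w => ?_, m', hm', h * E m * h⁻¹ * h',
    mul_mem (mul_mem (mul_mem hh (hy.E_mem hm)) (inv_mem hh)) hh', fun v => ?_⟩
  · simp [hfk, hgk]
  · simp [two_smul, hfiso, hgiso, horth, horth']
  have hI := hy.le_iso hh
  choose c hc using hmap
  have hinj : Function.Injective c := fun a b e => by
    have := congrFun ((hc a).symm.trans ((congrArg (fun t => h (emb m t)) e).trans (hc b))) k
    simpa [emb_same, hfk] using this
  have hsur : Function.Surjective c := Finite.surjective_of_injective hinj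
  obtain ⟨w', hw'⟩ := hmap' (-v)
  refine ⟨w', ?_⟩
  -- the part moved and the part fixed
  set t := h⁻¹ (g (-v) - f (-v)) with ht
  have htm : t m = 0 := by
    refine eq_zero_of_om fun x => ?_
    obtain ⟨u, rfl⟩ := hsur x
    have e := hI (emb m (c u)) t
    rw [hc, ht, ← LinearEquiv.mul_apply, mul_inv_cancel, LinearEquiv.coe_one, id_eq, Bf_emb] at e
    rw [om_swap, ← e]
    simp [map_sub, map_add, Bf_emb, hfk, hgk, hfiso, horth, om]
  have h1 : (h * E m * h⁻¹ : Vs n F ≃ₗ[F] Vs n F) (g (-v) - f (-v)) = g (-v) - f (-v) := by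
    rw [LinearEquiv.mul_apply, LinearEquiv.mul_apply, ← ht, E_apply, htm, map_zero, smul_zero,
      sub_zero, ht, ← LinearEquiv.mul_apply, mul_inv_cancel]
    rfl
  have h2 : (h * E m * h⁻¹ : Vs n F ≃ₗ[F] Vs n F) (emb k (-v) + f (-v)) = -(emb k (-v) + f (-v)) := by
    rw [← hc, LinearEquiv.mul_apply, LinearEquiv.mul_apply, ← LinearEquiv.mul_apply h⁻¹ h,
      inv_mul_cancel, LinearEquiv.coe_one, id_eq, E_apply, emb_same, map_sub, map_smul, two_smul]
    abel
  rw [LinearEquiv.mul_apply, hw',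
    show emb k (-v) + g (-v) = (emb k (-v) + f (-v)) + (g (-v) - f (-v)) by abel, map_add, h1, h2]
  simp only [map_neg, two_smul, LinearMap.sub_apply, LinearMap.add_apply]
  abel

/-- Every graph moved by a conjugate of a reflection is trivial. -/
theorem gr_eq_zero (hy : D.Hyp S H) {k : Fin n} (hk : k ∈ S) {f : (Fin 2 → F) →ₗ[F] Vs n F}
    (hf : Gr S H k f) : f = 0 := by
  obtain ⟨p, hp⟩ := CharP.exists F
  have hpodd : Odd p := (CharP.char_is_prime F p).odd_of_ne_two fun e => D.two (by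
    subst e; exact_mod_cast CharP.cast_eq_zero F 2)
  -- a graph of rank one
  by_contra hne
  obtain ⟨g, hg, hg0, w0, hw0, hgw0⟩ : ∃ g, Gr S H k g ∧ g ≠ 0 ∧ ∃ w0, w0 ≠ 0 ∧ g w0 = 0 := by
    by_cases hinj : Function.Injective f
    swap
    · obtain ⟨w0, h1, h2⟩ : ∃ w0, f w0 = 0 ∧ w0 ≠ 0 := by
        by_contra h
        push Not at h
        exact hinj ((injective_iff_map_eq_zero f).2 h)
      exact ⟨f, hf, hne, w0, h2, h1⟩
    obtain ⟨a, b, hdet, hN⟩ := D.exists_singular
    set N := (1 : Matrix (Fin 2) (Fin 2) F) + a • (D.I : Matrix (Fin 2) (Fin 2) F) +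
      b • (D.J : Matrix (Fin 2) (Fin 2) F) with hNdef
    let P : Matrix (Fin 2) (Fin 2) F → Prop := fun X => Gr S H k (f ∘ₗ X.mulVecLin)
    have h0 : P 0 := by
      simp only [P, Matrix.mulVecLin_zero, LinearMap.comp_zero]; exact gr_zero hk
    have hgen : ∀ q ∈ D.Q, P (q : Matrix (Fin 2) (Fin 2) F) := fun q hq => gr_comp hy hk hf hq
    have href : ∀ x y, P x → P y → P (2 • x - y) := fun x y hx hy' => by
      have := gr_reflect hy hx hy' fun v u => hf.2.1 _ _
      refine (congrArg (Gr S H k) ?_).mp this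
      refine LinearMap.ext fun v => ?_
      simp only [two_smul, LinearMap.sub_apply, LinearMap.add_apply, LinearMap.comp_apply,
        Matrix.mulVecLin_apply, Matrix.add_mulVec, Matrix.sub_mulVec, map_add, map_sub]
    have hadd := add_mem_of_reflect P h0 href hpodd fun X => by
      rw [← Nat.cast_smul_eq_nsmul F, CharP.cast_eq_zero, zero_smul]
    have hnat : ∀ (j : ℕ) X, P X → P (j • X) := fun j X hX => by
      induction j with
      | zero => rw [zero_smul]; exact h0
      | succ j ih => rw [succ_nsmul]; exact hadd _ _ ih hX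
    have hNP : P N := hadd _ _ (hadd _ _ (by simpa using hgen 1 (one_mem _)) (hnat a _ (hgen _ D.hI)))
      (hnat b _ (hgen _ D.hJ))
    obtain ⟨w0, hw0, hw0'⟩ := Matrix.exists_mulVec_eq_zero_iff.2 hdet
    refine ⟨_, hNP, fun e => hN (Matrix.ext_of_mulVec_single fun i => ?_), w0, hw0, ?_⟩
    · refine hinj ?_
      have e2 := LinearMap.congr_fun e (Pi.single i 1)
      rw [LinearMap.comp_apply, Matrix.mulVecLin_apply, LinearMap.zero_apply] at e2
      rw [e2, Matrix.zero_mulVec, map_zero]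
    · rw [LinearMap.comp_apply, Matrix.mulVecLin_apply, hw0', map_zero]
  -- coordinates adapted to the kernel
  obtain ⟨u0, hu0⟩ : ∃ u0, om w0 u0 = 1 := by
    obtain ⟨y, hy'⟩ : ∃ y, om w0 y ≠ 0 := by
      by_contra h
      push Not at h
      exact hw0 (eq_zero_of_om h)
    refine ⟨(om w0 y)⁻¹ • y, ?_⟩
    have : om w0 ((om w0 y)⁻¹ • y) = (om w0 y)⁻¹ * om w0 y := by simp [om]; ring
    rw [this, inv_mul_cancel₀ hy']
  let φ : (Fin 2 → F) →ₗ[F] F :=
    { toFun := fun v => om w0 v
      map_add' := fun v w => by simp [om]; ring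
      map_smul' := fun c v => by simp [om]; ring }
  have hφ : ∀ v, v = φ v • u0 - om u0 v • w0 := fun v => by
    have hdec : ∀ j, v j * om w0 u0 = om w0 v * u0 j - om u0 v * w0 j := by
      intro j; fin_cases j <;> simp [om] <;> ring
    funext j
    have := hdec j
    rw [hu0, mul_one] at this
    simpa [φ] using this
  set a := g u0 with ha
  have hga : g = φ.smulRight a := LinearMap.ext fun v => by
    conv_lhs => rw [hφ v]
    simp [hgw0, ha]
  have ha0 : a ≠ 0 := fun e => hg0 (by rw [hga, e]; exact LinearMap.ext fun v => smul_zero _)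
  have hak : a k = 0 := hg.1 u0
  obtain ⟨l, hl⟩ : ∃ l, a l ≠ 0 := by
    by_contra h
    push Not at h
    exact ha0 (funext h)
  have hlk : l ≠ k := fun e => hl (e ▸ hak)
  have hlS : l ∈ S := by
    by_contra hlS
    obtain ⟨-, -, m, hm, h, hh, hmap⟩ := hg
    obtain ⟨w, hw⟩ := hmap u0
    have := congrFun hw l
    rw [iso_comp (hy.le_iso hh) (hy.le_supp hh l hlS), emb_ne (fun e : l = m => hlS (e ▸ hm)),
      Pi.add_apply, emb_ne hlk, zero_add, ← ha] at this
    exact hl this.symm
  set b := emb l (a l) with hb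
  set a' := a - (2 : F) • b with ha'
  have hab : Bf n F a b = 0 := by rw [hb, Bf_swap, Bf_emb]; simp [om_self]
  have hba : Bf n F b a = 0 := by rw [Bf_swap, hab, neg_zero]
  have haa : Bf n F a a = 0 := Bf_isAlt a
  have hbb : Bf n F b b = 0 := Bf_isAlt b
  have hbk : b k = 0 := emb_ne (Ne.symm hlk) _
  have hgr' : Gr S H k (φ.smulRight a') := by
    obtain ⟨-, -, m, hm, h, hh, hmap⟩ := hg
    refine ⟨fun v => by simp [ha', hak, hbk], fun v w => by simp [ha', haa, hab, hba, hbb],
      m, hm, E l * h, mul_mem (hy.E_mem hlS) hh, fun v => ?_⟩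
    obtain ⟨w, hw⟩ := hmap v
    refine ⟨w, ?_⟩
    rw [LinearEquiv.mul_apply, hw, map_add, E_apply, E_apply, emb_ne hlk, map_zero, smul_zero,
      sub_zero, hga]
    simp [ha', hb, smul_sub, smul_smul, mul_comm]
  -- the graphs with image in the span of the two vectors
  let P : Vs n F → Prop := fun x => x ∈ Submodule.span F {a, b} ∧ Gr S H k (φ.smulRight x)
  have hspan : ∀ x ∈ Submodule.span F {a, b}, ∀ y ∈ Submodule.span F {a, b}, Bf n F x y = 0 := by
    intro x hx y hy'
    obtain ⟨r, s, rfl⟩ := Submodule.mem_span_pair.1 hx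
    obtain ⟨r', s', rfl⟩ := Submodule.mem_span_pair.1 hy'
    simp [haa, hab, hba, hbb]
  have hP0 : P 0 := ⟨Submodule.zero_mem _, by
    rw [show φ.smulRight (0 : Vs n F) = 0 from LinearMap.ext fun v => smul_zero _]; exact gr_zero hk⟩
  have hPref : ∀ x y, P x → P y → P (2 • x - y) := by
    rintro x y ⟨hx, hgx⟩ ⟨hy', hgy⟩
    refine ⟨Submodule.sub_mem _ (nsmul_mem hx 2) hy', ?_⟩
    have := gr_reflect hy hgx hgy fun v u => by simp [hspan x hx y hy']
    refine (congrArg (Gr S H k) ?_).mp this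
    refine LinearMap.ext fun v => ?_
    simp [two_smul, smul_add, smul_sub]
  have hadd := add_mem_of_reflect P hP0 hPref hpodd fun x => by
    rw [← Nat.cast_smul_eq_nsmul F, CharP.cast_eq_zero, zero_smul]
  have hPa : P a := ⟨Submodule.subset_span (Set.mem_insert _ _), hga ▸ hg⟩
  have hPa' : P a' := ⟨Submodule.sub_mem _ (Submodule.subset_span (Set.mem_insert _ _))
    (Submodule.smul_mem _ _ (Submodule.subset_span (Set.mem_insert_of_mem _ rfl))), hgr'⟩
  have hPb : P ((2 : F) • b) := by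
    have hneg : P (-a') := by simpa using hPref 0 a' hP0 hPa'
    have := hadd _ _ hPa hneg
    rwa [ha', ← sub_eq_add_neg, sub_sub_cancel] at this
  obtain ⟨-, hνk, -, m, hm, h, hh, hmap⟩ := hPb
  have hhI := hy.le_iso hh
  choose c hc using hmap
  have hinj : Function.Injective c := fun x y e => by
    have := congrFun ((hc x).symm.trans ((congrArg (fun t => h (emb m t)) e).trans (hc y))) k
    simpa [emb_same, hbk] using this
  have hsur : Function.Surjective c := Finite.surjective_of_injective hinj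
  have hd : IsRefl S H (h * E m * h⁻¹) := ⟨m, hm, h, hh, rfl⟩
  have hdU : mv (h * E m * h⁻¹) ≤ pl k l := by
    rw [mv_conj, mv_E D.two]
    rintro _ ⟨_, ⟨w, rfl⟩, rfl⟩
    obtain ⟨v, rfl⟩ := hsur w
    rw [LinearEquiv.coe_coe, hc, mem_pl_iff (Ne.symm hlk)]
    intro j hjk hjl
    simp [hb, emb_ne hjk, emb_ne hjl]
  have hcomm := hy.local_pl hk hlS (Ne.symm hlk) hd hdU
  obtain ⟨j, -, hj⟩ := hy.refl_eq hd (hy.cent k hk _ (hd.mem hy) hcomm)
  have hmvj : h (emb m (c u0)) ∈ LinearMap.range (emb (F := F) j) := by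
    rw [← mv_E (F := F) D.two j, ← hj, mv_conj, mv_E D.two]
    exact ⟨_, ⟨_, rfl⟩, rfl⟩
  obtain ⟨w, hw⟩ := hmvj
  rw [hc] at hw
  have e1 := congrFun hw k
  have e2 := congrFun hw l
  have hu0' : φ u0 = 1 := hu0
  simp only [Pi.add_apply, LinearMap.smulRight_apply, hu0', one_smul, Pi.smul_apply, hb, emb_same,
    emb_ne hlk, emb_ne (Ne.symm hlk), smul_zero, add_zero, zero_add] at e1 e2
  have hu00 : u0 ≠ 0 := fun e => by rw [e] at hu0; simp [om] at hu0
  have hjk : j = k := by
    by_contra hjk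
    rw [emb_ne (Ne.symm hjk)] at e1
    exact hu00 e1.symm
  subst hjk
  rw [emb_ne hlk] at e2
  exact hl ((smul_eq_zero.1 e2.symm).resolve_left D.two)

/-- All conjugates of the reflections commute with the reflections. -/
theorem Hyp.comm_all (hy : D.Hyp S H) {k : Fin n} (hk : k ∈ S) {d : Vs n F ≃ₗ[F] Vs n F}
    (hd : IsRefl S H d) : d * E k = E k * d := by
  classical
  obtain ⟨m, hm, h, hh, hhd⟩ := id hd
  have hI := hy.le_iso hh
  set U := LinearMap.range (emb (F := F) k) ⊔ mv d with hU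
  have hd2 : Module.finrank F (mv d) = 2 := by
    rw [← hhd, finrank_mv_conj, mv_E D.two, finrank_range_emb]
  by_cases hl : ∃ l ∈ S, l ≠ k ∧ LinearMap.range (emb l) ≤ U
  · obtain ⟨l, hlS, hlk, hlU⟩ := hl
    have hple : pl (F := F) k l ≤ U := sup_le le_sup_left hlU
    have hU4 : Module.finrank F U ≤ Module.finrank F (pl (F := F) k l) := by
      rw [finrank_pl (Ne.symm hlk)]
      exact (Submodule.finrank_add_le_finrank_add_finrank _ _).trans (by rw [finrank_range_emb, hd2])
    exact hy.local_pl hk hlS (Ne.symm hlk) hd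
      ((Submodule.eq_of_le_of_finrank_le hple hU4).symm ▸ le_sup_right)
  push Not at hl
  by_cases hnd : ∀ u ∈ U, (∀ w ∈ U, Bf n F u w = 0) → u = 0
  · exact hy.local_nondeg hk hd hnd fun l hlS hlU => by_contra fun hne => hl l hlS hne hlU
  push Not at hnd
  obtain ⟨u, huU, hu, hu0⟩ := hnd
  -- the moved plane is a graph over the plane `k`
  let ψ : (Fin 2 → F) →ₗ[F] Vs n F := h.toLinearMap ∘ₗ emb m
  let ρ : (Fin 2 → F) →ₗ[F] (Fin 2 → F) := LinearMap.proj k ∘ₗ ψ
  have hψU : ∀ v, ψ v ∈ U := fun v => Submodule.mem_sup_right (by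
    rw [← hhd, mv_conj, mv_E D.two]; exact ⟨emb m v, ⟨v, rfl⟩, rfl⟩)
  have huk : u k = 0 := eq_zero_of_om fun y => by
    have := hu (emb k y) (Submodule.mem_sup_left (LinearMap.mem_range_self _ _))
    rw [Bf_swap, Bf_emb, ← om_swap] at this
    exact this
  obtain ⟨_, ⟨x, rfl⟩, y, hy', hsum⟩ := Submodule.mem_sup.1 huU
  rw [← hhd, mv_conj, mv_E D.two] at hy'
  obtain ⟨_, ⟨v0, rfl⟩, rfl⟩ := hy'
  have hsum' : emb k x + ψ v0 = u := hsum
  have hx : x = -ρ v0 := by
    have := congrFun hsum' k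
    rw [Pi.add_apply, emb_same, huk] at this
    exact eq_neg_of_add_eq_zero_left this
  have key : ∀ v, om v0 v = om (ρ v0) (ρ v) := fun v => by
    have h1 := hu (ψ v) (hψU v)
    rw [← hsum', map_add, LinearMap.add_apply, Bf_emb, hx] at h1
    have h2 : Bf n F (ψ v0) (ψ v) = om v0 v := by
      show Bf n F (h (emb m v0)) (h (emb m v)) = _
      rw [hI, Bf_emb, emb_same]
    rw [h2] at h1
    have h3 : ψ v k = ρ v := rfl
    rw [h3] at h1
    simp only [om, Pi.neg_apply] at h1 ⊢
    linear_combination h1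
  have hv0 : v0 ≠ 0 := fun e => hu0 (by
    rw [← hsum', hx, e, map_zero, map_zero, neg_zero, map_zero, add_zero])
  obtain ⟨v1, hv1⟩ : ∃ v1, om v0 v1 ≠ 0 := by
    by_contra h
    push Not at h
    exact hv0 (eq_zero_of_om h)
  have hdetρ : ∀ v w, om (ρ v) (ρ w) = (LinearMap.toMatrix' ρ).det * om v w := fun v w => by
    rw [← om_mulVec, ← Matrix.toLin'_apply, ← Matrix.toLin'_apply, Matrix.toLin'_toMatrix']
  have hdet1 : (LinearMap.toMatrix' ρ).det = 1 := by
    have := key v1
    rw [hdetρ] at this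
    exact mul_right_cancel₀ hv1 (by rw [one_mul]; exact this.symm)
  have hinj : Function.Injective ρ := (injective_iff_map_eq_zero ρ).2 fun v hv => by
    refine eq_zero_of_om fun w => ?_
    have := hdetρ v w
    rw [hdet1, one_mul, hv] at this
    rw [← this]; simp [om]
  let e := LinearEquiv.ofBijective ρ ⟨hinj, LinearMap.injective_iff_surjective.1 hinj⟩
  have he : ∀ v, ψ (e.symm v) k = v := fun v => e.apply_symm_apply v
  let f : (Fin 2 → F) →ₗ[F] Vs n F := ψ ∘ₗ e.symm.toLinearMap - emb k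
  have hfk : ∀ v, f v k = 0 := fun v => by
    show ψ (e.symm v) k - emb k v k = 0
    rw [he, emb_same, sub_self]
  have hf : Gr S H k f := by
    refine ⟨hfk, fun v w => ?_, m, hm, h, hh, fun v => ⟨e.symm v, ?_⟩⟩
    · have h1 : Bf n F (ψ (e.symm v)) (ψ (e.symm w)) = om (e.symm v) (e.symm w) := by
        show Bf n F (h (emb m _)) (h (emb m _)) = _
        rw [hI, Bf_emb, emb_same]
      have h2 : om (e.symm v) (e.symm w) = om v w := by
        have := hdetρ (e.symm v) (e.symm w)
        rw [hdet1, one_mul] at this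
        rw [← this, show ρ (e.symm v) = v from he v, show ρ (e.symm w) = w from he w]
      simp only [f, LinearMap.sub_apply, LinearMap.comp_apply, LinearEquiv.coe_coe, map_sub, Bf_emb,
        h1, h2, emb_same]
      rw [Bf_swap (emb k w), Bf_emb, he, he, ← om_swap]
      ring
    · show ψ (e.symm v) = emb k v + (ψ (e.symm v) - emb k v)
      abel
  have hf0 := gr_eq_zero hy hk hf
  have hplane : ∀ v, h (emb m v) ∈ LinearMap.range (emb (F := F) k) := fun v => by
    refine ⟨e v, ?_⟩
    have := LinearMap.congr_fun hf0 (e v)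
    simp only [f, LinearMap.sub_apply, LinearMap.comp_apply, LinearEquiv.coe_coe,
      LinearEquiv.symm_apply_apply, LinearMap.zero_apply, sub_eq_zero] at this
    exact this.symm
  rw [← hhd, conj_E_of_map hI hplane]

theorem Hyp.le_Mon (hy : D.Hyp S H) : H ≤ Mon n F := fun h hh =>
  mem_Mon_of_map_planes (hy.le_iso hh) (hy.le_supp hh) fun i hi => by
    have hd : IsRefl S H (h * E i * h⁻¹) := ⟨i, hi, h, hh, rfl⟩
    obtain ⟨l, -, hl⟩ := hy.refl_eq hd (hy.cent i hi _ (hd.mem hy) (hy.comm_all hi hd))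
    refine ⟨l, fun v => ?_⟩
    rw [← mv_E (F := F) D.two l, ← hl, mv_conj, mv_E D.two]
    exact ⟨_, ⟨v, rfl⟩, rfl⟩

/-- A subgroup containing the quaternion groups of the planes and no graph permutes the planes. -/
theorem le_Mon_of_noGraph (D : QData F) (S : Finset (Fin n)) (H : Subgroup (Vs n F ≃ₗ[F] Vs n F))
    (hI : H ≤ Iso n F) (hS : H ≤ Supp n F S) (hB : ∀ i ∈ S, ∀ q ∈ D.Q, single i q ∈ H)
    (hN : D.NoGraph H) : H ≤ Mon n F := by
  classical
  induction S using Finset.strongInduction generalizing H with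
  | _ S ih =>
    refine Hyp.le_Mon ⟨hI, hS, hB, hN, fun k hk h hh hc => ?_⟩
    have hK : H ⊓ Supp n F (S.erase k) ≤ Mon n F :=
      ih (S.erase k) (Finset.erase_ssubset hk) _ (inf_le_left.trans hI) inf_le_right
        (fun i hi q hq => ⟨hB i (Finset.mem_of_mem_erase hi) q hq, single_mem_Supp hi q⟩)
        (NoGraph.mono D hN inf_le_left)
    refine mem_Mon_of_map_planes (hI hh) (hS hh) fun i hi => ?_
    by_cases hik : i = k
    · rw [hik]; exact ⟨k, preserve_of_comm D.two hc⟩
    have hgH : h * single i D.I * h⁻¹ ∈ H := mul_mem (mul_mem hh (hB i hi _ D.hI)) (inv_mem hh)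
    refine map_plane_of_conj D.two D.II (hK (Subgroup.mem_inf.2 ⟨hgH, ?_⟩))
    intro j hj v
    have hsi := single_mem_Supp (S := S.erase k) (Finset.mem_erase.2 ⟨hik, hi⟩) D.I
    have hback : h (h⁻¹ (emb j v)) = emb j v := by
      rw [← LinearEquiv.mul_apply, mul_inv_cancel]; rfl
    obtain ⟨w, hw⟩ : h⁻¹ (emb j v) ∈ LinearMap.range (emb (F := F) j) := by
      by_cases hjk : j = k
      · subst hjk
        refine preserve_of_comm D.two ?_ v
        calc h⁻¹ * E j = h⁻¹ * (E j * h) * h⁻¹ := by group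
          _ = h⁻¹ * (h * E j) * h⁻¹ := by rw [hc]
          _ = E j * h⁻¹ := by group
      · exact ⟨v, ((inv_mem (hS hh)) j (fun h' => hj (Finset.mem_erase.2 ⟨hjk, h'⟩)) v).symm⟩
    rw [LinearEquiv.mul_apply, LinearEquiv.mul_apply, ← hw, hsi j hj w, hw, hback]

end QData

end Cfsg.Agent.Classical.OddSp
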