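import Mathlib
import Cfsg.Agent.Lib.Classical.OddIndex.SLTwo

/-!
# A Sylow 2-subgroup of `SL₂` and its normaliser

The normaliser modulo the Sylow subgroup is commutative.  When it is not trivial the Sylow subgroup is
quaternion of order 8, with generators `I`, `J`, the quotient has order 3 and is generated by
`(1 + I)(1 + J) / 2`.
-/

set_option autoImplicit false
set_option linter.unusedSectionVars false
set_option linter.unusedSimpArgs false
set_option linter.style.haveILetI false

namespace Cfsg.Agent.Classical.OddSp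

open Matrix
open TorusNormalizer (negOne negOne_sq coe_negOne)
open Cfsg.Agent.Classical.OddIndex

universe u

variable {F : Type u} [Field F] [Fintype F]

theorem negOne_mem_sylow (Q : Sylow 2 (Matrix.SpecialLinearGroup (Fin 2) F)) : negOne F ∈ Q := by
  refine mem_of_two_element Q (a := 1) (by rw [pow_one, sq, negOne_sq]) ?_
  refine Subgroup.mem_normalizer_iff.2 fun r => ?_
  rw [SLTwo.negOne_comm r, mul_inv_cancel_right]

theorem sylow_eq_of_le (Q : Sylow 2 (Matrix.SpecialLinearGroup (Fin 2) F))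
    {P : Subgroup (Matrix.SpecialLinearGroup (Fin 2) F)} (hP : IsPGroup 2 P)
    (h : (Q : Subgroup (Matrix.SpecialLinearGroup (Fin 2) F)) ≤ P) :
    P = (Q : Subgroup (Matrix.SpecialLinearGroup (Fin 2) F)) := Q.3 hP h

/-- The data attached to a Sylow subgroup which is not self-normalising. -/
structure QData (F : Type u) [Field F] [Fintype F] where
  Q : Sylow 2 (Matrix.SpecialLinearGroup (Fin 2) F)
  two : (2 : F) ≠ 0
  card_eight : Nat.card (Q : Subgroup (Matrix.SpecialLinearGroup (Fin 2) F)) = 8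
  card_N : Nat.card (Subgroup.normalizer
    ((Q : Subgroup (Matrix.SpecialLinearGroup (Fin 2) F)) : Set (Matrix.SpecialLinearGroup (Fin 2) F))) = 24
  I : Matrix.SpecialLinearGroup (Fin 2) F
  J : Matrix.SpecialLinearGroup (Fin 2) F
  hI : I ∈ Q
  hJ : J ∈ Q
  II : I * I = negOne F
  JJ : J * J = negOne F
  IJ : I * J = J * I * negOne F

/-- Either the Sylow subgroup is self-normalising or the data exist. -/
theorem normalizer_dichotomy (hodd : Odd (Fintype.card F))
    (Q : Sylow 2 (Matrix.SpecialLinearGroup (Fin 2) F)) :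
    Subgroup.normalizer ((Q : Subgroup (Matrix.SpecialLinearGroup (Fin 2) F)) :
      Set (Matrix.SpecialLinearGroup (Fin 2) F)) = Q ∨ ∃ D : QData F, D.Q = Q := by
  have h2 : (2 : F) ≠ 0 := SylowSL2.two_ne_zero_of_odd hodd
  obtain ⟨hcent, h17, h35⟩ := Cfsg.Agent.S2431.result hodd Q
  have hq2 : Fintype.card F % 2 = 1 := Nat.odd_iff.1 hodd
  by_cases h8 : Fintype.card F % 8 = 1 ∨ Fintype.card F % 8 = 7
  · exact Or.inl (h17 h8)
  right
  have h8q : Fintype.card F % 8 = 3 ∨ Fintype.card F % 8 = 5 := by omega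
  have hR8 : Nat.card (Q : Subgroup (Matrix.SpecialLinearGroup (Fin 2) F)) = 8 := by
    have hq1 := Fintype.one_lt_card (α := F)
    rw [Q.card_eq_multiplicity, SylowSL2.factorization_natCard_SL_two Nat.prime_two (by omega)]
    rcases h8q with h | h
    · rw [SLTwo.factorization_of_mod_four (m := Fintype.card F - 1) (by omega),
        SLTwo.factorization_of_mod_eight (m := Fintype.card F + 1) (by omega)]; norm_num
    · rw [SLTwo.factorization_of_mod_eight (m := Fintype.card F - 1) (by omega),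
        SLTwo.factorization_of_mod_four (m := Fintype.card F + 1) (by omega)]; norm_num
  have hQ : SLTwo.Quat (Q : Subgroup (Matrix.SpecialLinearGroup (Fin 2) F)) :=
    SLTwo.quat_of_card h2 _ hR8 (by
      by_contra h
      push Not at h
      have hle : (Q : Subgroup (Matrix.SpecialLinearGroup (Fin 2) F)) ≤
          Subgroup.center (Matrix.SpecialLinearGroup (Fin 2) F) := fun x hx =>
        hcent ▸ Subgroup.mem_centralizer_iff.2 fun s hs => h s hs x hx
      have hcz : Nat.card (Subgroup.center (Matrix.SpecialLinearGroup (Fin 2) F)) ≤ 2 := by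
        rw [Linear.natCard_center_SL (n := Fin 2), Fintype.card_fin]
        exact Nat.le_of_dvd two_pos (Nat.gcd_dvd_left _ _)
      have := Subgroup.card_le_of_le hle
      omega)
  obtain ⟨r, hr, s, hs, hrs⟩ := hQ.pair
  have hr' : SLTwo.IsRoot r := hQ.root_of_ne hr hrs
  have hs' : SLTwo.IsRoot s := hQ.root_of_ne hs (Ne.symm hrs)
  exact ⟨⟨Q, h2, hR8, by rw [h35 h8q, hR8], r, s, hr, hs, hr', hs', hQ.anti r hr s hs hrs⟩, rfl⟩

/-- The normaliser modulo the Sylow subgroup is commutative. -/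
theorem comm_mod_sylow (hodd : Odd (Fintype.card F))
    (Q : Sylow 2 (Matrix.SpecialLinearGroup (Fin 2) F)) {a b : Matrix.SpecialLinearGroup (Fin 2) F}
    (ha : a ∈ Subgroup.normalizer ((Q : Subgroup (Matrix.SpecialLinearGroup (Fin 2) F)) :
      Set (Matrix.SpecialLinearGroup (Fin 2) F)))
    (hb : b ∈ Subgroup.normalizer ((Q : Subgroup (Matrix.SpecialLinearGroup (Fin 2) F)) :
      Set (Matrix.SpecialLinearGroup (Fin 2) F))) :
    a * b * a⁻¹ * b⁻¹ ∈ Q := by
  rcases normalizer_dichotomy hodd Q with h | ⟨D, rfl⟩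
  · rw [h] at ha hb
    exact mul_mem (mul_mem (mul_mem ha hb) (inv_mem ha)) (inv_mem hb)
  set Q' := (D.Q : Subgroup (Matrix.SpecialLinearGroup (Fin 2) F))
  set N := Subgroup.normalizer (Q' : Set (Matrix.SpecialLinearGroup (Fin 2) F))
  haveI : Fact (Nat.Prime 3) := ⟨Nat.prime_three⟩
  have hcard : Nat.card (N ⧸ Q'.subgroupOf N) = 3 := by
    have e := Subgroup.card_eq_card_quotient_mul_card_subgroup (Q'.subgroupOf N)
    rw [Nat.card_congr (Subgroup.subgroupOfEquivOfLe Subgroup.le_normalizer).toEquiv,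
      D.card_eight, D.card_N] at e
    omega
  letI : CommGroup (N ⧸ Q'.subgroupOf N) :=
    { (inferInstance : Group (N ⧸ Q'.subgroupOf N)) with
      mul_comm := fun x y => by
        haveI := isCyclic_of_prime_card (p := 3) hcard
        exact IsCyclic.commGroup.mul_comm x y }
  have : QuotientGroup.mk' (Q'.subgroupOf N) (⟨a, ha⟩ * ⟨b, hb⟩ * ⟨a, ha⟩⁻¹ * ⟨b, hb⟩⁻¹) = 1 := by
    rw [map_mul, map_mul, map_mul, map_inv, map_inv, mul_right_comm (QuotientGroup.mk' _ _),
      mul_inv_cancel, one_mul, mul_inv_cancel]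
  rw [QuotientGroup.mk'_apply, QuotientGroup.eq_one_iff, Subgroup.mem_subgroupOf] at this
  exact this

/-- A subgroup containing the Sylow subgroup is normalised by an element of the normaliser or
generates with its conjugate an element of the normaliser outside. -/
theorem normalised_or_mem (hodd : Odd (Fintype.card F))
    (Q : Sylow 2 (Matrix.SpecialLinearGroup (Fin 2) F))
    {K : Subgroup (Matrix.SpecialLinearGroup (Fin 2) F)}
    (hK : (Q : Subgroup (Matrix.SpecialLinearGroup (Fin 2) F)) ≤ K)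
    {y : Matrix.SpecialLinearGroup (Fin 2) F}
    (hy : y ∈ Subgroup.normalizer ((Q : Subgroup (Matrix.SpecialLinearGroup (Fin 2) F)) :
      Set (Matrix.SpecialLinearGroup (Fin 2) F))) :
    y ∈ Subgroup.normalizer (K : Set (Matrix.SpecialLinearGroup (Fin 2) F)) ∨
      ∃ m ∈ K ⊔ K.map (MulAut.conj y).toMonoidHom,
        m ∈ Subgroup.normalizer ((Q : Subgroup (Matrix.SpecialLinearGroup (Fin 2) F)) :
          Set (Matrix.SpecialLinearGroup (Fin 2) F)) ∧ m ∉ Q := by
  haveI : Fact (Nat.Prime 2) := ⟨Nat.prime_two⟩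
  have hidx : Odd K.index :=
    (Nat.not_even_iff_odd.1 fun h => Q.not_dvd_index
      (dvd_trans (even_iff_two_dvd.1 h) (Subgroup.index_dvd_of_le hK)))
  obtain ⟨w, hw, e⟩ := SLTwo.isPronormal hodd K (hK (negOne_mem_sylow Q)) hidx y
  set K' := K.map (MulAut.conj y).toMonoidHom with hK'
  have hQK' : (Q : Subgroup (Matrix.SpecialLinearGroup (Fin 2) F)) ≤ K' := fun x hx =>
    ⟨y⁻¹ * x * y, hK ((Subgroup.mem_normalizer_iff''.1 hy x).1 hx), by simp [mul_assoc]⟩
  have hwQ : ((w • Q : Sylow 2 (Matrix.SpecialLinearGroup (Fin 2) F)) :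
      Subgroup (Matrix.SpecialLinearGroup (Fin 2) F)) ≤ K' := by
    rintro _ ⟨x, hx, rfl⟩
    rw [e]
    exact ⟨x, hK hx, rfl⟩
  obtain ⟨k, hk⟩ := MulAction.exists_smul_eq K' ((w • Q).subtype hwQ) (Q.subtype hQK')
  rw [Sylow.smul_subtype] at hk
  have hk' := Sylow.subtype_injective hk
  have hN : (k : Matrix.SpecialLinearGroup (Fin 2) F) * w ∈ Subgroup.normalizer
      ((Q : Subgroup (Matrix.SpecialLinearGroup (Fin 2) F)) :
        Set (Matrix.SpecialLinearGroup (Fin 2) F)) :=
    Sylow.smul_eq_iff_mem_normalizer.1 (by rw [mul_smul]; exact hk')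
  have hmem : (k : Matrix.SpecialLinearGroup (Fin 2) F) * w ∈ K ⊔ K' :=
    mul_mem (Subgroup.mem_sup_right k.2) hw
  by_cases hq : (k : Matrix.SpecialLinearGroup (Fin 2) F) * w ∈ Q
  · left
    have h1 : K'.map (MulAut.conj (k : Matrix.SpecialLinearGroup (Fin 2) F)).toMonoidHom = K' :=
      map_conj_eq_self (Subgroup.le_normalizer k.2)
    have h2 : K.map (MulAut.conj ((k : Matrix.SpecialLinearGroup (Fin 2) F) * w)).toMonoidHom = K :=
      map_conj_eq_self (Subgroup.le_normalizer (hK hq))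
    rw [map_conj_mul, ← e, h1] at h2
    refine Subgroup.mem_normalizer_iff.2 fun z => ⟨fun hz => ?_, fun hz => ?_⟩
    · rw [← h2]
      exact ⟨z, hz, rfl⟩
    · rw [← h2] at hz
      obtain ⟨z', hz', e'⟩ := hz
      rwa [← (MulAut.conj y).injective (show MulAut.conj y z' = MulAut.conj y z from e')]
  · exact Or.inr ⟨_, hmem, hN, hq⟩

namespace QData

variable (D : QData F)

local notation "M2" => Matrix (Fin 2) (Fin 2) F

/-- The normaliser. -/
abbrev N : Subgroup (Matrix.SpecialLinearGroup (Fin 2) F) :=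
  Subgroup.normalizer ((D.Q : Subgroup (Matrix.SpecialLinearGroup (Fin 2) F)) :
    Set (Matrix.SpecialLinearGroup (Fin 2) F))

theorem mI_sq : (D.I : M2) * (D.I : M2) = -1 := by
  rw [← Matrix.SpecialLinearGroup.coe_mul, D.II, coe_negOne]

theorem mJ_sq : (D.J : M2) * (D.J : M2) = -1 := by
  rw [← Matrix.SpecialLinearGroup.coe_mul, D.JJ, coe_negOne]

theorem mJI : (D.J : M2) * (D.I : M2) = -((D.I : M2) * (D.J : M2)) := by
  rw [← Matrix.SpecialLinearGroup.coe_mul D.I, D.IJ]
  simp [coe_negOne]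

theorem trace_root {A : Matrix.SpecialLinearGroup (Fin 2) F} (h : A * A = negOne F) :
    (A : M2) 0 0 + (A : M2) 1 1 = 0 := SLTwo.IsRoot.trace h

/-- The mean `(1 + I)(1 + J) / 2`. -/
def omegaMat : M2 := (2 : F)⁻¹ • ((1 + (D.I : M2)) * (1 + (D.J : M2)))

theorem det_one_add {A : Matrix.SpecialLinearGroup (Fin 2) F} (h : A * A = negOne F) :
    ((1 : M2) + (A : M2)).det = 2 := by
  have ht := trace_root h
  have hd := Matrix.SpecialLinearGroup.det_coe A
  rw [det_fin_two] at hd
  rw [det_fin_two]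
  simp
  linear_combination hd + ht

theorem det_omegaMat : D.omegaMat.det = 1 := by
  have h2 := D.two
  simp only [omegaMat, det_smul, det_mul, Fintype.card_fin]
  rw [det_one_add D.II, det_one_add D.JJ]
  field_simp

/-- The element of order dividing six generating the normaliser over the Sylow subgroup. -/
def omega : Matrix.SpecialLinearGroup (Fin 2) F := ⟨D.omegaMat, D.det_omegaMat⟩

theorem coe_omega : (D.omega : M2) = (2 : F)⁻¹ • ((1 + (D.I : M2)) * (1 + (D.J : M2))) := rfl

theorem omega_I : D.omega * D.I = D.J * D.omega := by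
  refine Subtype.ext ?_
  simp only [Matrix.SpecialLinearGroup.coe_mul, coe_omega, Matrix.smul_mul, Matrix.mul_smul]
  congr 1
  have eII := D.mI_sq
  have eJJ := D.mJ_sq
  have eJI := D.mJI
  have e1 : (D.I : M2) * ((D.J : M2) * (D.I : M2)) = (D.J : M2) := by
    rw [eJI, mul_neg, ← mul_assoc, eII, neg_mul, one_mul, neg_neg]
  have e2 : (D.J : M2) * (D.I : M2) * (D.J : M2) = (D.I : M2) := by
    rw [eJI, neg_mul, mul_assoc, eJJ, mul_neg, mul_one, neg_neg]
  calc (1 + (D.I : M2)) * (1 + (D.J : M2)) * (D.I : M2)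
      = (D.I : M2) + (D.J : M2) * D.I + (D.I : M2) * D.I + (D.I : M2) * ((D.J : M2) * D.I) := by
        noncomm_ring
    _ = (D.I : M2) + -((D.I : M2) * D.J) + -1 + (D.J : M2) := by rw [e1, eJI, eII]
    _ = (D.J : M2) + (D.J : M2) * D.J + (D.J : M2) * D.I + (D.J : M2) * D.I * D.J := by
        rw [e2, eJJ, eJI]; abel
    _ = (D.J : M2) * ((1 + (D.I : M2)) * (1 + (D.J : M2))) := by noncomm_ring

theorem omega_J : D.omega * D.J = D.I * D.J * D.omega := by
  refine Subtype.ext ?_
  simp only [Matrix.SpecialLinearGroup.coe_mul, coe_omega, Matrix.smul_mul, Matrix.mul_smul]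
  congr 1
  have eII := D.mI_sq
  have eJJ := D.mJ_sq
  have eJI := D.mJI
  have e1 : (D.I : M2) * ((D.J : M2) * (D.I : M2)) = (D.J : M2) := by
    rw [eJI, mul_neg, ← mul_assoc, eII, neg_mul, one_mul, neg_neg]
  have e3 : (D.I : M2) * ((D.J : M2) * (D.J : M2)) = -(D.I : M2) := by rw [eJJ, mul_neg, mul_one]
  have e4 : (D.I : M2) * ((D.J : M2) * (D.I : M2)) * (D.J : M2) = -1 := by rw [e1, eJJ]
  calc (1 + (D.I : M2)) * (1 + (D.J : M2)) * (D.J : M2)
      = (D.J : M2) + (D.J : M2) * D.J + (D.I : M2) * D.J + (D.I : M2) * ((D.J : M2) * D.J) := by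
        noncomm_ring
    _ = (D.I : M2) * D.J + (D.I : M2) * ((D.J : M2) * D.J) + (D.I : M2) * ((D.J : M2) * D.I) +
          (D.I : M2) * ((D.J : M2) * D.I) * D.J := by rw [e4, e3, e1, eJJ]; abel
    _ = (D.I : M2) * D.J * ((1 + (D.I : M2)) * (1 + (D.J : M2))) := by noncomm_ring

theorem quat : SLTwo.Quat (D.Q : Subgroup (Matrix.SpecialLinearGroup (Fin 2) F)) := by
  refine SLTwo.quat_of_card D.two _ D.card_eight ⟨D.I, D.hI, D.J, D.hJ, fun e => ?_⟩
  have h := D.IJ
  rw [← e] at h
  exact SLTwo.ne_one_negOne D.two (mul_eq_left.1 h.symm).symm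

theorem I_comm_J_ne : D.I * D.J ≠ D.J * D.I := fun e => by
  have h := D.IJ
  rw [← e] at h
  exact SLTwo.ne_one_negOne D.two (mul_eq_left.1 h.symm).symm

/-- The Sylow subgroup is generated by the two roots. -/
theorem closure_IJ : Subgroup.closure {D.I, D.J} = (D.Q : Subgroup (Matrix.SpecialLinearGroup (Fin 2) F)) := by
  refine Subgroup.eq_of_le_of_card_ge ((Subgroup.closure_le _).2 ?_) ?_
  · rintro x (rfl | rfl)
    · exact D.hI
    · exact D.hJ
  · haveI : Fact (Nat.Prime 2) := ⟨Nat.prime_two⟩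
    rw [D.card_eight]
    obtain ⟨k, hk⟩ := (D.Q.2.to_le (show Subgroup.closure {D.I, D.J} ≤ _ from
      (Subgroup.closure_le _).2 (by rintro x (rfl | rfl); exacts [D.hI, D.hJ]))).exists_card_eq
    rw [hk]
    by_contra hlt
    push Not at hlt
    have hk2 : k ≤ 2 := by
      by_contra h
      have : 2 ^ 3 ≤ 2 ^ k := Nat.pow_le_pow_right two_pos (by omega)
      omega
    haveI hc : IsMulCommutative (Subgroup.closure ({D.I, D.J} : Set (Matrix.SpecialLinearGroup (Fin 2) F))) := by
      rcases Nat.lt_or_ge k 2 with h1 | h2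
      · have : k = 0 ∨ k = 1 := by omega
        rcases this with rfl | rfl
        · haveI : Subsingleton (Subgroup.closure ({D.I, D.J} : Set _)) :=
            (Nat.card_eq_one_iff_unique.1 (by rw [hk]; rfl)).1
          exact ⟨⟨fun a b => Subsingleton.elim _ _⟩⟩
        · haveI := isCyclic_of_prime_card (p := 2) (by rw [hk]; rfl : Nat.card (Subgroup.closure ({D.I, D.J} : Set _)) = 2)
          exact ⟨⟨IsCyclic.commGroup.mul_comm⟩⟩
      · have h22 : k = 2 := by omega
        subst h22
        exact ⟨⟨(IsPGroup.commGroupOfCardEqPrimeSq hk).mul_comm⟩⟩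
    exact D.I_comm_J_ne (congrArg Subtype.val (hc.is_comm.comm
      (⟨D.I, Subgroup.subset_closure (Or.inl rfl)⟩ : Subgroup.closure ({D.I, D.J} : Set _))
      ⟨D.J, Subgroup.subset_closure (Or.inr rfl)⟩))

theorem omega_mem : D.omega ∈ D.N := by
  have hle : (D.Q : Subgroup (Matrix.SpecialLinearGroup (Fin 2) F)).map
      (MulAut.conj D.omega).toMonoidHom ≤ (D.Q : Subgroup (Matrix.SpecialLinearGroup (Fin 2) F)) := by
    conv_lhs => rw [← D.closure_IJ]
    rw [MonoidHom.map_closure, Subgroup.closure_le]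
    rintro _ ⟨x, rfl | rfl, rfl⟩
    · show D.omega * D.I * D.omega⁻¹ ∈ D.Q
      rw [D.omega_I, mul_inv_cancel_right]; exact D.hJ
    · show D.omega * D.J * D.omega⁻¹ ∈ D.Q
      rw [D.omega_J, mul_inv_cancel_right]; exact mul_mem D.hI D.hJ
  exact Subgroup.mem_normalizer_fintype fun x hx => hle ⟨x, hx, rfl⟩

theorem omega_not_mem : D.omega ∉ D.Q := fun h => by
  have hne : D.omega * D.I ≠ D.I * D.omega := fun e => by
    rw [D.omega_I] at e
    have h' := D.I_comm_J_ne
    rw [mul_right_cancel e] at h'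
    exact h' rfl
  have e := D.quat.anti _ h _ D.hI hne
  rw [D.omega_I, mul_assoc D.I, ← SLTwo.negOne_comm, ← mul_assoc] at e
  exact D.I_comm_J_ne (by rw [mul_right_cancel e, mul_assoc, SLTwo.negOne_comm D.I])

theorem exists_class : ∃ χ : D.N →* Multiplicative (ZMod 3), Function.Surjective χ ∧
    ∀ a : D.N, χ a = 1 ↔ (a : Matrix.SpecialLinearGroup (Fin 2) F) ∈ D.Q := by
  set Q' := (D.Q : Subgroup (Matrix.SpecialLinearGroup (Fin 2) F)) with hQ'
  haveI : Fact (Nat.Prime 3) := ⟨Nat.prime_three⟩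
  have hcard : Nat.card (D.N ⧸ Q'.subgroupOf D.N) = 3 := by
    have e := Subgroup.card_eq_card_quotient_mul_card_subgroup (Q'.subgroupOf D.N)
    rw [Nat.card_congr (Subgroup.subgroupOfEquivOfLe Subgroup.le_normalizer).toEquiv,
      D.card_eight, D.card_N] at e
    omega
  haveI := isCyclic_of_prime_card (p := 3) hcard
  let e : D.N ⧸ Q'.subgroupOf D.N ≃* Multiplicative (ZMod 3) :=
    (zmodCyclicMulEquiv inferInstance).symm.trans
      (AddEquiv.toMultiplicative (ZMod.ringEquivCongr hcard).toAddEquiv)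
  refine ⟨e.toMonoidHom.comp (QuotientGroup.mk' _), e.surjective.comp (QuotientGroup.mk'_surjective _),
    fun a => ?_⟩
  rw [MonoidHom.comp_apply, MulEquiv.coe_toMonoidHom, MulEquiv.map_eq_one_iff,
    QuotientGroup.mk'_apply, QuotientGroup.eq_one_iff, Subgroup.mem_subgroupOf]
  rfl

/-- The class of an element of the normaliser. -/
noncomputable def cls : D.N →* Multiplicative (ZMod 3) := D.exists_class.choose

theorem cls_eq_one {a : D.N} : D.cls a = 1 ↔ (a : Matrix.SpecialLinearGroup (Fin 2) F) ∈ D.Q :=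
  D.exists_class.choose_spec.2 a

/-- The second mean `(1 - I)(1 - J) / 2`. -/
theorem omega_mul_I : ((D.omega * D.I * negOne F : Matrix.SpecialLinearGroup (Fin 2) F) : M2) =
    (2 : F)⁻¹ • ((1 - (D.I : M2)) * (1 - (D.J : M2))) := by
  have eII := D.mI_sq
  have eJI := D.mJI
  have e1 : (D.I : M2) * ((D.J : M2) * (D.I : M2)) = (D.J : M2) := by
    rw [eJI, mul_neg, ← mul_assoc, eII, neg_mul, one_mul, neg_neg]
  simp only [Matrix.SpecialLinearGroup.coe_mul, coe_omega, coe_negOne, Matrix.smul_mul, mul_neg,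
    mul_one, ← smul_neg]
  congr 1
  calc -((1 + (D.I : M2)) * (1 + (D.J : M2)) * D.I)
      = -((D.I : M2) + (D.J : M2) * D.I + (D.I : M2) * D.I + (D.I : M2) * ((D.J : M2) * D.I)) := by
        noncomm_ring
    _ = -((D.I : M2) + -((D.I : M2) * D.J) + -1 + (D.J : M2)) := by rw [e1, eJI, eII]
    _ = (1 - (D.I : M2)) * (1 - (D.J : M2)) := by noncomm_ring

/-- A singular combination of the identity and the two roots which is not zero. -/
theorem exists_singular : ∃ a b : ℕ, ((1 : M2) + a • (D.I : M2) + b • (D.J : M2)).det = 0 ∧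
    (1 : M2) + a • (D.I : M2) + b • (D.J : M2) ≠ 0 := by
  obtain ⟨p, hp⟩ := CharP.exists F
  have hp0 : p.Prime := CharP.char_is_prime F p
  haveI := Fact.mk hp0
  obtain ⟨a, b, hab⟩ := ZMod.sq_add_sq p (-1 : ZMod p)
  refine ⟨a.val, b.val, ?_, fun e => ?_⟩
  · have h0 : ((a.val : F) ^ 2 + (b.val : F) ^ 2 + 1) = 0 := by
      have := congrArg (ZMod.castHom (dvd_refl p) F) hab
      rw [map_add, map_pow, map_pow, map_neg, map_one, ZMod.castHom_apply, ZMod.castHom_apply,
        ZMod.cast_eq_val, ZMod.cast_eq_val] at this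
      rw [this, neg_add_cancel]
    have t1 := trace_root D.II
    have t2 := trace_root D.JJ
    have d1 := Matrix.SpecialLinearGroup.det_coe D.I
    have d2 := Matrix.SpecialLinearGroup.det_coe D.J
    have eij := congrFun (congrFun D.mJI 0) 0
    rw [det_fin_two] at d1 d2
    simp [Matrix.mul_apply, Fin.sum_univ_two] at eij
    have e11 : (D.I : M2) 1 1 = -(D.I : M2) 0 0 := by linear_combination t1
    have e22 : (D.J : M2) 1 1 = -(D.J : M2) 0 0 := by linear_combination t2
    rw [e11] at d1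
    rw [e22] at d2
    rw [det_fin_two]
    simp [-ZMod.natCast_val, ← Nat.cast_smul_eq_nsmul F, e11, e22]
    linear_combination h0 + (a.val : F) ^ 2 * d1 + (b.val : F) ^ 2 * d2 -
      (a.val : F) * (b.val : F) * eij
  · have t1 := trace_root D.II
    have t2 := trace_root D.JJ
    have h := congrArg Matrix.trace e
    simp [-ZMod.natCast_val, Matrix.trace_fin_two, ← Nat.cast_smul_eq_nsmul F] at h
    exact D.two (by linear_combination h - (a.val : F) * t1 - (b.val : F) * t2)

end QData

end Cfsg.Agent.Classical.OddSp
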