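import Cfsg.Agent.Lib.Classical.OddSp.Space
import Cfsg.Agent.Lib.Classical.OddSp.SLQ

/-!
# A quaternion group on a diagonal plane, and averaging

If the quaternion group acts inside `H` on a diagonal plane of two of the planes then `H` contains an
element acting on the two planes as elements of order 3 of the same class.  Averaging over a
transitive 2-group gives an element normalising the Sylow subgroup.
-/

set_option autoImplicit false
set_option linter.unusedSectionVars false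
set_option linter.unusedSimpArgs false
set_option linter.style.haveILetI false

namespace Cfsg.Agent.Classical.OddSp

open Matrix
open TorusNormalizer (negOne negOne_sq coe_negOne)
open Cfsg.Agent.Classical.OddIndex

universe u

variable {F : Type u} [Field F] [Fintype F] {n : ℕ}

/-- The element acting as `q` on the graph plane `{v + a v}` of the planes `i`, `j`. -/
def gfun (i j : Fin n) (a q : Matrix.SpecialLinearGroup (Fin 2) F) (x : Vs n F) : Vs n F :=
  x + emb i (((q : Matrix (Fin 2) (Fin 2) F) - 1) *ᵥ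
      ((2 : F)⁻¹ • (x i + ((a⁻¹ : Matrix.SpecialLinearGroup (Fin 2) F) : Matrix (Fin 2) (Fin 2) F) *ᵥ x j))) +
    emb j ((a : Matrix (Fin 2) (Fin 2) F) *ᵥ (((q : Matrix (Fin 2) (Fin 2) F) - 1) *ᵥ
      ((2 : F)⁻¹ • (x i + ((a⁻¹ : Matrix.SpecialLinearGroup (Fin 2) F) : Matrix (Fin 2) (Fin 2) F) *ᵥ x j))))

theorem gfun_left {i j : Fin n} (h : i ≠ j) (a q : Matrix.SpecialLinearGroup (Fin 2) F) (x : Vs n F) :
    gfun i j a q x i = x i + ((q : Matrix (Fin 2) (Fin 2) F) - 1) *ᵥ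
      ((2 : F)⁻¹ • (x i + ((a⁻¹ : Matrix.SpecialLinearGroup (Fin 2) F) : Matrix (Fin 2) (Fin 2) F) *ᵥ x j)) := by
  rw [gfun, Pi.add_apply, Pi.add_apply, emb_same, emb_ne h, add_zero]

theorem gfun_right {i j : Fin n} (h : i ≠ j) (a q : Matrix.SpecialLinearGroup (Fin 2) F) (x : Vs n F) :
    gfun i j a q x j = x j + (a : Matrix (Fin 2) (Fin 2) F) *ᵥ (((q : Matrix (Fin 2) (Fin 2) F) - 1) *ᵥ
      ((2 : F)⁻¹ • (x i + ((a⁻¹ : Matrix.SpecialLinearGroup (Fin 2) F) : Matrix (Fin 2) (Fin 2) F) *ᵥ x j))) := by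
  rw [gfun, Pi.add_apply, Pi.add_apply, emb_same, emb_ne (Ne.symm h), add_zero]

theorem gfun_other {i j k : Fin n} (hi : k ≠ i) (hj : k ≠ j)
    (a q : Matrix.SpecialLinearGroup (Fin 2) F) (x : Vs n F) : gfun i j a q x k = x k := by
  rw [gfun, Pi.add_apply, Pi.add_apply, emb_ne hi, emb_ne hj, add_zero, add_zero]

namespace QData

variable (D : QData F)

/-- `H` contains the quaternion group on a graph plane of `i` and `j`. -/
def HasGraph (H : Subgroup (Vs n F ≃ₗ[F] Vs n F)) (i j : Fin n) : Prop :=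
  i ≠ j ∧ ∃ a ∈ D.N, ∀ q ∈ D.Q, ∃ g ∈ H, ∀ x, g x = gfun i j a q x

/-- `H` contains no quaternion group on a graph plane. -/
def NoGraph (H : Subgroup (Vs n F ≃ₗ[F] Vs n F)) : Prop := ∀ i j, ¬ D.HasGraph H i j

theorem NoGraph.mono {H K : Subgroup (Vs n F ≃ₗ[F] Vs n F)} (hH : D.NoGraph H) (h : K ≤ H) :
    D.NoGraph K := fun i j ⟨hij, a, ha, hg⟩ =>
  hH i j ⟨hij, a, ha, fun q hq => by obtain ⟨g, hg1, hg2⟩ := hg q hq; exact ⟨g, h hg1, hg2⟩⟩

theorem word_aux (A B K : Matrix (Fin 2) (Fin 2) F) (h2 : (2 : F) ≠ 0) (u v : Fin 2 → F) :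
    let d := (B - 1) *ᵥ ((2 : F)⁻¹ • (u + v))
    let u2 := K *ᵥ (u + d)
    let d2 := (A - 1) *ᵥ ((2 : F)⁻¹ • (u2 + (v + d)))
    u2 + d2 = ((2 : F)⁻¹ * (2 : F)⁻¹) • (((A + 1) * K * (B + 1) + (A - 1) * (B - 1)) *ᵥ u +
        ((A + 1) * K * (B - 1) + (A - 1) * (B + 1)) *ᵥ v) ∧
    (v + d) + d2 = ((2 : F)⁻¹ * (2 : F)⁻¹) • (((A - 1) * K * (B + 1) + (A + 1) * (B - 1)) *ᵥ u +
        ((A - 1) * K * (B - 1) + (A + 1) * (B + 1)) *ᵥ v) := by
  intro d u2 d2
  constructor <;>
  · simp only [d, u2, d2, Matrix.mulVec_add, Matrix.mulVec_smul, Matrix.add_mulVec, Matrix.sub_mulVec,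
      Matrix.one_mulVec, Matrix.mulVec_sub, Matrix.mulVec_mulVec, mul_add, add_mul, sub_mul, mul_sub,
      mul_one, one_mul, smul_add, smul_sub, smul_smul, Matrix.mul_assoc]
    match_scalars <;> field_simp <;> ring

theorem word_mat :
    let A := (D.I : Matrix (Fin 2) (Fin 2) F)
    let B := (D.J : Matrix (Fin 2) (Fin 2) F)
    (A + 1) * (A * B) * (B + 1) + (A - 1) * (B - 1) = (2 : F) • ((1 - A) * (1 - B)) ∧
    (A + 1) * (A * B) * (B - 1) + (A - 1) * (B + 1) = 0 ∧
    (A - 1) * (A * B) * (B + 1) + (A + 1) * (B - 1) = 0 ∧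
    (A - 1) * (A * B) * (B - 1) + (A + 1) * (B + 1) = (2 : F) • ((1 + A) * (1 + B)) := by
  intro A B
  have eA : A * A = -1 := D.mI_sq
  have eB : B * B = -1 := D.mJ_sq
  have e1 : A * (A * B) = -B := by rw [← mul_assoc, eA, neg_mul, one_mul]
  have e2 : A * (A * B) * B = 1 := by rw [e1, neg_mul, eB, neg_neg]
  have e3 : A * B * B = -A := by rw [mul_assoc, eB, mul_neg, mul_one]
  refine ⟨?_, ?_, ?_, ?_⟩ <;>
  · simp only [mul_add, add_mul, sub_mul, mul_sub, mul_one, one_mul, two_smul, e2, e3, e1, neg_mul, eB,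
      neg_neg]
    abel

/-- The word in the elements of a graph. -/
theorem exists_pair_of_graph {H : Subgroup (Vs n F ≃ₗ[F] Vs n F)}
    (hB : ∀ (i : Fin n), ∀ q ∈ D.Q, single i q ∈ H) {i j : Fin n} (h : D.HasGraph H i j) :
    ∃ a : Fin n → Matrix.SpecialLinearGroup (Fin 2) F, ∃ ha : ∀ k, a k ∈ D.N, bl n F a ∈ H ∧
      ∏ k, D.cls ⟨a k, ha k⟩ ≠ 1 := by
  classical
  obtain ⟨hij, c, hc, hg⟩ := h
  obtain ⟨gI, hgI, eI⟩ := hg _ D.hI
  obtain ⟨gJ, hgJ, eJ⟩ := hg _ D.hJ
  set w1 := D.omega * D.I * negOne F with hw1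
  set w2 := c * D.omega * c⁻¹ with hw2
  have hw1N : w1 ∈ D.N := mul_mem (mul_mem D.omega_mem (Subgroup.le_normalizer D.hI))
    (Subgroup.le_normalizer (negOne_mem_sylow D.Q))
  have hw2N : w2 ∈ D.N := mul_mem (mul_mem hc D.omega_mem) (inv_mem hc)
  let a : Fin n → Matrix.SpecialLinearGroup (Fin 2) F := fun k => if k = i then w1 else if k = j then w2 else 1
  have ha : ∀ k, a k ∈ D.N := fun k => by
    simp only [a]; split_ifs
    exacts [hw1N, hw2N, one_mem _]
  have hai : a i = w1 := if_pos rfl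
  have haj : a j = w2 := by simp [a, Ne.symm hij]
  refine ⟨a, ha, ?_, ?_⟩
  · have hmem : gI * single i (D.I * D.J) * gJ ∈ H :=
      mul_mem (mul_mem hgI (hB i _ (mul_mem D.hI D.hJ))) hgJ
    have heq : gI * single i (D.I * D.J) * gJ = bl n F a := by
      refine LinearEquiv.ext fun x => funext fun k => ?_
      rw [LinearEquiv.mul_apply, LinearEquiv.mul_apply, eI, bl_apply, mono_apply, eJ]
      simp only [Equiv.Perm.one_symm, Equiv.refl_symm, Equiv.refl_apply]
      by_cases hki : k = i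
      · subst hki
        rw [gfun_left hij, single_apply_same, single_apply_ne (Ne.symm hij), gfun_left hij,
          gfun_right hij, hai]
        simp only [Matrix.mulVec_add ((c⁻¹ : Matrix.SpecialLinearGroup (Fin 2) F) : Matrix (Fin 2) (Fin 2) F),
          Matrix.mulVec_mulVec _ ((c⁻¹ : Matrix.SpecialLinearGroup (Fin 2) F) : Matrix (Fin 2) (Fin 2) F) (c : Matrix (Fin 2) (Fin 2) F),
          ← Matrix.SpecialLinearGroup.coe_mul, inv_mul_cancel, Matrix.SpecialLinearGroup.coe_one,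
          Matrix.one_mulVec]
        refine ((word_aux _ _ _ D.two _ _).1).trans ?_
        simp only [Matrix.SpecialLinearGroup.coe_mul]
        rw [(D.word_mat).1, (D.word_mat).2.1, Matrix.zero_mulVec, add_zero, Matrix.smul_mulVec,
          smul_smul, hw1, D.omega_mul_I, Matrix.smul_mulVec]
        congr 1
        have := D.two
        field_simp
      by_cases hkj : k = j
      · subst hkj
        rw [gfun_right hij, single_apply_same, single_apply_ne hki, gfun_left hij, gfun_right hij,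
          haj, hw2]
        set C := (c : Matrix (Fin 2) (Fin 2) F)
        set C' := ((c⁻¹ : Matrix.SpecialLinearGroup (Fin 2) F) : Matrix (Fin 2) (Fin 2) F)
        have hCC : C' * C = 1 := by
          rw [← Matrix.SpecialLinearGroup.coe_mul, inv_mul_cancel, Matrix.SpecialLinearGroup.coe_one]
        have hCC' : C * C' = 1 := by
          rw [← Matrix.SpecialLinearGroup.coe_mul, mul_inv_cancel, Matrix.SpecialLinearGroup.coe_one]
        have hv : C' *ᵥ (x k + C *ᵥ (((D.J : Matrix (Fin 2) (Fin 2) F) - 1) *ᵥ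
            ((2 : F)⁻¹ • (x i + C' *ᵥ x k)))) = C' *ᵥ x k + ((D.J : Matrix (Fin 2) (Fin 2) F) - 1) *ᵥ
            ((2 : F)⁻¹ • (x i + C' *ᵥ x k)) := by
          rw [Matrix.mulVec_add, Matrix.mulVec_mulVec _ C' C, hCC, Matrix.one_mulVec]
        rw [hv]
        have e := (word_aux (D.I : Matrix (Fin 2) (Fin 2) F) (D.J : Matrix (Fin 2) (Fin 2) F)
          ((D.I * D.J : Matrix.SpecialLinearGroup (Fin 2) F) : Matrix (Fin 2) (Fin 2) F) D.two (x i) (C' *ᵥ x k)).2
        simp only [Matrix.SpecialLinearGroup.coe_mul] at e ⊢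
        rw [(D.word_mat).2.2.1, (D.word_mat).2.2.2, Matrix.zero_mulVec, zero_add] at e
        have hxk : x k = C *ᵥ (C' *ᵥ x k) := by rw [Matrix.mulVec_mulVec, hCC', Matrix.one_mulVec]
        conv_lhs => arg 1; arg 1; rw [hxk]
        rw [← Matrix.mulVec_add, ← Matrix.mulVec_add, e, ← Matrix.mulVec_mulVec, ← Matrix.mulVec_mulVec]
        congr 1
        rw [Matrix.smul_mulVec, smul_smul, D.coe_omega, Matrix.smul_mulVec]
        congr 1
        have := D.two
        field_simp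
      rw [gfun_other hki hkj, single_apply_ne hki, gfun_other hki hkj]
      simp only [a, if_neg hki, if_neg hkj, Matrix.SpecialLinearGroup.coe_one, Matrix.one_mulVec]
      rfl
    exact heq ▸ hmem
  · have hω : D.cls ⟨D.omega, D.omega_mem⟩ ≠ 1 := fun e => D.omega_not_mem (D.cls_eq_one.1 e)
    have h1 : D.cls ⟨a i, ha i⟩ = D.cls ⟨D.omega, D.omega_mem⟩ := by
      have : (⟨a i, ha i⟩ : D.N) = ⟨D.omega, D.omega_mem⟩ *
          ⟨D.I * negOne F, mul_mem (Subgroup.le_normalizer D.hI) (Subgroup.le_normalizer (negOne_mem_sylow D.Q))⟩ :=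
        Subtype.ext (by simp [hai, hw1, mul_assoc])
      rw [this, map_mul, mul_eq_left, D.cls_eq_one]
      exact mul_mem D.hI (negOne_mem_sylow D.Q)
    have h2 : D.cls ⟨a j, ha j⟩ = D.cls ⟨D.omega, D.omega_mem⟩ := by
      have : (⟨a j, ha j⟩ : D.N) = ⟨c, hc⟩ * ⟨D.omega, D.omega_mem⟩ * ⟨c, hc⟩⁻¹ :=
        Subtype.ext (by simp [haj, hw2])
      rw [this, map_mul, map_mul, map_inv, mul_comm (D.cls ⟨c, hc⟩), mul_inv_cancel_right]
    rw [Finset.prod_eq_mul i j hij (fun k _ hk => ?_) (fun h => absurd (Finset.mem_univ i) h)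
      (fun h => absurd (Finset.mem_univ j) h), h1, h2]
    · generalize D.cls ⟨D.omega, D.omega_mem⟩ = z at hω ⊢
      revert z
      decide
    · rw [D.cls_eq_one]
      show a k ∈ _
      simp only [a, if_neg hk.1, if_neg hk.2]
      exact one_mem _

/-- Averaging over a transitive 2-group of permutations. -/
theorem diag_mem {H : Subgroup (Vs n F ≃ₗ[F] Vs n F)}
    (hB : ∀ (i : Fin n), ∀ q ∈ D.Q, single i q ∈ H) {T : Subgroup (Equiv.Perm (Fin n))}
    (hT : IsPGroup 2 T) (hTH : ∀ p ∈ T, mono 1 p ∈ H) (htr : ∀ i j : Fin n, ∃ p ∈ T, p i = j)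
    {a : Fin n → Matrix.SpecialLinearGroup (Fin 2) F} (ha : ∀ k, a k ∈ D.N) (hmem : bl n F a ∈ H)
    (hne : ∏ k, D.cls ⟨a k, ha k⟩ ≠ 1) {y : Matrix.SpecialLinearGroup (Fin 2) F} (hy : y ∈ D.N) :
    bl n F (fun _ => y) ∈ H := by
  classical
  haveI : Fact (Nat.Prime 2) := ⟨Nat.prime_two⟩
  let Hc : Subgroup (Fin n → Multiplicative (ZMod 3)) :=
    { carrier := {f | ∃ b : Fin n → D.N, bl n F (fun k => (b k : Matrix.SpecialLinearGroup (Fin 2) F)) ∈ H ∧
        (fun k => D.cls (b k)) = f}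
      one_mem' := ⟨1, by
        rw [show (fun k => ((1 : Fin n → D.N) k : Matrix.SpecialLinearGroup (Fin 2) F)) = 1 from rfl, map_one]
        exact one_mem H, by funext k; exact map_one _⟩
      mul_mem' := by
        rintro _ _ ⟨b, hb, rfl⟩ ⟨b', hb', rfl⟩
        refine ⟨b * b', ?_, by funext k; exact map_mul _ _ _⟩
        have := mul_mem hb hb'
        rwa [← map_mul] at this
      inv_mem' := by
        rintro _ ⟨b, hb, rfl⟩
        refine ⟨b⁻¹, ?_, by funext k; exact map_inv _ _⟩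
        have := inv_mem hb
        rwa [← map_inv] at this }
  set f : Fin n → Multiplicative (ZMod 3) := fun k => D.cls ⟨a k, ha k⟩ with hf
  have hfp : ∀ p ∈ T, (fun k => f (p.symm k)) ∈ Hc := by
    intro p hp
    refine ⟨fun k => ⟨a (p.symm k), ha _⟩, ?_, rfl⟩
    have := mul_mem (mul_mem (hTH p hp) hmem) (inv_mem (hTH p hp))
    refine (congrArg (· ∈ H) ?_).mp this
    rw [mul_inv_eq_iff_eq_mul, bl_apply, bl_apply, mono_mul, mono_mul, mul_one, one_mul]
    congr 1
    funext k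
    simp
  let S : Fin n → Multiplicative (ZMod 3) := fun k => ∏ p : T, f ((p : Equiv.Perm (Fin n)).symm k)
  have hS : S ∈ Hc := by
    have : S = ∏ p : T, fun k => f ((p : Equiv.Perm (Fin n)).symm k) := by
      funext k; rw [Finset.prod_apply]
    rw [this]
    exact prod_mem fun p _ => hfp p p.2
  have hconst : ∀ k l, S k = S l := by
    intro k l
    obtain ⟨r, hr, rfl⟩ := htr k l
    refine Fintype.prod_equiv (Equiv.mulLeft (⟨r, hr⟩ : T)) _ _ fun p => ?_
    show f _ = f (((r * (p : Equiv.Perm (Fin n)))).symm (r k))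
    congr 1
    show _ = (p : Equiv.Perm (Fin n)).symm (r.symm (r k))
    rw [Equiv.symm_apply_apply]
  rcases Nat.eq_zero_or_pos n with rfl | hn
  · exact absurd (Finset.prod_of_isEmpty _) hne
  let k0 : Fin n := ⟨0, hn⟩
  have hpow : S k0 ^ n = (∏ k, f k) ^ Nat.card T := by
    have e : ∏ k, S k = ∏ p : T, ∏ k, f ((p : Equiv.Perm (Fin n)).symm k) := Finset.prod_comm
    rw [Finset.prod_congr rfl (fun k _ => hconst k k0), Finset.prod_const, Finset.card_univ,
      Fintype.card_fin,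
      Finset.prod_congr rfl (fun (p : T) _ => Equiv.prod_comp (p : Equiv.Perm (Fin n)).symm f),
      Finset.prod_const, Finset.card_univ, ← Nat.card_eq_fintype_card] at e
    exact e
  have hS1 : S k0 ≠ 1 := by
    intro e
    rw [e, one_pow] at hpow
    obtain ⟨m, hm⟩ := hT.exists_card_eq
    rw [hm] at hpow
    refine hne (orderOf_eq_one_iff.1 (Nat.eq_one_of_dvd_coprimes ?_
      (orderOf_dvd_of_pow_eq_one hpow.symm) (orderOf_dvd_natCard _)))
    rw [Nat.card_congr (Multiplicative.toAdd), Nat.card_zmod]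
    exact Nat.Coprime.pow_left _ (by norm_num)
  obtain ⟨m, hm⟩ : ∃ m : ℕ, D.cls ⟨y, hy⟩ = S k0 ^ m := by
    generalize S k0 = z at hS1 ⊢
    generalize D.cls ⟨y, hy⟩ = w
    have h3 : ∀ z w : Multiplicative (ZMod 3), z ≠ 1 → w = z ^ 0 ∨ w = z ^ 1 ∨ w = z ^ 2 := by decide
    rcases h3 z w hS1 with h | h | h
    exacts [⟨0, h⟩, ⟨1, h⟩, ⟨2, h⟩]
  obtain ⟨b, hb, hbe⟩ := pow_mem hS m
  -- correct by the Sylow subgroup
  have hq : ∀ k, (b k : Matrix.SpecialLinearGroup (Fin 2) F)⁻¹ * y ∈ D.Q := fun k => by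
    refine (D.cls_eq_one (a := (b k)⁻¹ * ⟨y, hy⟩)).1 ?_
    rw [map_mul, map_inv, congrFun hbe k, Pi.pow_apply, hconst k k0, hm, inv_mul_cancel]
  have hBall : ∀ c : Fin n → Matrix.SpecialLinearGroup (Fin 2) F, (∀ k, c k ∈ D.Q) → bl n F c ∈ H := by
    intro c hc
    exact Subgroup.pi_mem_of_mulSingle_mem (H := H.comap (bl n F)) c fun k => hB k _ (hc k)
  have := mul_mem hb (hBall _ hq)
  rwa [← map_mul, show ((fun k => (b k : Matrix.SpecialLinearGroup (Fin 2) F)) *
    fun k => (b k : Matrix.SpecialLinearGroup (Fin 2) F)⁻¹ * y) = fun _ => y from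
      funext fun k => mul_inv_cancel_left _ _] at this

end QData

end Cfsg.Agent.Classical.OddSp
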