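import Cfsg.Agent.Lib.Classical.OddSp.Planes
import Cfsg.Agent.Lib.Classical.OddSp.Graph

/-!
# Conjugates of the reflections inside `Mon`
-/

set_option autoImplicit false
set_option linter.unusedSectionVars false
set_option linter.unusedSimpArgs false
set_option linter.style.haveILetI false

namespace Cfsg.Agent.Classical.OddSp

open Matrix
open TorusNormalizer (negOne negOne_sq coe_negOne)
open Cfsg.Agent.Classical.OddIndex

universe u

/-- Two 2-subgroups: one is conjugate into a 2-subgroup containing the other. -/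
theorem exists_conj_two {G : Type*} [Group G] {K B P : Subgroup G} [Finite K] (hBK : B ≤ K)
    (hB : IsPGroup 2 B) (hPK : P ≤ K) (hP : IsPGroup 2 P) :
    ∃ R : Subgroup G, R ≤ K ∧ IsPGroup 2 R ∧ B ≤ R ∧ ∃ x ∈ K, ∀ y ∈ P, x * y * x⁻¹ ∈ R := by
  haveI : Fact (Nat.Prime 2) := ⟨Nat.prime_two⟩
  obtain ⟨S1, h1⟩ := (hB.comap_subtype (K := K)).exists_le_sylow
  obtain ⟨S2, h2⟩ := (hP.comap_subtype (K := K)).exists_le_sylow
  obtain ⟨x, hx⟩ := MulAction.exists_smul_eq K S2 S1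
  refine ⟨(S1 : Subgroup K).map K.subtype, Subgroup.map_subtype_le _, S1.2.map _,
    fun b hb => ⟨⟨b, hBK hb⟩, h1 hb, rfl⟩, x, x.2, fun y hy => ?_⟩
  refine ⟨x * ⟨y, hPK hy⟩ * x⁻¹, ?_, by simp⟩
  rw [← hx, Sylow.coe_subgroup_smul]
  exact ⟨⟨y, hPK hy⟩, h2 hy, rfl⟩

variable {F : Type u} [Field F] [Fintype F] {n : ℕ}

namespace QData

variable (D : QData F)

/-- The hypotheses of the closedness theorem, with the centralisers of the reflections settled. -/
structure Hyp (D : QData F) (S : Finset (Fin n)) (H : Subgroup (Vs n F ≃ₗ[F] Vs n F)) : Prop where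
  le_iso : H ≤ Iso n F
  le_supp : H ≤ Supp n F S
  mem_single : ∀ i ∈ S, ∀ q ∈ D.Q, single i q ∈ H
  noGraph : D.NoGraph H
  cent : ∀ k ∈ S, ∀ h ∈ H, h * E k = E k * h → h ∈ Mon n F

/-- The conjugates of the reflections. -/
def IsRefl (S : Finset (Fin n)) (H : Subgroup (Vs n F ≃ₗ[F] Vs n F)) (d : Vs n F ≃ₗ[F] Vs n F) : Prop :=
  ∃ m ∈ S, ∃ h ∈ H, h * E m * h⁻¹ = d

theorem mem_pow_card (i : Fin n) {q : Matrix.SpecialLinearGroup (Fin 2) F} (hq : q ∈ D.Q) :
    single i q ^ 8 = 1 := by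
  rw [← map_pow, ← D.card_eight]
  have := congrArg Subtype.val (pow_card_eq_one' (x := (⟨q, hq⟩ : (D.Q : Subgroup _))))
  rw [SubmonoidClass.coe_pow] at this
  rw [this]; exact map_one _

variable {D} {S : Finset (Fin n)} {H : Subgroup (Vs n F ≃ₗ[F] Vs n F)}

theorem Hyp.blk_le (hy : D.Hyp S H) : blk (D.Q : Subgroup _) S ≤ H :=
  OddSp.blk_le fun i hi q hq => hy.mem_single i hi q hq

theorem Hyp.E_mem (hy : D.Hyp S H) {k : Fin n} (hk : k ∈ S) : E k ∈ H :=
  hy.mem_single k hk _ (negOne_mem_sylow D.Q)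

theorem IsRefl.mem (hy : D.Hyp S H) {d : Vs n F ≃ₗ[F] Vs n F} (hd : IsRefl S H d) : d ∈ H := by
  obtain ⟨m, hm, h, hh, rfl⟩ := hd
  exact mul_mem (mul_mem hh (hy.E_mem hm)) (inv_mem hh)

theorem IsRefl.conj {d g : Vs n F ≃ₗ[F] Vs n F} (hd : IsRefl S H d) (hg : g ∈ H) :
    IsRefl S H (g * d * g⁻¹) := by
  obtain ⟨m, hm, h, hh, rfl⟩ := hd
  exact ⟨m, hm, g * h, mul_mem hg hh, by group⟩

theorem IsRefl.sq {d : Vs n F ≃ₗ[F] Vs n F} (hd : IsRefl S H d) : d * d = 1 := by
  obtain ⟨m, hm, h, hh, rfl⟩ := hd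
  rw [show h * E m * h⁻¹ * (h * E m * h⁻¹) = h * (E m * E m) * h⁻¹ by group, E_mul_self, mul_one,
    mul_inv_cancel]

theorem mem_Mon_of_map_planes {g : Vs n F ≃ₗ[F] Vs n F} (hg : g ∈ Iso n F) (hs : g ∈ Supp n F S)
    (h : ∀ i ∈ S, ∃ j, ∀ v, g (emb i v) ∈ LinearMap.range (emb (F := F) j)) : g ∈ Mon n F :=
  mem_Mon_of_planes hg fun i => by
    by_cases hi : i ∈ S
    · exact h i hi
    · exact ⟨i, fun v => ⟨v, (hs i hi v).symm⟩⟩

/-- A 2-subgroup containing the planes' Sylow subgroups lies in `Mon`. -/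
theorem Hyp.two_le_Mon (hy : D.Hyp S H) {P : Subgroup (Vs n F ≃ₗ[F] Vs n F)} (hP : IsPGroup 2 P)
    (hPH : P ≤ H) (hBP : ∀ i ∈ S, ∀ q ∈ D.Q, single i q ∈ P) : P ≤ Mon n F := by
  haveI : Fact (Nat.Prime 2) := ⟨Nat.prime_two⟩
  haveI := finite_equiv (F := F) (n := n)
  set P0 := (Mon n F).subgroupOf P with hP0
  by_contra hne
  have hlt : P0 < ⊤ := lt_top_iff_ne_top.2 fun e => hne (Subgroup.subgroupOf_eq_top.1 e)
  haveI : Group.IsNilpotent P := hP.isNilpotent
  obtain ⟨x, hxN, hxP⟩ := SetLike.exists_of_lt (Group.normalizerCondition_of_isNilpotent P0 hlt)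
  refine hxP (mem_Mon_of_map_planes (hy.le_iso (hPH x.2)) (hy.le_supp (hPH x.2)) fun i hi => ?_)
  exact map_plane_of_conj D.two D.II
    ((Subgroup.mem_normalizer_iff.1 hxN ⟨_, hBP i hi _ D.hI⟩).1 (single_mem_Mon _ _))

theorem comp_mem_N {P : Subgroup (Vs n F ≃ₗ[F] Vs n F)} (hP : IsPGroup 2 P) (hPS : P ≤ Supp n F S)
    (hBP : ∀ i ∈ S, ∀ q ∈ D.Q, single i q ∈ P) {a : Fin n → Matrix.SpecialLinearGroup (Fin 2) F}
    {π : Equiv.Perm (Fin n)} (hm : mono a π ∈ P) (j : Fin n) : a j ∈ D.N := by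
  by_cases hj : j ∈ S
  swap
  · rw [(mono_supp (hPS hm) hj).2]; exact one_mem _
  obtain ⟨i, rfl⟩ := π.surjective j
  have hi : i ∈ S := by
    by_contra h
    rw [(mono_supp (hPS hm) h).1] at hj
    exact h hj
  have hQ' : P.comap (single (π i)) = (D.Q : Subgroup _) :=
    sylow_eq_of_le D.Q (hP.comap_of_injective _ (single_injective _)) fun q hq => hBP _ hj q hq
  refine Subgroup.mem_normalizer_fintype fun q hq => ?_
  have : single (π i) (a (π i) * q * (a (π i))⁻¹) ∈ P := by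
    rw [← mono_conj_single]
    exact mul_mem (mul_mem hm (hBP i hi q hq)) (inv_mem hm)
  exact hQ' ▸ this

theorem mono_pow_fixed {a : Fin n → Matrix.SpecialLinearGroup (Fin 2) F} {π : Equiv.Perm (Fin n)}
    {k : Fin n} (hk : π k = k) (e : ℕ) :
    ∃ b σ, mono a π ^ e = mono b σ ∧ σ k = k ∧ b k = a k ^ e := by
  induction e with
  | zero => exact ⟨1, 1, by rw [pow_zero, mono_one], rfl, by rw [pow_zero]; rfl⟩
  | succ e ih =>
    obtain ⟨b, σ, he, hσ, hb⟩ := ih
    refine ⟨_, σ * π, by rw [pow_succ, he, mono_mul], by rw [Equiv.Perm.mul_apply, hk, hσ], ?_⟩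
    show b k * a (σ.symm k) = _
    rw [show σ.symm k = k by rw [Equiv.symm_apply_eq, hσ], hb, pow_succ]

theorem comp_mem_Q {P : Subgroup (Vs n F ≃ₗ[F] Vs n F)} (hP : IsPGroup 2 P) (hPS : P ≤ Supp n F S)
    (hBP : ∀ i ∈ S, ∀ q ∈ D.Q, single i q ∈ P) {a : Fin n → Matrix.SpecialLinearGroup (Fin 2) F}
    {π : Equiv.Perm (Fin n)} (hm : mono a π ∈ P) {k : Fin n} (hk : π k = k) : a k ∈ D.Q := by
  obtain ⟨e, he⟩ := hP ⟨_, hm⟩
  obtain ⟨b, σ, h1, -, hb⟩ := mono_pow_fixed (a := a) hk (2 ^ e)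
  have h2 : mono b σ = mono 1 1 := by
    rw [mono_one, ← h1]; exact congrArg Subtype.val he
  rw [(mono_injective h2).1] at hb
  exact mem_of_two_element D.Q (a := e) hb.symm (comp_mem_N hP hPS hBP hm k)

/-- An involution of `Mon` moving a plane's worth is a reflection or exchanges two planes. -/
theorem invol_small (h2 : (2 : F) ≠ 0) {a : Fin n → Matrix.SpecialLinearGroup (Fin 2) F}
    {π : Equiv.Perm (Fin n)} (hsq : mono a π * mono a π = 1) (hne : mono a π ≠ 1)
    (hr : Module.finrank F (mv (mono a π)) ≤ 2) :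
    (∃ l, mono a π = E l) ∨ ∃ i j, i ≠ j ∧ π i = j ∧ π j = i ∧ a i * a j = 1 ∧
      ∀ k, k ≠ i → k ≠ j → π k = k ∧ a k = 1 := by
  classical
  obtain ⟨ha, hπ2⟩ := mono_injective ((mono_mul a a π π).symm.trans (hsq.trans mono_one.symm))
  by_cases hπ : π = 1
  · subst hπ
    left
    have hpm : ∀ j, a j = 1 ∨ a j = negOne F := fun j => by
      refine SLTwo.eq_pm_of_sq h2 ?_
      have := congrFun ha j
      exact this
    obtain ⟨l, hl⟩ : ∃ l, a l ≠ 1 := not_forall.1 fun e => hne (by rw [show a = 1 from funext e, mono_one])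
    have hfull : ∀ j, a j ≠ 1 → LinearMap.range (emb j) ≤ mv (mono a 1) := by
      rintro j hj _ ⟨w, rfl⟩
      refine ⟨emb j ((-(2 : F)⁻¹) • w), ?_⟩
      rw [LinearMap.sub_apply, LinearEquiv.coe_coe, LinearMap.id_apply, mono_emb, Equiv.Perm.one_apply,
        (hpm j).resolve_left hj, negOne_mulVec, ← map_sub]
      congr 1
      funext b
      simp only [Pi.sub_apply, Pi.neg_apply, Pi.smul_apply, smul_eq_mul]
      field_simp
      ring
    have heq : LinearMap.range (emb l) = mv (mono a 1) :=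
      Submodule.eq_of_le_of_finrank_le (hfull l hl) (by rw [finrank_range_emb]; exact hr)
    refine ⟨l, ?_⟩
    rw [E, single_eq]
    congr 1
    funext j
    by_cases hj : j = l
    · subst hj; rw [Pi.mulSingle_eq_same]; exact (hpm j).resolve_left hl
    rw [Pi.mulSingle_eq_of_ne hj]
    by_contra haj
    exact hj (eq_of_mem_range one_zero_ne (heq ▸ hfull j haj ⟨_, rfl⟩))
  right
  obtain ⟨i, hi⟩ : ∃ i, π i ≠ i := not_forall.1 fun e => hπ (Equiv.ext e)
  have hback : π (π i) = i := by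
    have := congrArg (fun σ : Equiv.Perm (Fin n) => σ i) hπ2
    simpa using this
  refine ⟨i, π i, Ne.symm hi, rfl, hback, ?_, ?_⟩
  · have := congrFun ha i
    rwa [show π.symm i = π i by rw [Equiv.symm_apply_eq, hback]] at this
  let f : (Fin 2 → F) →ₗ[F] Vs n F := ((mono a π).toLinearMap - LinearMap.id) ∘ₗ emb i
  have hf : Function.Injective f := by
    refine (injective_iff_map_eq_zero f).2 fun v hv => ?_
    have := congrFun hv i
    simp only [f, LinearMap.comp_apply, LinearMap.sub_apply, LinearEquiv.coe_coe,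
      LinearMap.id_apply, Pi.sub_apply, Pi.zero_apply, mono_emb, emb_ne (Ne.symm hi), emb_same,
      zero_sub, neg_eq_zero] at this
    exact this
  have heq : LinearMap.range f = mv (mono a π) :=
    Submodule.eq_of_le_of_finrank_le (by rintro _ ⟨v, rfl⟩; exact sub_mem_mv _ _)
      (by rw [LinearMap.finrank_range_of_inj hf]; simpa using hr)
  intro k hki hkj
  have hzero : ∀ y ∈ mv (mono a π), y k = 0 := by
    intro y hy
    rw [← heq] at hy
    obtain ⟨v, rfl⟩ := hy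
    simp [f, mono_emb, emb_ne hki, emb_ne hkj]
  have hπk : π k = k := by
    by_contra hk
    have := hzero _ (sub_mem_mv (mono a π) (emb k ![1, 0]))
    rw [mono_emb, Pi.sub_apply, emb_ne (Ne.symm hk), emb_same, zero_sub, neg_eq_zero] at this
    exact one_zero_ne this
  refine ⟨hπk, Subtype.ext (Matrix.ext_of_mulVec_single fun b => ?_)⟩
  have := hzero _ (sub_mem_mv (mono a π) (emb k (Pi.single b 1)))
  rw [mono_emb, hπk, Pi.sub_apply, emb_same, emb_same, sub_eq_zero] at this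
  rw [Matrix.SpecialLinearGroup.coe_one, Matrix.one_mulVec]
  exact this

/-- The graph made by a conjugate of a reflection exchanging two planes. -/
theorem hasGraph_of_conj (hy : D.Hyp S H) {i j k : Fin n} (hij : i ≠ j) {b : Matrix.SpecialLinearGroup (Fin 2) F}
    (hb : b ∈ D.N) {h : Vs n F ≃ₗ[F] Vs n F} (hh : h ∈ H)
    (hW : ∀ v, ∃ w, h (emb k v) = emb i w + emb j (((negOne F * b : Matrix.SpecialLinearGroup (Fin 2) F) :
      Matrix (Fin 2) (Fin 2) F) *ᵥ w))
    (hQ : ∀ q ∈ D.Q, ∃ q' ∈ D.Q, ∀ v, (single i q * single j (b * q * b⁻¹)) (h (emb k v)) =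
      h (emb k ((q' : Matrix (Fin 2) (Fin 2) F) *ᵥ v)))
    (hk : k ∈ S) : D.HasGraph H i j := by
  set a : Matrix.SpecialLinearGroup (Fin 2) F := negOne F * b with ha
  refine ⟨hij, a, mul_mem (Subgroup.le_normalizer (negOne_mem_sylow D.Q)) hb, fun q hq => ?_⟩
  choose c hc using hW
  obtain ⟨q', hq', heq⟩ := hQ q hq
  refine ⟨h * single k q' * h⁻¹, mul_mem (mul_mem hh (hy.mem_single k hk q' hq')) (inv_mem hh), ?_⟩
  have hI := hy.le_iso hh
  have hinj : Function.Injective c := fun v w e => by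
    refine emb_injective k (h.injective ?_)
    rw [hc, hc, e]
  have hsur : Function.Surjective c := Finite.surjective_of_injective hinj
  have hadd : ∀ v w, c (v + w) = c v + c w := fun v w => by
    have e := congrFun (congrArg h (map_add (emb k) v w)) i
    rw [map_add h, Pi.add_apply, hc, hc, hc] at e
    simpa [emb_same, emb_ne hij] using e
  set A := (a : Matrix (Fin 2) (Fin 2) F)
  set A' := ((a⁻¹ : Matrix.SpecialLinearGroup (Fin 2) F) : Matrix (Fin 2) (Fin 2) F)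
  have hAA : A * A' = 1 := by
    rw [← Matrix.SpecialLinearGroup.coe_mul, mul_inv_cancel, Matrix.SpecialLinearGroup.coe_one]
  -- the coordinate of the preimage
  have key : ∀ y : Vs n F, c ((h⁻¹ y) k) = (2 : F)⁻¹ • (y i + A' *ᵥ y j) := by
    intro y
    refine sub_eq_zero.1 (eq_zero_of_om fun w => ?_)
    obtain ⟨v, rfl⟩ := hsur w
    have hy' : h (h⁻¹ y) = y := by rw [← LinearEquiv.mul_apply, mul_inv_cancel]; rfl
    have e1 := hI (emb k v) (h⁻¹ y)
    rw [hy', hc, map_add, LinearMap.add_apply, Bf_emb, Bf_emb, Bf_emb] at e1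
    have e2 := hI (emb k v) (emb k ((h⁻¹ y) k))
    simp only [hc, map_add, LinearMap.add_apply, Bf_emb, emb_same, emb_ne hij, emb_ne (Ne.symm hij),
      om_mulVec, A, Matrix.SpecialLinearGroup.det_coe, one_mul] at e2
    have e3 : om (A *ᵥ c v) (y j) = om (c v) (A' *ᵥ y j) := by
      conv_lhs => rw [show y j = A *ᵥ (A' *ᵥ y j) by rw [Matrix.mulVec_mulVec, hAA, Matrix.one_mulVec]]
      rw [om_mulVec, Matrix.SpecialLinearGroup.det_coe, one_mul]
    rw [e3] at e1
    have h2 := D.two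
    simp only [om, Pi.sub_apply, Pi.smul_apply, Pi.add_apply, Pi.zero_apply, smul_eq_mul] at e1 e2 ⊢
    field_simp
    linear_combination e1 - e2
  have hq'c : ∀ v, c ((q' : Matrix (Fin 2) (Fin 2) F) *ᵥ v) = (q : Matrix (Fin 2) (Fin 2) F) *ᵥ c v := by
    intro v
    have e := congrFun (heq v) i
    rw [LinearEquiv.mul_apply, single_apply_same, single_apply_ne hij, hc, hc, Pi.add_apply,
      Pi.add_apply, emb_same, emb_same, emb_ne hij, emb_ne hij, add_zero, add_zero] at e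
    exact e.symm
  intro y
  have hmov : (h * single k q' * h⁻¹) y =
      y + h (emb k (((q' : Matrix (Fin 2) (Fin 2) F) - 1) *ᵥ (h⁻¹ y) k)) := by
    rw [LinearEquiv.mul_apply, LinearEquiv.mul_apply]
    conv_rhs => arg 1; rw [show y = h (h⁻¹ y) by rw [← LinearEquiv.mul_apply, mul_inv_cancel]; rfl]
    rw [← map_add]
    congr 1
    funext m
    by_cases hm : m = k
    · subst hm
      rw [single_apply_same, Pi.add_apply, emb_same, Matrix.sub_mulVec, Matrix.one_mulVec,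
        add_sub_cancel]
    · rw [single_apply_ne hm, Pi.add_apply, emb_ne hm, add_zero]
  have hd : c (((q' : Matrix (Fin 2) (Fin 2) F) - 1) *ᵥ (h⁻¹ y) k) =
      ((q : Matrix (Fin 2) (Fin 2) F) - 1) *ᵥ ((2 : F)⁻¹ • (y i + A' *ᵥ y j)) := by
    have e := hadd (((q' : Matrix (Fin 2) (Fin 2) F) - 1) *ᵥ (h⁻¹ y) k) ((h⁻¹ y) k)
    rw [Matrix.sub_mulVec, Matrix.one_mulVec, sub_add_cancel, hq'c] at e
    rw [Matrix.sub_mulVec ((q' : Matrix (Fin 2) (Fin 2) F)), Matrix.one_mulVec, ← key,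
      Matrix.sub_mulVec, Matrix.one_mulVec]
    exact eq_sub_of_add_eq e.symm
  rw [hmov, hc, hd, gfun, add_assoc]

/-- A conjugate of a reflection lying in `Mon` is a reflection. -/
theorem Hyp.refl_eq (hy : D.Hyp S H) {d : Vs n F ≃ₗ[F] Vs n F} (hd : IsRefl S H d)
    (hdM : d ∈ Mon n F) : ∃ l ∈ S, d = E l := by
  classical
  haveI := finite_equiv (F := F) (n := n)
  have hsq := hd.sq
  have hdH := hd.mem hy
  obtain ⟨m, hm, h, hh, hhd⟩ := hd
  have h1 : d ≠ 1 := fun e => E_ne_one D.two m (by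
    rw [e, mul_inv_eq_one] at hhd; exact mul_eq_left.1 hhd)
  have hr : Module.finrank F (mv d) ≤ 2 := by
    rw [← hhd, finrank_mv_conj, mv_E D.two, finrank_range_emb]
  obtain ⟨a0, π0, rfl⟩ := hdM
  rcases invol_small D.two hsq h1 hr with ⟨l, hl⟩ | hswap
  · refine ⟨l, ?_, hl⟩
    by_contra hlS
    have e := (hy.le_supp hdH) l hlS ![1, 0]
    rw [hl, E_apply, emb_same, sub_eq_self, smul_eq_zero] at e
    exact one_zero_ne (emb_injective l ((e.resolve_left D.two).trans (map_zero _).symm))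
  -- conjugate into a 2-group containing the product of the `Q`
  exfalso
  obtain ⟨P0, hP0, hP0two, hBP0, x, hx, hxd⟩ := exists_conj_two (K := H ⊓ Mon n F)
    (le_inf hy.blk_le (OddSp.blk_le fun i _ q _ => single_mem_Mon i q))
    (blk_isPGroup D.Q.2 S) (P := Subgroup.zpowers (mono a0 π0))
    (Subgroup.zpowers_le.2 ⟨hdH, mono_mem_Mon _ _⟩)
    (fun g => ⟨1, by
      obtain ⟨z, hz⟩ := g.2
      refine Subtype.ext ?_
      show (g : Vs n F ≃ₗ[F] Vs n F) ^ 2 = 1
      rw [← hz, ← zpow_natCast, zpow_comm, zpow_natCast, sq, hsq, _root_.one_zpow]⟩)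
  have hxd' := hxd _ (Subgroup.mem_zpowers _)
  obtain ⟨a, π, hd'⟩ := (hP0 hxd').2
  have hh' : x * h ∈ H := mul_mem hx.1 hh
  have hhd' : x * h * E m * (x * h)⁻¹ = mono a π := by rw [hd', ← hhd]; group
  have hsq' : mono a π * mono a π = 1 := by
    rw [hd', show x * mono a0 π0 * x⁻¹ * (x * mono a0 π0 * x⁻¹) = x * (mono a0 π0 * mono a0 π0) * x⁻¹ by group,
      hsq, mul_one, mul_inv_cancel]
  have h1' : mono a π ≠ 1 := fun e => h1 (by
    rw [hd', mul_inv_eq_one] at e; exact mul_eq_left.1 e)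
  have hr' : Module.finrank F (mv (mono a π)) ≤ 2 := by rw [hd', finrank_mv_conj]; exact hr
  have hBP : ∀ i ∈ S, ∀ q ∈ D.Q, single i q ∈ P0 := fun i hi q hq => hBP0 (single_mem_blk hi hq)
  have hPS : P0 ≤ Supp n F S := hP0.trans (inf_le_left.trans hy.le_supp)
  have hdP : mono a π ∈ P0 := hd' ▸ hxd'
  have haN := comp_mem_N hP0two hPS hBP hdP
  rcases invol_small D.two hsq' h1' hr' with ⟨l, hl⟩ | ⟨i, j, hij, hπi, hπj, haij, hfix⟩
  · -- a swap is not conjugate in `Mon` to a reflection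
    obtain ⟨i, j, hij, hπi, -⟩ := hswap
    obtain ⟨b, σ, hbσ⟩ := hx.2
    have e : mono b σ * mono a0 π0 * (mono b σ)⁻¹ = E l := by rw [hbσ, ← hl, hd']
    rw [mul_inv_eq_iff_eq_mul, E, single_eq, mono_mul, mono_mul, one_mul] at e
    have := congrArg (fun τ : Equiv.Perm (Fin n) => τ i) (mono_injective e).2
    simp only [Equiv.Perm.mul_apply, hπi] at this
    exact hij (σ.injective this).symm
  have hiS : i ∈ S := by
    by_contra hiS
    exact hij ((mono_supp (hPS hdP) hiS).1.symm.trans hπi)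
  have hjS : j ∈ S := by
    by_contra hjS
    exact hij (hπj.symm.trans (mono_supp (hPS hdP) hjS).1)
  set b := a j with hb
  have hbN : b ∈ D.N := haN j
  have hai : a i = b⁻¹ := eq_inv_of_mul_eq_one_left haij
  -- the diagonal group
  let u : (D.Q : Subgroup (Matrix.SpecialLinearGroup (Fin 2) F)) →* (Vs n F ≃ₗ[F] Vs n F) :=
    MonoidHom.mk' (fun q => single i (q : Matrix.SpecialLinearGroup (Fin 2) F) * single j (b * (q : Matrix.SpecialLinearGroup (Fin 2) F) * b⁻¹))
      (fun q q' => by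
        rw [Subgroup.coe_mul, map_mul, show b * ((q : Matrix.SpecialLinearGroup (Fin 2) F) * q') * b⁻¹ =
            (b * (q : Matrix.SpecialLinearGroup (Fin 2) F) * b⁻¹) * (b * (q' : Matrix.SpecialLinearGroup (Fin 2) F) * b⁻¹) by group,
          map_mul]
        exact (show Commute _ _ from single_comm hij _ _).mul_mul_mul_comm _ _)
  have huH : ∀ q, u q ∈ H := fun q => mul_mem (hy.mem_single i hiS _ q.2)
    (hy.mem_single j hjS _ ((Subgroup.mem_normalizer_iff.1 hbN _).1 q.2))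
  have hud : ∀ q, mono a π * u q = u q * mono a π := by
    intro q
    refine comm_of_conj_eq ?_
    show mono a π * (single i _ * single j _) * (mono a π)⁻¹ = single i _ * single j _
    rw [show ∀ s t : Vs n F ≃ₗ[F] Vs n F, mono a π * (s * t) * (mono a π)⁻¹ =
        (mono a π * s * (mono a π)⁻¹) * (mono a π * t * (mono a π)⁻¹) from fun s t => by group,
      mono_conj_single, mono_conj_single, hπi, hπj, hai, ← hb, ← single_comm hij]
    congr 2
    group
  -- move it into a 2-group containing the `Q`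
  obtain ⟨C, hCmem⟩ : ∃ C : Subgroup (Vs n F ≃ₗ[F] Vs n F), ∀ g, g ∈ C ↔ g ∈ H ∧ g * E m = E m * g :=
    ⟨H ⊓ Subgroup.centralizer {E m}, fun g => by
      rw [Subgroup.mem_inf, Subgroup.mem_centralizer_singleton_iff]⟩
  obtain ⟨P, hPC, hP, hBP', y, hy', hyP⟩ := exists_conj_two (K := C) (B := blk (D.Q : Subgroup _) S)
    (OddSp.blk_le fun i hi q hq => (hCmem _).2 ⟨hy.mem_single i hi q hq, (E_comm_single m i q).symm⟩)
    (blk_isPGroup D.Q.2 S) (P := u.range.map (MulAut.conj (x * h)⁻¹).toMonoidHom) (by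
      rintro _ ⟨_, ⟨q, rfl⟩, rfl⟩
      rw [MulEquiv.coe_toMonoidHom, MulAut.conj_apply, inv_inv, hCmem]
      refine ⟨mul_mem (mul_mem (inv_mem hh') (huH q)) hh', ?_⟩
      have e1 : E m = (x * h)⁻¹ * mono a π * (x * h) := by rw [← hhd']; group
      rw [e1, show (x * h)⁻¹ * u q * (x * h) * ((x * h)⁻¹ * mono a π * (x * h)) = (x * h)⁻¹ * (u q * mono a π) * (x * h) by group,
        ← hud]
      group)
    ((IsPGroup.of_surjective D.Q.2 u.rangeRestrict u.rangeRestrict_surjective).map _)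
  obtain ⟨hy'H, hy'E⟩ := (hCmem _).1 hy'
  set g := x * h * y⁻¹ with hg
  have hgH : g ∈ H := mul_mem hh' (inv_mem hy'H)
  have hge : g * E m * g⁻¹ = mono a π := by
    rw [← hhd', hg]
    have : y⁻¹ * E m * y = E m := by rw [mul_assoc, ← hy'E, inv_mul_cancel_left]
    calc x * h * y⁻¹ * E m * (x * h * y⁻¹)⁻¹ = x * h * (y⁻¹ * E m * y) * (x * h)⁻¹ := by group
      _ = _ := by rw [this]
  refine hy.noGraph i j (hasGraph_of_conj hy hij hbN hgH (k := m) (fun v => ?_) ?_ hm)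
  · have hmv : g (emb m v) ∈ mv (mono a π) := by
      rw [← hge, mv_conj, mv_E D.two]
      exact ⟨_, ⟨v, rfl⟩, rfl⟩
    obtain ⟨z, hz⟩ := hmv
    refine ⟨((a i : Matrix (Fin 2) (Fin 2) F) *ᵥ z j - z i), ?_⟩
    rw [← hz, LinearMap.sub_apply, LinearEquiv.coe_coe, LinearMap.id_apply]
    funext k
    rw [Pi.sub_apply, mono_apply, Pi.add_apply]
    by_cases hki : k = i
    · subst hki
      rw [show π.symm k = j by rw [Equiv.symm_apply_eq, hπj], emb_same, emb_ne hij, add_zero]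
    by_cases hkj : k = j
    · subst hkj
      rw [show π.symm k = i by rw [Equiv.symm_apply_eq, hπi], emb_same, emb_ne hki, zero_add, ← hb,
        hai, Matrix.SpecialLinearGroup.coe_mul, coe_negOne, neg_one_mul, Matrix.neg_mulVec,
        Matrix.mulVec_sub, Matrix.mulVec_mulVec, ← Matrix.SpecialLinearGroup.coe_mul, mul_inv_cancel,
        Matrix.SpecialLinearGroup.coe_one, Matrix.one_mulVec]
      abel
    obtain ⟨hπk, hak⟩ := hfix k hki hkj
    rw [show π.symm k = k by rw [Equiv.symm_apply_eq, hπk], hak, Matrix.SpecialLinearGroup.coe_one,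
      Matrix.one_mulVec, sub_self, emb_ne hki, emb_ne hkj, add_zero]
  · intro q hq
    have hw := hyP _ ⟨_, ⟨⟨q, hq⟩, rfl⟩, rfl⟩
    rw [MulEquiv.coe_toMonoidHom, MulAut.conj_apply, inv_inv] at hw
    obtain ⟨hwH, hwE⟩ := (hCmem _).1 (hPC hw)
    obtain ⟨c, σ, hcσ⟩ := hy.cent m hm _ hwH hwE
    have hσ : σ m = m := by
      have hp := preserve_of_comm D.two hwE ![1, 0]
      rw [← hcσ, mono_emb] at hp
      refine eq_of_mem_range (fun e => (one_zero_ne (F := F)) ?_) hp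
      have := congrArg (fun t => (((c (σ m))⁻¹ : Matrix.SpecialLinearGroup (Fin 2) F) : Matrix (Fin 2) (Fin 2) F) *ᵥ t) e
      simpa only [Matrix.mulVec_mulVec, ← Matrix.SpecialLinearGroup.coe_mul, inv_mul_cancel,
        Matrix.SpecialLinearGroup.coe_one, Matrix.one_mulVec, Matrix.mulVec_zero] using this
    refine ⟨c m, comp_mem_Q hP ((hPC.trans fun g hg => ((hCmem g).1 hg).1).trans hy.le_supp)
      (fun i hi q hq => hBP' (single_mem_blk hi hq)) (hcσ ▸ hw) hσ, fun v => ?_⟩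
    have hu : u ⟨q, hq⟩ = g * mono c σ * g⁻¹ := by rw [hcσ, hg]; group
    have e : single i q * single j (b * q * b⁻¹) = g * mono c σ * g⁻¹ := hu
    rw [e, LinearEquiv.mul_apply, LinearEquiv.mul_apply, ← LinearEquiv.mul_apply g⁻¹ g,
      inv_mul_cancel, LinearEquiv.coe_one, id_eq, mono_emb, hσ]

/-- Two conjugates of reflections in one 2-subgroup commute. -/
theorem Hyp.comm_of_two (hy : D.Hyp S H) {P : Subgroup (Vs n F ≃ₗ[F] Vs n F)} (hP : IsPGroup 2 P)
    (hPH : P ≤ H) {d d' : Vs n F ≃ₗ[F] Vs n F} (hd : IsRefl S H d) (hd' : IsRefl S H d')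
    (hdP : d ∈ P) (hd'P : d' ∈ P) : d * d' = d' * d := by
  haveI := finite_equiv (F := F) (n := n)
  obtain ⟨R, hR, hR2, hBR, x, hx, hxP⟩ := exists_conj_two hy.blk_le (blk_isPGroup D.Q.2 S) hPH hP
  have hRM := hy.two_le_Mon hR2 hR fun i hi q hq => hBR (single_mem_blk hi hq)
  obtain ⟨l, -, e⟩ := hy.refl_eq (hd.conj hx) (hRM (hxP d hdP))
  obtain ⟨l', -, e'⟩ := hy.refl_eq (hd'.conj hx) (hRM (hxP d' hd'P))
  have h := E_comm (F := F) l l'
  rw [← e, ← e', show x * d * x⁻¹ * (x * d' * x⁻¹) = x * (d * d') * x⁻¹ by group,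
    show x * d' * x⁻¹ * (x * d * x⁻¹) = x * (d' * d) * x⁻¹ by group] at h
  exact mul_left_cancel (mul_right_cancel h)

end QData

end Cfsg.Agent.Classical.OddSp
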