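import Mathlib

/-!
# A sum of symplectic planes

`Vs ι F` is the orthogonal sum of the planes indexed by `ι`; `mono a π` are the isometries permuting
the planes.  An element of finite 2-power order at most 4, not an involution, which moves only a
plane is supported on one of the planes.
-/

set_option autoImplicit false
set_option linter.unusedSectionVars false
set_option linter.style.haveILetI false
set_option linter.unusedSimpArgs false

namespace Cfsg.Agent.Classical.OddSp

open Matrix

universe u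

/-- The orthogonal sum of planes. -/
abbrev Vs (n : ℕ) (F : Type u) : Type u := Fin n → Fin 2 → F

variable {F : Type u} [Field F] {n : ℕ}

/-- The form of a plane. -/
def om (x y : Fin 2 → F) : F := x 0 * y 1 - x 1 * y 0

theorem om_mulVec (M : Matrix (Fin 2) (Fin 2) F) (x y : Fin 2 → F) :
    om (M *ᵥ x) (M *ᵥ y) = M.det * om x y := by
  simp only [om, Matrix.mulVec, dotProduct, Fin.sum_univ_two, Matrix.det_fin_two]
  ring

theorem om_self (x : Fin 2 → F) : om x x = 0 := by simp only [om]; ring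

theorem om_swap (x y : Fin 2 → F) : om y x = - om x y := by simp only [om]; ring

theorem eq_zero_of_om {x : Fin 2 → F} (h : ∀ y, om x y = 0) : x = 0 := by
  have h0 := h ![0, 1]
  have h1 := h ![1, 0]
  simp [om] at h0 h1
  funext i; fin_cases i
  · exact h0
  · exact h1

/-- The form of the sum. -/
def Bf (n : ℕ) (F : Type u) [Field F] : LinearMap.BilinForm F (Vs n F) :=
  LinearMap.mk₂ F (fun x y => ∑ i, om (x i) (y i))
    (fun x x' y => by simp only [Pi.add_apply, om, ← Finset.sum_add_distrib]; congr 1; funext i; ring)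
    (fun c x y => by simp only [Pi.smul_apply, smul_eq_mul, om, Finset.mul_sum]; congr 1; funext i; ring)
    (fun x y y' => by simp only [Pi.add_apply, om, ← Finset.sum_add_distrib]; congr 1; funext i; ring)
    (fun c x y => by simp only [Pi.smul_apply, smul_eq_mul, om, Finset.mul_sum]; congr 1; funext i; ring)

theorem Bf_apply (x y : Vs n F) : Bf n F x y = ∑ i, om (x i) (y i) := rfl

/-- The inclusion of a plane. -/
def emb (i : Fin n) : (Fin 2 → F) →ₗ[F] Vs n F := LinearMap.single F (fun _ => Fin 2 → F) i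

theorem emb_same (i : Fin n) (v : Fin 2 → F) : emb i v i = v :=
  Pi.single_eq_same (M := fun _ : Fin n => Fin 2 → F) i v

theorem emb_ne {i j : Fin n} (h : j ≠ i) (v : Fin 2 → F) : emb i v j = 0 :=
  Pi.single_eq_of_ne (M := fun _ : Fin n => Fin 2 → F) h v

theorem emb_injective (i : Fin n) : Function.Injective (emb (n := n) (F := F) i) := fun v w e => by
  rw [← emb_same i v, ← emb_same i w, e]

theorem Bf_emb (i : Fin n) (v : Fin 2 → F) (y : Vs n F) : Bf n F (emb i v) y = om v (y i) := by
  rw [Bf_apply, Finset.sum_eq_single i, emb_same]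
  · intro j _ hj; rw [emb_ne hj]; simp [om]
  · intro h; exact absurd (Finset.mem_univ i) h

theorem Bf_swap (x y : Vs n F) : Bf n F y x = - Bf n F x y := by
  rw [Bf_apply, Bf_apply, ← Finset.sum_neg_distrib]
  exact Finset.sum_congr rfl fun i _ => om_swap _ _

theorem Bf_isAlt : (Bf n F).IsAlt := fun x => by
  simp [Bf_apply, om_self]

theorem eq_zero_of_Bf {x : Vs n F} (h : ∀ y, Bf n F x y = 0) : x = 0 := by
  funext i
  refine eq_zero_of_om fun y => ?_
  have := h (emb i y)
  rw [Bf_swap, Bf_emb, ← om_swap] at this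
  exact this

theorem Bf_nondegenerate : (Bf n F).Nondegenerate := by
  refine ⟨fun x h => eq_zero_of_Bf h, fun y h => eq_zero_of_Bf fun x => ?_⟩
  rw [Bf_swap, h x, neg_zero]

/-- The isometry group. -/
def Iso (n : ℕ) (F : Type u) [Field F] : Subgroup (Vs n F ≃ₗ[F] Vs n F) where
  carrier := {g | ∀ x y, Bf n F (g x) (g y) = Bf n F x y}
  one_mem' := fun x y => rfl
  mul_mem' := fun {g h} hg hh x y => by
    rw [LinearEquiv.mul_apply, LinearEquiv.mul_apply, hg, hh]
  inv_mem' := fun {g} hg x y => by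
    have := hg (g⁻¹ x) (g⁻¹ y)
    rw [← LinearEquiv.mul_apply, ← LinearEquiv.mul_apply, mul_inv_cancel] at this
    exact this.symm

theorem mem_Iso {g : Vs n F ≃ₗ[F] Vs n F} : g ∈ Iso n F ↔ ∀ x y, Bf n F (g x) (g y) = Bf n F x y :=
  Iff.rfl

/-- The isometry permuting the planes by `π` and acting by `a`. -/
def mono (a : Fin n → Matrix.SpecialLinearGroup (Fin 2) F) (π : Equiv.Perm (Fin n)) :
    Vs n F ≃ₗ[F] Vs n F where
  toFun x i := (a i : Matrix (Fin 2) (Fin 2) F) *ᵥ x (π.symm i)
  map_add' x y := by funext i; simp only [Pi.add_apply, Matrix.mulVec_add]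
  map_smul' c x := by funext i; simp only [Pi.smul_apply, Matrix.mulVec_smul, RingHom.id_apply]
  invFun y i := ((a (π i))⁻¹ : Matrix.SpecialLinearGroup (Fin 2) F) *ᵥ y (π i)
  left_inv x := by
    funext i
    simp only [Equiv.symm_apply_apply, Matrix.mulVec_mulVec]
    rw [← Matrix.SpecialLinearGroup.coe_mul, inv_mul_cancel, Matrix.SpecialLinearGroup.coe_one, Matrix.one_mulVec]
  right_inv y := by
    funext i
    simp only [Equiv.apply_symm_apply, Matrix.mulVec_mulVec]
    rw [← Matrix.SpecialLinearGroup.coe_mul, mul_inv_cancel, Matrix.SpecialLinearGroup.coe_one, Matrix.one_mulVec]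

theorem mono_apply (a : Fin n → Matrix.SpecialLinearGroup (Fin 2) F) (π : Equiv.Perm (Fin n)) (x : Vs n F)
    (i : Fin n) : mono a π x i = (a i : Matrix (Fin 2) (Fin 2) F) *ᵥ x (π.symm i) := rfl

theorem mono_mul (a b : Fin n → Matrix.SpecialLinearGroup (Fin 2) F) (π σ : Equiv.Perm (Fin n)) :
    mono a π * mono b σ = mono (fun i => a i * b (π.symm i)) (π * σ) := by
  refine LinearEquiv.ext fun x => funext fun i => ?_
  rw [LinearEquiv.mul_apply, mono_apply, mono_apply, mono_apply, Matrix.mulVec_mulVec,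
    ← Matrix.SpecialLinearGroup.coe_mul]
  rfl

theorem mono_one : mono (1 : Fin n → Matrix.SpecialLinearGroup (Fin 2) F) 1 = 1 := by
  refine LinearEquiv.ext fun x => funext fun i => ?_
  rw [mono_apply, Pi.one_apply, Matrix.SpecialLinearGroup.coe_one, Matrix.one_mulVec]
  rfl

theorem mono_emb (a : Fin n → Matrix.SpecialLinearGroup (Fin 2) F) (π : Equiv.Perm (Fin n)) (i : Fin n)
    (v : Fin 2 → F) : mono a π (emb i v) = emb (π i) ((a (π i) : Matrix (Fin 2) (Fin 2) F) *ᵥ v) := by
  funext j
  rw [mono_apply]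
  by_cases h : j = π i
  · subst h; rw [Equiv.symm_apply_apply, emb_same, emb_same]
  · rw [emb_ne h, emb_ne (fun e => h (by rw [← e, Equiv.apply_symm_apply])), Matrix.mulVec_zero]

theorem mono_mem_Iso (a : Fin n → Matrix.SpecialLinearGroup (Fin 2) F) (π : Equiv.Perm (Fin n)) :
    mono a π ∈ Iso n F := by
  intro x y
  simp only [Bf_apply, mono_apply, om_mulVec, Matrix.SpecialLinearGroup.det_coe, one_mul]
  exact Equiv.sum_comp π.symm (fun i => om (x i) (y i))

theorem mono_injective {a b : Fin n → Matrix.SpecialLinearGroup (Fin 2) F} {π σ : Equiv.Perm (Fin n)}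
    (e : mono a π = mono b σ) : a = b ∧ π = σ := by
  have h : ∀ i v, emb (π i) ((a (π i) : Matrix (Fin 2) (Fin 2) F) *ᵥ v) =
      emb (σ i) ((b (σ i) : Matrix (Fin 2) (Fin 2) F) *ᵥ v) := fun i v => by
    rw [← mono_emb, ← mono_emb, e]
  have hπ : π = σ := Equiv.ext fun i => by
    by_contra hne
    have h0 := congrFun (h i ![1, 0]) (π i)
    have h1 := congrFun (h i ![0, 1]) (π i)
    rw [emb_same, emb_ne hne] at h0 h1
    have hd := Matrix.SpecialLinearGroup.det_coe (a (π i))
    rw [Matrix.det_fin_two] at hd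
    have := congrFun h0 0
    have := congrFun h0 1
    simp [Matrix.mulVec, dotProduct, Fin.sum_univ_two] at *
    simp [*] at hd
  subst hπ
  refine ⟨funext fun j => ?_, rfl⟩
  obtain ⟨i, rfl⟩ := π.surjective j
  exact Subtype.ext (Matrix.ext_of_mulVec_single fun k => emb_injective _ (h i _))

/-- The group of isometries permuting the planes. -/
def Mon (n : ℕ) (F : Type u) [Field F] : Subgroup (Vs n F ≃ₗ[F] Vs n F) where
  carrier := {g | ∃ a π, mono a π = g}
  one_mem' := ⟨1, 1, mono_one⟩
  mul_mem' := by rintro _ _ ⟨a, π, rfl⟩ ⟨b, σ, rfl⟩; exact ⟨_, _, (mono_mul a b π σ).symm⟩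
  inv_mem' := by
    rintro _ ⟨a, π, rfl⟩
    refine ⟨fun i => (a (π i))⁻¹, π⁻¹, eq_inv_of_mul_eq_one_left ?_⟩
    rw [mono_mul, inv_mul_cancel, ← mono_one]
    congr 1
    funext i
    show (a (π i))⁻¹ * a (π i) = 1
    exact inv_mul_cancel _

theorem mono_mem_Mon (a : Fin n → Matrix.SpecialLinearGroup (Fin 2) F) (π : Equiv.Perm (Fin n)) :
    mono a π ∈ Mon n F := ⟨a, π, rfl⟩

theorem Mon_le_Iso : Mon n F ≤ Iso n F := by rintro _ ⟨a, π, rfl⟩; exact mono_mem_Iso a π

/-- Acting on every plane by itself. -/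
def bl (n : ℕ) (F : Type u) [Field F] :
    (Fin n → Matrix.SpecialLinearGroup (Fin 2) F) →* (Vs n F ≃ₗ[F] Vs n F) :=
  MonoidHom.mk' (fun a => mono a 1) fun a b => by rw [mono_mul, one_mul]; rfl

theorem bl_apply (a : Fin n → Matrix.SpecialLinearGroup (Fin 2) F) : bl n F a = mono a 1 := rfl

/-- Acting on one plane. -/
def single (i : Fin n) : Matrix.SpecialLinearGroup (Fin 2) F →* (Vs n F ≃ₗ[F] Vs n F) :=
  (bl n F).comp (MonoidHom.mulSingle (fun _ => Matrix.SpecialLinearGroup (Fin 2) F) i)

theorem single_eq (i : Fin n) (s : Matrix.SpecialLinearGroup (Fin 2) F) :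
    single i s = mono (Pi.mulSingle i s) 1 := rfl

theorem single_apply_same (i : Fin n) (s : Matrix.SpecialLinearGroup (Fin 2) F) (x : Vs n F) :
    single i s x i = (s : Matrix (Fin 2) (Fin 2) F) *ᵥ x i := by
  rw [single_eq, mono_apply, Pi.mulSingle_eq_same]; rfl

theorem single_apply_ne {i j : Fin n} (h : j ≠ i) (s : Matrix.SpecialLinearGroup (Fin 2) F) (x : Vs n F) :
    single i s x j = x j := by
  rw [single_eq, mono_apply, Pi.mulSingle_eq_of_ne h, Matrix.SpecialLinearGroup.coe_one, Matrix.one_mulVec]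
  rfl

theorem single_injective (i : Fin n) : Function.Injective (single (F := F) i) := fun s t e =>
  Pi.mulSingle_injective i (mono_injective e).1

theorem mono_conj_single (a : Fin n → Matrix.SpecialLinearGroup (Fin 2) F) (π : Equiv.Perm (Fin n))
    (i : Fin n) (s : Matrix.SpecialLinearGroup (Fin 2) F) :
    mono a π * single i s * (mono a π)⁻¹ = single (π i) (a (π i) * s * (a (π i))⁻¹) := by
  rw [mul_inv_eq_iff_eq_mul, single_eq, single_eq, mono_mul, mono_mul, mul_one, one_mul]
  congr 1
  funext j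
  by_cases h : j = π i
  · subst h; rw [Equiv.symm_apply_apply, Pi.mulSingle_eq_same, Pi.mulSingle_eq_same]
    show _ = a (π i) * s * (a (π i))⁻¹ * a (π i)
    rw [inv_mul_cancel_right]
  · rw [Pi.mulSingle_eq_of_ne h, Pi.mulSingle_eq_of_ne
      (fun e => h (by rw [← e, Equiv.apply_symm_apply]))]
    show a j * 1 = 1 * a j
    rw [mul_one, one_mul]

/-! ### The space moved by an element -/

/-- The space moved by `g`. -/
def mv (g : Vs n F ≃ₗ[F] Vs n F) : Submodule F (Vs n F) :=
  LinearMap.range (g.toLinearMap - LinearMap.id)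

theorem sub_mem_mv (g : Vs n F ≃ₗ[F] Vs n F) (x : Vs n F) : g x - x ∈ mv g := ⟨x, rfl⟩

theorem mem_mv {g : Vs n F ≃ₗ[F] Vs n F} {y : Vs n F} : y ∈ mv g ↔ ∃ x, g x - x = y := Iff.rfl

theorem mv_conj (h g : Vs n F ≃ₗ[F] Vs n F) :
    mv (h * g * h⁻¹) = (mv g).map h.toLinearMap := by
  ext y
  rw [mem_mv, Submodule.mem_map]
  constructor
  · rintro ⟨x, rfl⟩
    refine ⟨_, sub_mem_mv g (h⁻¹ x), ?_⟩
    rw [LinearEquiv.coe_coe, map_sub, LinearEquiv.mul_apply, LinearEquiv.mul_apply,
      ← LinearEquiv.mul_apply h h⁻¹, mul_inv_cancel, LinearEquiv.coe_one, id_eq]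
  · rintro ⟨_, ⟨x, rfl⟩, rfl⟩
    refine ⟨h x, ?_⟩
    rw [LinearEquiv.mul_apply, LinearEquiv.mul_apply, ← LinearEquiv.mul_apply h⁻¹ h, inv_mul_cancel,
      LinearEquiv.coe_one, id_eq]
    exact (map_sub h.toLinearMap _ _).symm

theorem finrank_mv_conj (h g : Vs n F ≃ₗ[F] Vs n F) :
    Module.finrank F (mv (h * g * h⁻¹)) = Module.finrank F (mv g) := by
  rw [mv_conj]
  exact LinearEquiv.finrank_map_eq h (mv g)

theorem finrank_range_emb (i : Fin n) :
    Module.finrank F (LinearMap.range (emb (F := F) i)) = 2 := by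
  rw [LinearMap.finrank_range_of_inj (emb_injective i)]
  simp

theorem mv_single_le (i : Fin n) (s : Matrix.SpecialLinearGroup (Fin 2) F) :
    mv (single i s) ≤ LinearMap.range (emb i) := by
  rintro _ ⟨x, rfl⟩
  refine ⟨(single i s x - x) i, funext fun j => ?_⟩
  by_cases h : j = i
  · subst h; rw [emb_same]; rfl
  · rw [emb_ne h]; simp [single_apply_ne h]

theorem pow_four_fixes {s : Matrix.SpecialLinearGroup (Fin 2) F} (h2 : (2 : F) ≠ 0) (hs : s ^ 4 = 1)
    {v : Fin 2 → F} (hv : v ≠ 0) (hfix : (s : Matrix (Fin 2) (Fin 2) F) *ᵥ v = v) : s = 1 := by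
  set M := (s : Matrix (Fin 2) (Fin 2) F) with hM
  have hd : (M - 1).det = 0 :=
    Matrix.exists_mulVec_eq_zero_iff.1 ⟨v, hv, by rw [Matrix.sub_mulVec, hfix, Matrix.one_mulVec,
      sub_self]⟩
  have hdet := Matrix.SpecialLinearGroup.det_coe s
  rw [← hM, Matrix.det_fin_two] at hdet
  rw [Matrix.det_fin_two] at hd
  simp only [Matrix.sub_apply, Matrix.one_apply_eq, ne_eq, zero_ne_one, not_false_eq_true,
    Matrix.one_apply_ne, one_ne_zero, sub_zero] at hd
  have htr : M 0 0 + M 1 1 = 2 := by linear_combination hdet - hd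
  have hN : (M - 1) * (M - 1) = 0 := by
    ext a b
    fin_cases a <;> fin_cases b <;> simp [Matrix.mul_apply, Fin.sum_univ_two] <;>
      first
        | linear_combination (M 0 0 - 1) * htr - hd
        | linear_combination (M 1 1 - 1) * htr - hd
        | linear_combination (M 0 1) * htr
        | linear_combination (M 1 0) * htr
  have h4 : M * M * M * M = 1 := by
    have := congrArg Subtype.val hs
    rwa [pow_succ, pow_succ, pow_succ, pow_one, Matrix.SpecialLinearGroup.coe_mul,
      Matrix.SpecialLinearGroup.coe_mul, Matrix.SpecialLinearGroup.coe_mul, Matrix.SpecialLinearGroup.coe_one] at this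
  have e2 : M * M = (2 : F) • M - 1 := by
    rw [show M * M = (M - 1) * (M - 1) + ((2 : F) • M - 1) from by
      rw [two_smul]; noncomm_ring, hN, zero_add]
  have e : (4 : F) • (M - 1) = 0 := by
    have h5 : M * M * M * M = (4 : F) • (M - 1) + 1 := by
      rw [mul_assoc, e2, Matrix.sub_mul, Matrix.smul_mul, Matrix.mul_sub, Matrix.mul_smul, e2,
        Matrix.one_mul, Matrix.mul_one]
      module
    rw [h4] at h5
    exact left_eq_add.1 (h5.trans (add_comm _ _))
  refine Subtype.ext (sub_eq_zero.1 ?_)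
  exact (smul_eq_zero.1 e).resolve_left (by
    rw [show (4 : F) = 2 * 2 by norm_num]; exact mul_ne_zero h2 h2)

/-- An element of order four moving only a plane is supported on one of the planes. -/
theorem eq_single_of_small (h2 : (2 : F) ≠ 0) {g : Vs n F ≃ₗ[F] Vs n F} (hg : g ∈ Mon n F)
    (hr : Module.finrank F (mv g) ≤ 2) (h4 : g * g * (g * g) = 1) (hne : g * g ≠ 1) :
    ∃ i s, g = single i s ∧ mv g = LinearMap.range (emb i) := by
  classical
  obtain ⟨a, π, rfl⟩ := hg
  have hπ : π = 1 := by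
    by_contra hπ
    obtain ⟨i, hi⟩ : ∃ i, π i ≠ i := not_forall.1 fun e => hπ (Equiv.ext e)
    -- the image of one plane is all that moves
    let f : (Fin 2 → F) →ₗ[F] Vs n F :=
      ((mono a π).toLinearMap - LinearMap.id) ∘ₗ emb i
    have hf : Function.Injective f := by
      refine (injective_iff_map_eq_zero f).2 fun v hv => ?_
      have := congrFun hv i
      simp only [f, LinearMap.comp_apply, LinearMap.sub_apply, LinearEquiv.coe_coe,
        LinearMap.id_apply, Pi.sub_apply, Pi.zero_apply, mono_emb, emb_ne (Ne.symm hi), emb_same,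
        zero_sub, neg_eq_zero] at this
      exact this
    have hle : LinearMap.range f ≤ mv (mono a π) := by
      rintro _ ⟨v, rfl⟩; exact sub_mem_mv _ _
    have heq : LinearMap.range f = mv (mono a π) := Submodule.eq_of_le_of_finrank_le hle (by
      rw [LinearMap.finrank_range_of_inj hf]; simpa using hr)
    have hzero : ∀ y ∈ mv (mono a π), ∀ k, k ≠ i → k ≠ π i → y k = 0 := by
      intro y hy k hki hkj
      rw [← heq] at hy
      obtain ⟨v, rfl⟩ := hy
      simp [f, mono_emb, emb_ne hki, emb_ne hkj]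
    have hback : π (π i) = i := by
      by_contra hk
      have hne2 : π (π i) ≠ π i := fun e => hi (π.injective e)
      have hz : ∀ v, ((a (π (π i)) : Matrix (Fin 2) (Fin 2) F) *ᵥ v) = 0 := fun v => by
        have := hzero _ (sub_mem_mv (mono a π) (emb (π i) v)) _ hk hne2
        rwa [mono_emb, Pi.sub_apply, emb_same, emb_ne hne2, sub_zero] at this
      have := congrArg (fun w => (((a (π (π i)))⁻¹ : Matrix.SpecialLinearGroup (Fin 2) F) : Matrix (Fin 2) (Fin 2) F) *ᵥ w) (hz ![1, 0])
      simp only [Matrix.mulVec_mulVec, ← Matrix.SpecialLinearGroup.coe_mul, inv_mul_cancel,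
        Matrix.SpecialLinearGroup.coe_one, Matrix.one_mulVec, Matrix.mulVec_zero] at this
      exact one_ne_zero (congrFun this 0)
    -- `g` squares to one
    refine hne (LinearEquiv.ext fun x => ?_)
    have hsq : ∀ v, (a i : Matrix (Fin 2) (Fin 2) F) *ᵥ ((a (π i) : Matrix (Fin 2) (Fin 2) F) *ᵥ v) = v := by
      intro v
      obtain ⟨u, hu⟩ : mono a π (emb (π i) ((a (π i) : Matrix (Fin 2) (Fin 2) F) *ᵥ v)) -
          emb (π i) ((a (π i) : Matrix (Fin 2) (Fin 2) F) *ᵥ v) ∈ LinearMap.range f := by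
        rw [heq]; exact sub_mem_mv _ _
      simp only [f, LinearMap.comp_apply, LinearMap.sub_apply, LinearEquiv.coe_coe,
        LinearMap.id_apply, mono_emb, hback] at hu
      have h1 := congrFun hu i
      have h2' := congrFun hu (π i)
      simp only [Pi.sub_apply, emb_same, emb_ne hi, emb_ne (Ne.symm hi), zero_sub, sub_zero] at h1 h2'
      have hu' : u = -v := by
        have := congrArg (fun w => (((a (π i))⁻¹ : Matrix.SpecialLinearGroup (Fin 2) F) : Matrix (Fin 2) (Fin 2) F) *ᵥ w) h2'
        simpa only [Matrix.mulVec_neg, Matrix.mulVec_mulVec, ← Matrix.SpecialLinearGroup.coe_mul,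
          inv_mul_cancel, Matrix.SpecialLinearGroup.coe_one, Matrix.one_mulVec] using this
      rw [hu', neg_neg] at h1
      exact h1.symm
    have hfix : ∀ k, k ≠ i → k ≠ π i → π k = k ∧ a k = 1 := by
      intro k hki hkj
      have hπk : π k = k := by
        by_contra hk
        have hne3 : π k ≠ i := fun e => hkj (π.injective (e.trans hback.symm))
        have hne4 : π k ≠ π i := fun e => hki (π.injective e)
        have := hzero _ (sub_mem_mv (mono a π) (emb k ![1, 0])) k hki hkj
        rw [mono_emb, Pi.sub_apply, emb_ne (Ne.symm hk), emb_same, zero_sub, neg_eq_zero] at this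
        exact one_ne_zero (congrFun this 0)
      refine ⟨hπk, Subtype.ext (Matrix.ext_of_mulVec_single fun b => ?_)⟩
      have := hzero _ (sub_mem_mv (mono a π) (emb k (Pi.single b 1))) k hki hkj
      rw [mono_emb, hπk, Pi.sub_apply, emb_same, emb_same, sub_eq_zero] at this
      rw [Matrix.SpecialLinearGroup.coe_one, Matrix.one_mulVec]
      exact this
    have hij : π.symm i = π i := by rw [Equiv.symm_apply_eq, hback]
    funext k
    rw [LinearEquiv.mul_apply, mono_apply, mono_apply, Matrix.mulVec_mulVec,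
      LinearEquiv.coe_one, id_eq]
    by_cases hki : k = i
    · subst hki
      rw [hij, Equiv.symm_apply_apply, ← Matrix.mulVec_mulVec, hsq]
    by_cases hkj : k = π i
    · subst hkj
      rw [Equiv.symm_apply_apply, hij, ← Matrix.mulVec_mulVec]
      have h1 := hsq ((((a (π i))⁻¹ : Matrix.SpecialLinearGroup (Fin 2) F) : Matrix (Fin 2) (Fin 2) F) *ᵥ x (π i))
      simp only [Matrix.mulVec_mulVec, ← Matrix.SpecialLinearGroup.coe_mul, mul_inv_cancel,
        Matrix.SpecialLinearGroup.coe_one, mul_one] at h1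
      conv_lhs => rw [← Matrix.one_mulVec (x (π i))]
      have h3 : (a i : Matrix (Fin 2) (Fin 2) F) *ᵥ x (π i) =
          (((a (π i))⁻¹ : Matrix.SpecialLinearGroup (Fin 2) F) : Matrix (Fin 2) (Fin 2) F) *ᵥ x (π i) := h1
      rw [Matrix.one_mulVec, h3, Matrix.mulVec_mulVec, ← Matrix.SpecialLinearGroup.coe_mul, mul_inv_cancel,
        Matrix.SpecialLinearGroup.coe_one, Matrix.one_mulVec]
    obtain ⟨h1, h3⟩ := hfix k hki hkj
    have hsk : π.symm k = k := by rw [Equiv.symm_apply_eq, h1]
    rw [hsk, hsk, h3, Matrix.SpecialLinearGroup.coe_one, one_mul, Matrix.one_mulVec]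
  subst hπ
  have hg4 : ∀ j, a j ^ 4 = 1 := fun j => by
    have h := h4
    rw [← bl_apply, ← map_mul, ← map_mul, ← map_one (bl n F)] at h
    have := congrFun (mono_injective h).1 j
    simp only [Pi.mul_apply, Pi.one_apply] at this
    rw [← this]; simp [pow_succ, mul_assoc]
  have hfull : ∀ j, a j ≠ 1 → LinearMap.range (emb j) ≤ mv (mono a 1) := by
    intro j hj
    let m : (Fin 2 → F) →ₗ[F] (Fin 2 → F) := ((a j : Matrix (Fin 2) (Fin 2) F) - 1).mulVecLin
    have hm : Function.Surjective m := by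
      refine LinearMap.injective_iff_surjective.1 ((injective_iff_map_eq_zero m).2 fun v hv => ?_)
      by_contra hv0
      rw [Matrix.mulVecLin_apply, Matrix.sub_mulVec, Matrix.one_mulVec, sub_eq_zero] at hv
      exact hj (pow_four_fixes h2 (hg4 j) hv0 hv)
    rintro _ ⟨w, rfl⟩
    obtain ⟨v, rfl⟩ := hm w
    refine ⟨emb j v, ?_⟩
    rw [LinearMap.sub_apply, LinearEquiv.coe_coe, mono_emb, LinearMap.id_apply, Equiv.Perm.one_apply,
      ← map_sub, Matrix.mulVecLin_apply, Matrix.sub_mulVec, Matrix.one_mulVec]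
  obtain ⟨i, hi⟩ : ∃ i, a i ≠ 1 := not_forall.1 fun e => hne (by
    rw [show a = 1 from funext e, mono_one, one_mul])
  have heq : LinearMap.range (emb i) = mv (mono a 1) :=
    Submodule.eq_of_le_of_finrank_le (hfull i hi) (by rw [finrank_range_emb]; exact hr)
  refine ⟨i, a i, ?_, heq.symm⟩
  rw [single_eq]
  congr 1
  funext j
  by_cases hj : j = i
  · subst hj; rw [Pi.mulSingle_eq_same]
  rw [Pi.mulSingle_eq_of_ne hj]
  by_contra haj
  obtain ⟨v, hv⟩ : emb j ![1, 0] ∈ LinearMap.range (emb (F := F) i) := heq ▸ hfull j haj ⟨_, rfl⟩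
  have := congrFun hv j
  rw [emb_same, emb_ne hj] at this
  exact one_ne_zero (congrFun this.symm 0)

/-- An isometry mapping planes to planes permutes them. -/
theorem mem_Mon_of_planes {g : Vs n F ≃ₗ[F] Vs n F} (hg : g ∈ Iso n F)
    (h : ∀ i, ∃ j, ∀ v, g (emb i v) ∈ LinearMap.range (emb (F := F) j)) : g ∈ Mon n F := by
  classical
  choose f hf using h
  choose w hw using hf
  have hsep : ∀ i v j, j ≠ f i → g (emb i v) j = 0 := fun i v j hj => by
    rw [← hw i v, emb_ne hj]
  have hinj : Function.Injective f := by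
    intro i k e
    by_contra hne
    let m : (Fin 2 → F) × (Fin 2 → F) →ₗ[F] (Fin 2 → F) :=
      (LinearMap.proj (f i) ∘ₗ g.toLinearMap ∘ₗ emb i).coprod
        (LinearMap.proj (f i) ∘ₗ g.toLinearMap ∘ₗ emb k)
    have hm : Function.Injective m := by
      refine (injective_iff_map_eq_zero m).2 fun z hz => ?_
      have hz' : g (emb i z.1 + emb k z.2) = 0 := by
        funext j
        rw [map_add, Pi.add_apply, Pi.zero_apply]
        by_cases hj : j = f i
        · subst hj; simpa [m] using hz
        · rw [hsep i _ j hj, hsep k _ j (e ▸ hj), add_zero]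
      have h0 := (g.map_eq_zero_iff).1 hz'
      refine Prod.ext ?_ ?_
      · have := congrFun h0 i
        rwa [Pi.add_apply, emb_same, emb_ne hne, add_zero] at this
      · have := congrFun h0 k
        rwa [Pi.add_apply, emb_same, emb_ne (Ne.symm hne), zero_add] at this
    have := LinearMap.finrank_le_finrank_of_injective hm
    simp at this
  let π : Equiv.Perm (Fin n) := Equiv.ofBijective f (Finite.injective_iff_bijective.1 hinj)
  have hπ : ∀ i, π i = f i := fun i => rfl
  let M : Fin n → Matrix (Fin 2) (Fin 2) F := fun i =>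
    LinearMap.toMatrix' (LinearMap.proj (f i) ∘ₗ g.toLinearMap ∘ₗ emb i)
  have hM : ∀ i v, M i *ᵥ v = g (emb i v) (f i) := fun i v => by
    rw [← Matrix.toLin'_apply, Matrix.toLin'_toMatrix']; rfl
  have hdet : ∀ i, (M i).det = 1 := by
    intro i
    have e := hg (emb i ![1, 0]) (emb i ![0, 1])
    rw [Bf_emb, emb_same, Bf_apply, Finset.sum_eq_single (f i)
      (fun j _ hj => by rw [hsep i _ j hj]; simp [om]) (fun h => absurd (Finset.mem_univ _) h),
      ← hM, ← hM, om_mulVec] at e
    simpa [om] using e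
  let a : Fin n → Matrix.SpecialLinearGroup (Fin 2) F := fun j => ⟨M (π.symm j), hdet _⟩
  refine ⟨a, π, LinearEquiv.ext fun x => ?_⟩
  have hx : x = ∑ i, emb i (x i) := (Finset.univ_sum_single x).symm
  conv_lhs => rw [hx]
  conv_rhs => rw [hx]
  rw [map_sum, map_sum]
  refine Finset.sum_congr rfl fun i _ => ?_
  rw [mono_emb]
  show emb (π i) (M (π.symm (π i)) *ᵥ x i) = _
  rw [Equiv.symm_apply_apply, hM, hπ]
  funext j
  by_cases hj : j = f i
  · subst hj; rw [emb_same]
  · rw [emb_ne hj, hsep i _ j hj]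

end Cfsg.Agent.Classical.OddSp
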