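import Mathlib
import Cfsg.Prelude.Def_Classical
import Cfsg.Agent.Lib.Classical.OddIndex.Criterion
import Cfsg.Agent.Lib.Classical.OddSp.Space

/-!
# Odd index subgroups of a product

If every factor has abelian `N(R)/R` and satisfies `KeyProp`, then every subgroup of odd index of
the product is pronormal. The isometry group of a sum of planes is the symplectic group of
matrices, which gives the reduction of the statement on `PSp` to a single factor.
-/

set_option autoImplicit false
set_option linter.unusedSectionVars false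

namespace Cfsg.Agent.Classical.OddSp

open Matrix

universe u v w

section Key

variable {G : Type u} [Group G] {G' : Type v} [Group G']

/-- The property asked of a Sylow 2-subgroup. -/
def KeyAt (P : Subgroup G) : Prop :=
  (∀ a ∈ Subgroup.normalizer (P : Set G), ∀ b ∈ Subgroup.normalizer (P : Set G),
      a * b * a⁻¹ * b⁻¹ ∈ P) ∧
    ∀ K : Subgroup G, P ≤ K → ∀ g ∈ Subgroup.normalizer (P : Set G),
      g ∈ Subgroup.normalizer (K : Set G) ∨ g ∈ K ⊔ K.map (MulAut.conj g).toMonoidHom

/-- Some Sylow 2-subgroup has abelian normalizer quotient and the elements of its normalizer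
either normalize an overgroup or lie in it together with its conjugate. -/
def KeyProp (G : Type*) [Group G] : Prop :=
  ∃ R : Sylow 2 G,
    (∀ a ∈ Subgroup.normalizer ((R : Subgroup G) : Set G),
      ∀ b ∈ Subgroup.normalizer ((R : Subgroup G) : Set G),
        a * b * a⁻¹ * b⁻¹ ∈ (R : Subgroup G)) ∧
    ∀ K : Subgroup G, (R : Subgroup G) ≤ K →
      ∀ g ∈ Subgroup.normalizer ((R : Subgroup G) : Set G),
        g ∈ Subgroup.normalizer (K : Set G) ∨ g ∈ K ⊔ K.map (MulAut.conj g).toMonoidHom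

theorem KeyAt.map {P : Subgroup G} (h : KeyAt P) (e : G ≃* G') :
    KeyAt (P.map e.toMonoidHom) := by
  have hN : ∀ {Q : Subgroup G} {a : G'},
      a ∈ Subgroup.normalizer ((Q.map e.toMonoidHom : Subgroup G') : Set G') ↔
        e.symm a ∈ Subgroup.normalizer (Q : Set G) := by
    intro Q a
    have hm : ∀ x, x ∈ Q.map e.toMonoidHom ↔ e.symm x ∈ Q := fun x => Subgroup.mem_map_equiv
    simp only [Subgroup.mem_normalizer_iff, hm, map_mul, map_inv]
    exact ⟨fun ha x => by simpa using ha (e x), fun ha x => ha (e.symm x)⟩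
  refine ⟨fun a ha b hb => ?_, fun K hK g hg => ?_⟩
  · rw [Subgroup.mem_map_equiv]
    simpa using h.1 _ (hN.1 ha) _ (hN.1 hb)
  obtain ⟨K, rfl⟩ : ∃ K₀ : Subgroup G, K₀.map e.toMonoidHom = K :=
    ⟨K.comap e.toMonoidHom, Subgroup.map_comap_eq_self_of_surjective e.surjective K⟩
  rcases h.2 K ((Subgroup.map_le_map_iff_of_injective e.injective).1 hK) _ (hN.1 hg) with h1 | h1
  · exact Or.inl (hN.2 h1)
  refine Or.inr ?_
  have h2 := Subgroup.mem_map_of_mem e.toMonoidHom h1
  rw [Subgroup.map_sup, Subgroup.map_map] at h2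
  have hc : e.toMonoidHom.comp (MulAut.conj (e.symm g)).toMonoidHom =
      (MulAut.conj g).toMonoidHom.comp e.toMonoidHom := by
    ext x; simp
  rw [hc, ← Subgroup.map_map] at h2
  simpa using h2

theorem KeyProp.keyAt [Finite G] (h : KeyProp G) (R : Sylow 2 G) : KeyAt (R : Subgroup G) := by
  have : Fact (Nat.Prime 2) := ⟨Nat.prime_two⟩
  obtain ⟨R₀, h0⟩ := h
  obtain ⟨x, rfl⟩ := MulAction.exists_smul_eq G R₀ R
  exact KeyAt.map (P := (R₀ : Subgroup G)) h0 (MulAut.conj x)

theorem KeyProp.of_equiv [Finite G] (h : KeyProp G) (e : G ≃* G') : KeyProp G' := by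
  have : Fact (Nat.Prime 2) := ⟨Nat.prime_two⟩
  obtain ⟨R⟩ : Nonempty (Sylow 2 G) := inferInstance
  exact ⟨R.mapSurjective (f := e.toMonoidHom) e.surjective, (h.keyAt R).map e⟩

end Key

section Product

variable {ι : Type w} [Finite ι] {G : ι → Type u} [∀ i, Group (G i)] [∀ i, Finite (G i)]

/-- A Sylow 2-subgroup of a product is the product of its projections. -/
theorem sylow_pi_eq (R : Sylow 2 (Π i, G i)) :
    Subgroup.pi Set.univ (fun i => (R : Subgroup (Π i, G i)).map (Pi.evalMonoidHom G i)) =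
      (R : Subgroup (Π i, G i)) := by
  refine R.3 ?_ fun x hx => fun i _ => ⟨x, hx, rfl⟩
  intro x
  have hk : ∀ i, ∃ k : ℕ, (x.1 i) ^ (2 ^ k) = 1 := fun i => by
    obtain ⟨k, hk⟩ := (R.2.map (Pi.evalMonoidHom G i)) ⟨x.1 i, x.2 i trivial⟩
    exact ⟨k, by simpa using congrArg Subtype.val hk⟩
  choose k hk using hk
  have := Fintype.ofFinite ι
  refine ⟨∑ i, k i, Subtype.ext (funext fun i => ?_)⟩
  obtain ⟨d, hd⟩ := Nat.exists_eq_add_of_le
    (Finset.single_le_sum (f := k) (fun j _ => Nat.zero_le _) (Finset.mem_univ i))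
  show (x.1 i) ^ (2 ^ ∑ i, k i) = 1
  rw [hd, pow_add, pow_mul, hk, one_pow]

/-- Every subgroup of odd index of a product of groups with `KeyProp` is pronormal. -/
theorem isPronormal_pi (hkey : ∀ i, KeyProp (G i)) (H : Subgroup (Π i, G i)) (hH : Odd H.index) :
    Cfsg.IsPronormal H := by
  classical
  have : Fact (Nat.Prime 2) := ⟨Nat.prime_two⟩
  refine OddIndex.of_sylow_normalizer H hH fun R hR g hg => ?_
  let R' : ∀ i, Subgroup (G i) := fun i =>
    (R : Subgroup (Π i, G i)).map (Pi.evalMonoidHom G i)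
  have hsyl : ∀ i, KeyAt (R' i) := fun i =>
    (hkey i).keyAt (R.mapSurjective (f := Pi.evalMonoidHom G i) (Function.surjective_eval i))
  have hmem : ∀ x : Π i, G i, (∀ i, x i ∈ R' i) → x ∈ (R : Subgroup (Π i, G i)) := fun x hx => by
    rw [← sylow_pi_eq R]; exact fun i _ => hx i
  have hproj : ∀ {x : Π i, G i}, x ∈ Subgroup.normalizer ((R : Subgroup (Π i, G i)) : Set _) →
      ∀ i, x i ∈ Subgroup.normalizer (R' i : Set (G i)) := fun {x} hx i =>
    Subgroup.le_normalizer_map (Pi.evalMonoidHom G i) (Subgroup.mem_map_of_mem _ hx)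
  let K : ∀ i, Subgroup (G i) := fun i => H.comap (MonoidHom.mulSingle G i)
  have hK : ∀ {i} {y : G i}, y ∈ K i ↔ Pi.mulSingle i y ∈ H := fun {i y} => Iff.rfl
  have hRK : ∀ i, R' i ≤ K i := fun i y hy => hR (hmem _ fun j => by
    rw [MonoidHom.mulSingle_apply]
    by_cases hj : j = i
    · subst hj; rw [Pi.mulSingle_eq_same]; exact hy
    · rw [Pi.mulSingle_eq_of_ne hj]; exact one_mem _)
  have hsingle : ∀ (x : Π i, G i) (i : ι) (y : G i),
      x * Pi.mulSingle i y * x⁻¹ = Pi.mulSingle i (x i * y * (x i)⁻¹) := fun x i y => by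
    funext j
    by_cases hj : j = i
    · subst hj; simp
    · simp [Pi.mulSingle_eq_of_ne hj]
  -- the coordinates lying in `K ⊔ K^g`
  let inK : ι → Prop := fun i => g i ∈ K i ⊔ (K i).map (MulAut.conj (g i)).toMonoidHom
  let w : Π i, G i := fun i => if inK i then g i else 1
  let g' : Π i, G i := w⁻¹ * g
  have hw : w ∈ H ⊔ H.map (MulAut.conj g).toMonoidHom := by
    refine Subgroup.pi_mem_of_mulSingle_mem w fun i => ?_
    show w i ∈ (H ⊔ H.map (MulAut.conj g).toMonoidHom).comap (MonoidHom.mulSingle G i)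
    by_cases hi : inK i
    · simp only [w, if_pos hi]
      refine (sup_le (fun y hy => ?_) ?_ : K i ⊔ (K i).map (MulAut.conj (g i)).toMonoidHom ≤ _) hi
      · exact Subgroup.mem_sup_left (hK.1 hy)
      · rintro _ ⟨y, hy, rfl⟩
        refine Subgroup.mem_sup_right ⟨Pi.mulSingle i y, hK.1 hy, ?_⟩
        exact hsingle g i y
    · simp only [w, if_neg hi]; exact one_mem _
  have hgn : ∀ i, g i ∈ Subgroup.normalizer (R' i : Set (G i)) := hproj hg
  have hg'N : ∀ i, g' i ∈ Subgroup.normalizer (R' i : Set (G i)) ∧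
      g' i ∈ Subgroup.normalizer (K i : Set (G i)) := fun i => by
    by_cases hi : inK i
    · simp only [g', w, Pi.mul_apply, Pi.inv_apply, if_pos hi, inv_mul_cancel]
      exact ⟨one_mem _, one_mem _⟩
    · simp only [g', w, Pi.mul_apply, Pi.inv_apply, if_neg hi, inv_one, one_mul]
      exact ⟨hgn i, ((hsyl i).2 (K i) (hRK i) _ (hgn i)).resolve_right hi⟩
  -- an element with such coordinates normalises `H`
  have hfix : ∀ x : Π i, G i, (∀ i, x i ∈ Subgroup.normalizer (R' i : Set (G i)) ∧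
      x i ∈ Subgroup.normalizer (K i : Set (G i))) → ∀ h ∈ H, x * h * x⁻¹ ∈ H := by
    intro x hx h hh
    let P : Subgroup (Π i, G i) := Subgroup.pi Set.univ K
    have hPH : P ≤ H := fun y hy => Subgroup.pi_mem_of_mulSingle_mem y fun i => hy i trivial
    have hRP : (R : Subgroup (Π i, G i)) ≤ P := fun y hy i _ => hRK i ⟨y, hy, rfl⟩
    have hconjP : ((h • R : Sylow 2 (Π i, G i)) : Subgroup (Π i, G i)) ≤ P := by
      rintro _ ⟨y, hy, rfl⟩ i -
      show h i * y i * (h i)⁻¹ ∈ K i
      rw [hK, ← hsingle h i]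
      exact mul_mem (mul_mem hh (hK.1 (hRK i ⟨y, hy, rfl⟩))) (inv_mem hh)
    obtain ⟨p, hp⟩ := MulAction.exists_smul_eq P ((h • R).subtype hconjP) (R.subtype hRP)
    rw [Sylow.smul_subtype] at hp
    have hp' : (p : Π i, G i) • h • R = R := Sylow.subtype_injective hp
    rw [← mul_smul] at hp'
    have hn := Sylow.smul_eq_iff_mem_normalizer.1 hp'
    have hc : x * (p * h) * x⁻¹ * ((p : Π i, G i) * h)⁻¹ ∈ H :=
      hR (hmem _ fun i => by
        simpa only [Pi.mul_apply, Pi.inv_apply] using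
          (hsyl i).1 _ (hx i).1 _ (hproj hn i))
    have hxp : x * (p : Π i, G i)⁻¹ * x⁻¹ ∈ H := hPH fun i _ =>
      (Subgroup.mem_normalizer_iff.1 (hx i).2 _).1 (inv_mem (p.2 i trivial))
    have e : x * h * x⁻¹ =
        x * (p : Π i, G i)⁻¹ * x⁻¹ * (x * (p * h) * x⁻¹ * ((p : Π i, G i) * h)⁻¹) * (p * h) := by
      group
    rw [e]
    exact mul_mem (mul_mem hxp hc) (mul_mem (hPH p.2) hh)
  have hnorm : g' ∈ Subgroup.normalizer (H : Set (Π i, G i)) := by
    refine Subgroup.mem_normalizer_iff.2 fun h => ⟨hfix g' hg'N h, fun hh => ?_⟩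
    have := hfix g'⁻¹ (fun i => ⟨inv_mem (hg'N i).1, inv_mem (hg'N i).2⟩) _ hh
    simpa [mul_assoc] using this
  refine ⟨w, hw, ?_⟩
  conv_lhs => rw [show g = w * g' from (mul_inv_cancel_left w g).symm]
  rw [OddIndex.map_conj_mul, OddIndex.map_conj_eq_self hnorm]

end Product

section Matrices

variable {F : Type u} [Field F] {n : ℕ}

/-- The coordinates of a sum of planes. -/
def coord (n : ℕ) (F : Type u) [Field F] : Vs n F ≃ₗ[F] (Fin n ⊕ Fin n → F) where
  toFun x := Sum.elim (fun i => x i 0) (fun i => x i 1)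
  map_add' x y := by funext a; cases a <;> rfl
  map_smul' c x := by funext a; cases a <;> rfl
  invFun y := fun i => ![y (Sum.inl i), y (Sum.inr i)]
  left_inv x := by funext i j; fin_cases j <;> rfl
  right_inv y := by funext a; cases a <;> rfl

theorem Bf_eq_dot (x y : Vs n F) :
    Bf n F x y = - (coord n F x ⬝ᵥ (Matrix.J (Fin n) F *ᵥ coord n F y)) := by
  have e : Matrix.J (Fin n) F *ᵥ coord n F y =
      Sum.elim (fun i => - y i 1) (fun i => y i 0) := by
    rw [Matrix.J, Matrix.fromBlocks_mulVec]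
    funext a
    cases a <;> simp [coord, Matrix.neg_mulVec, Function.comp_def]
  rw [e, Bf_apply]
  simp only [dotProduct, Fintype.sum_sum_type, coord, LinearEquiv.coe_mk, LinearMap.coe_mk,
    AddHom.coe_mk, Sum.elim_inl, Sum.elim_inr, om]
  rw [← Finset.sum_add_distrib, ← Finset.sum_neg_distrib]
  exact Finset.sum_congr rfl fun i _ => by ring

theorem symplectic_iff (M : Matrix (Fin n ⊕ Fin n) (Fin n ⊕ Fin n) F) :
    M ∈ Matrix.symplecticGroup (Fin n) F ↔
      ∀ x y, Bf n F ((coord n F).symm (M *ᵥ coord n F x)) ((coord n F).symm (M *ᵥ coord n F y)) =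
        Bf n F x y := by
  have key : ∀ a b : Fin n ⊕ Fin n → F, (M *ᵥ a) ⬝ᵥ (Matrix.J (Fin n) F *ᵥ (M *ᵥ b)) =
      a ⬝ᵥ ((Mᵀ * Matrix.J (Fin n) F * M) *ᵥ b) := fun a b => by
    rw [← Matrix.mulVec_mulVec, ← Matrix.mulVec_mulVec, Matrix.dotProduct_mulVec a Mᵀ,
      Matrix.vecMul_transpose]
  simp only [Bf_eq_dot, LinearEquiv.apply_symm_apply, neg_inj, key, SymplecticGroup.mem_iff']
  refine ⟨fun h x y => by rw [h], fun h => Matrix.ext fun a b => ?_⟩
  have := h ((coord n F).symm (Pi.single a 1)) ((coord n F).symm (Pi.single b 1))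
  simpa [Matrix.mulVec_single] using this

/-- The matrix of an isometry. -/
noncomputable def isoMatrix (n : ℕ) (F : Type u) [Field F] :
    Iso n F →* Matrix.symplecticGroup (Fin n) F where
  toFun g := ⟨LinearMap.toMatrix' ((coord n F).toLinearMap ∘ₗ g.1.toLinearMap ∘ₗ
      (coord n F).symm.toLinearMap), (symplectic_iff _).2 fun x y => by
    simp only [← Matrix.toLin'_apply, Matrix.toLin'_toMatrix', LinearMap.comp_apply,
      LinearEquiv.coe_coe, LinearEquiv.symm_apply_apply]
    exact g.2 x y⟩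
  map_one' := Subtype.ext (by
    show LinearMap.toMatrix' _ = 1
    rw [← LinearMap.toMatrix'_id]
    congr 1
    ext x; simp)
  map_mul' g h := Subtype.ext (by
    show LinearMap.toMatrix' _ = LinearMap.toMatrix' _ * LinearMap.toMatrix' _
    rw [← LinearMap.toMatrix'_comp]
    congr 1
    ext x; simp)

theorem isoMatrix_bijective : Function.Bijective (isoMatrix n F) := by
  constructor
  · intro g h e
    refine Subtype.ext (LinearEquiv.ext fun x => (coord n F).injective ?_)
    have e2 := LinearMap.congr_fun (LinearMap.toMatrix'.injective (congrArg Subtype.val e))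
      (coord n F x)
    simpa using e2
  · intro M
    let L : Vs n F →ₗ[F] Vs n F := (coord n F).symm.toLinearMap ∘ₗ
      Matrix.toLin' (M : Matrix (Fin n ⊕ Fin n) (Fin n ⊕ Fin n) F) ∘ₗ (coord n F).toLinearMap
    have hL : ∀ x y, Bf n F (L x) (L y) = Bf n F x y := by
      intro x y
      simpa [L] using (symplectic_iff _).1 M.2 x y
    have hinj : Function.Injective L := (injective_iff_map_eq_zero L).2 fun x hx =>
      eq_zero_of_Bf fun y => by rw [← hL, hx]; simp
    refine ⟨⟨LinearEquiv.ofInjectiveEndo L hinj, fun x y => hL x y⟩, Subtype.ext ?_⟩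
    show LinearMap.toMatrix' _ = _
    rw [← LinearMap.toMatrix'_toLin' (M : Matrix (Fin n ⊕ Fin n) (Fin n ⊕ Fin n) F)]
    congr 1
    refine LinearMap.ext fun x => ?_
    show coord n F (L ((coord n F).symm x)) = _
    simp [L]

/-- The isometry group of a sum of planes is the symplectic group. -/
noncomputable def isoEquiv (n : ℕ) (F : Type u) [Field F] :
    Iso n F ≃* Matrix.symplecticGroup (Fin n) F :=
  MulEquiv.ofBijective (isoMatrix n F) isoMatrix_bijective

end Matrices

/-- The reduction of the statement on products of `PSp` to `KeyProp` of one factor. -/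
theorem pronormal_of_key
    (key : ∀ (n k : ℕ) (F : Type u) [Field F] [Fintype F], n = 2 ^ k → Odd (Fintype.card F) →
      KeyProp (Iso n F))
    {t : ℕ} (m : Fin t → ℕ) (F : Fin t → Type u) [∀ i, Field (F i)] [∀ i, Fintype (F i)]
    (hm : ∀ i, ∃ k : ℕ, m i = 2 ^ k) (hodd : ∀ i, Odd (Fintype.card (F i)))
    (H : Subgroup (Π i, Cfsg.PSp (m i) (F i))) (hH : Odd H.index) : Cfsg.IsPronormal H := by
  classical
  have hfin : ∀ i, Finite (Iso (m i) (F i)) := fun i =>
    Finite.of_equiv _ (isoEquiv (m i) (F i)).symm.toEquiv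
  have hkey : ∀ i, KeyProp (Matrix.symplecticGroup (Fin (m i)) (F i)) := fun i => by
    obtain ⟨k, hk⟩ := hm i
    exact (key (m i) k (F i) hk (hodd i)).of_equiv (isoEquiv (m i) (F i))
  let f : (Π i, Matrix.symplecticGroup (Fin (m i)) (F i)) →* Π i, Cfsg.PSp (m i) (F i) :=
    MonoidHom.pi fun i => (QuotientGroup.mk' _).comp (Pi.evalMonoidHom _ i)
  refine OddIndex.of_surjective f (fun y => ?_) (fun K _ hK => isPronormal_pi hkey K hK) H hH
  exact ⟨fun i => (QuotientGroup.mk'_surjective _ (y i)).choose,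
    funext fun i => (QuotientGroup.mk'_surjective _ (y i)).choose_spec⟩

end Cfsg.Agent.Classical.OddSp
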