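import Cfsg.Agent.Lib.Classical.OddSp.Closed
import Cfsg.Agent.Lib.Classical.OddSp.Product
import Cfsg.Agent.Lib.Involutions.AltSylowNormalizer

/-!
# The key property of `Sp_{2n}(q)`, `n` a power of 2

The normaliser of a Sylow 2-subgroup is the Sylow subgroup extended by the diagonal of the
normaliser in `SL₂`; each of its elements normalises an overgroup or lies in the group generated
by the overgroup and its conjugate.
-/

set_option autoImplicit false
set_option linter.unusedSectionVars false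
set_option linter.unusedSimpArgs false
set_option linter.style.haveILetI false

namespace Cfsg.Agent.Classical.OddSp

open Matrix
open TorusNormalizer (negOne negOne_sq coe_negOne)
open Cfsg.Agent.Classical.OddIndex

universe u

variable {F : Type u} [Field F] [Fintype F] {n : ℕ}

open Fin.NatCast in
theorem finRotate_pow_apply (m j : ℕ) (i : Fin (m + 1)) :
    (finRotate (m + 1) ^ j) i = i + (j : Fin (m + 1)) := by
  induction j with
  | zero => simp
  | succ j ih =>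
    rw [pow_succ', Equiv.Perm.mul_apply, ih, finRotate_apply, Nat.cast_succ, add_assoc]

open Fin.NatCast in
/-- A transitive Sylow 2-subgroup of the symmetric group of a power of 2. -/
theorem exists_transitive_sylow {w : ℕ} (hn : n = 2 ^ w) :
    ∃ T : Sylow 2 (Equiv.Perm (Fin n)), ∀ i j : Fin n, ∃ p ∈ T, p i = j := by
  obtain ⟨m, rfl⟩ : ∃ m, n = m + 1 := ⟨n - 1, by have := Nat.two_pow_pos w; omega⟩
  have h1 : finRotate (m + 1) ^ (2 ^ w) = 1 := by
    refine Equiv.ext fun i => ?_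
    rw [finRotate_pow_apply, ← hn, Fin.natCast_self, add_zero]
    rfl
  obtain ⟨T, hT⟩ := IsPGroup.exists_le_sylow (p := 2) (P := Subgroup.zpowers (finRotate (m + 1)))
    (fun g => ⟨w, by
      obtain ⟨t, ht⟩ := g.2
      refine Subtype.ext ?_
      show (g : Equiv.Perm (Fin (m + 1))) ^ 2 ^ w = 1
      rw [← ht, ← zpow_natCast, zpow_comm, zpow_natCast, h1, _root_.one_zpow]⟩)
  exact ⟨T, fun i j => ⟨finRotate (m + 1) ^ (j - i).val, hT (pow_mem (Subgroup.mem_zpowers _) _), by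
    rw [finRotate_pow_apply, Fin.cast_val_eq_self, add_sub_cancel]⟩⟩

/-- The wreath product of a subgroup of `SL₂` and a group of permutations. -/
def wr (Q : Subgroup (Matrix.SpecialLinearGroup (Fin 2) F)) (T : Subgroup (Equiv.Perm (Fin n))) :
    Subgroup (Vs n F ≃ₗ[F] Vs n F) where
  carrier := {g | ∃ a π, mono a π = g ∧ (∀ i, a i ∈ Q) ∧ π ∈ T}
  one_mem' := ⟨1, 1, mono_one, fun _ => one_mem Q, one_mem T⟩
  mul_mem' := by
    rintro _ _ ⟨a, π, rfl, ha, hπ⟩ ⟨b, σ, rfl, hb, hσ⟩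
    exact ⟨_, _, (mono_mul a b π σ).symm, fun i => mul_mem (ha i) (hb _), mul_mem hπ hσ⟩
  inv_mem' := by
    rintro _ ⟨a, π, rfl, ha, hπ⟩
    refine ⟨fun i => (a (π i))⁻¹, π⁻¹, eq_inv_of_mul_eq_one_left ?_, fun i => inv_mem (ha _), inv_mem hπ⟩
    rw [mono_mul, inv_mul_cancel, ← mono_one]
    congr 1
    funext i
    show (a (π i))⁻¹ * a (π i) = 1
    exact inv_mul_cancel _

variable {Q : Subgroup (Matrix.SpecialLinearGroup (Fin 2) F)} {T : Subgroup (Equiv.Perm (Fin n))}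

theorem comp_of_mem_wr {a : Fin n → Matrix.SpecialLinearGroup (Fin 2) F} {π : Equiv.Perm (Fin n)}
    (h : mono a π ∈ wr Q T) : (∀ i, a i ∈ Q) ∧ π ∈ T := by
  obtain ⟨b, σ, e, hb, hσ⟩ := h
  obtain ⟨rfl, rfl⟩ := mono_injective e
  exact ⟨hb, hσ⟩

theorem single_mem_wr (i : Fin n) {q : Matrix.SpecialLinearGroup (Fin 2) F} (hq : q ∈ Q) :
    single i q ∈ wr Q T := by
  refine ⟨Pi.mulSingle i q, 1, rfl, fun j => ?_, one_mem T⟩
  by_cases h : j = i
  · subst h; rw [Pi.mulSingle_eq_same]; exact hq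
  · rw [Pi.mulSingle_eq_of_ne h]; exact one_mem Q

theorem perm_mem_wr {p : Equiv.Perm (Fin n)} (hp : p ∈ T) : mono 1 p ∈ wr Q T :=
  ⟨1, p, rfl, fun _ => one_mem Q, hp⟩

theorem wr_le_Iso : wr Q T ≤ Iso n F := by
  rintro _ ⟨a, π, rfl, -, -⟩
  exact mono_mem_Iso a π

theorem wr_isPGroup (hQ : IsPGroup 2 Q) (hT : IsPGroup 2 T) : IsPGroup 2 (wr Q T) := by
  rintro ⟨_, a, π, rfl, ha, hπ⟩
  have hpow : ∀ j : ℕ, ∃ b, mono a π ^ j = mono b (π ^ j) ∧ ∀ i, b i ∈ Q := by
    intro j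
    induction j with
    | zero => exact ⟨1, by rw [pow_zero, pow_zero, mono_one], fun _ => one_mem Q⟩
    | succ j ih =>
      obtain ⟨b, hb, hbQ⟩ := ih
      exact ⟨_, by rw [pow_succ, hb, mono_mul, pow_succ], fun i => mul_mem (hbQ i) (ha _)⟩
  obtain ⟨e, he⟩ := hT ⟨π, hπ⟩
  obtain ⟨b, hb, hbQ⟩ := hpow (2 ^ e)
  rw [show π ^ 2 ^ e = 1 from congrArg Subtype.val he] at hb
  haveI : Fact (Nat.Prime 2) := ⟨Nat.prime_two⟩
  obtain ⟨c, hc⟩ := hQ.exists_card_eq
  refine ⟨e + c, Subtype.ext ?_⟩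
  show mono a π ^ 2 ^ (e + c) = 1
  rw [pow_add, pow_mul, hb, ← bl_apply, ← map_pow, ← hc, show b ^ Nat.card Q = 1 from funext fun i => ?_,
    map_one]
  rw [Pi.pow_apply, Pi.one_apply]
  exact congrArg Subtype.val (pow_card_eq_one' (x := (⟨b i, hbQ i⟩ : Q)))

theorem diag_conj (y : Matrix.SpecialLinearGroup (Fin 2) F) (a : Fin n → Matrix.SpecialLinearGroup (Fin 2) F)
    (π : Equiv.Perm (Fin n)) :
    bl n F (fun _ => y) * mono a π * (bl n F fun _ => y)⁻¹ = mono (fun i => y * a i * y⁻¹) π := by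
  rw [mul_inv_eq_iff_eq_mul, bl_apply, mono_mul, mono_mul, mul_one, one_mul]
  congr 1
  funext i
  exact (inv_mul_cancel_right _ _).symm

theorem diag_conj_wr {y : Matrix.SpecialLinearGroup (Fin 2) F}
    (hy : y ∈ Subgroup.normalizer (Q : Set (Matrix.SpecialLinearGroup (Fin 2) F)))
    {r : Vs n F ≃ₗ[F] Vs n F} (hr : r ∈ wr Q T) :
    bl n F (fun _ => y) * r * (bl n F fun _ => y)⁻¹ ∈ wr Q T := by
  obtain ⟨a, π, rfl, ha, hπ⟩ := hr
  rw [diag_conj]
  exact ⟨_, _, rfl, fun i => (Subgroup.mem_normalizer_iff.1 hy _).1 (ha i), hπ⟩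

theorem exists_root (Q : Sylow 2 (Matrix.SpecialLinearGroup (Fin 2) F)) :
    ∃ s ∈ Q, s * s = negOne F := by
  let s0 : Matrix.SpecialLinearGroup (Fin 2) F := ⟨!![0, 1; -1, 0], by simp [Matrix.det_fin_two]⟩
  have hs0 : s0 * s0 = negOne F := by
    refine Subtype.ext ?_
    rw [Matrix.SpecialLinearGroup.coe_mul, coe_negOne]
    ext i j
    fin_cases i <;> fin_cases j <;> simp [s0, Matrix.mul_apply, Fin.sum_univ_two]
  obtain ⟨R, -, hR2, hQR, x, -, hx⟩ := exists_conj_two (K := ⊤) le_top Q.2 le_top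
    (P := Subgroup.zpowers s0) (fun g => ⟨2, by
      obtain ⟨t, ht⟩ := g.2
      refine Subtype.ext ?_
      show (g : Matrix.SpecialLinearGroup (Fin 2) F) ^ 2 ^ 2 = 1
      rw [← ht, ← zpow_natCast, zpow_comm, zpow_natCast, show (2 : ℕ) ^ 2 = 2 * 2 from rfl, pow_mul,
        sq s0, hs0, sq, negOne_sq, _root_.one_zpow]⟩)
  refine ⟨x * s0 * x⁻¹, ?_, ?_⟩
  · have h1 := hx s0 (Subgroup.mem_zpowers s0)
    rw [sylow_eq_of_le Q hR2 hQR] at h1
    exact h1
  · rw [show x * s0 * x⁻¹ * (x * s0 * x⁻¹) = x * (s0 * s0) * x⁻¹ by group, hs0, ← SLTwo.negOne_comm,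
      mul_inv_cancel_right]

/-- The normaliser of the wreath product. -/
theorem exists_diag (hodd : Odd (Fintype.card F)) (hn : 0 < n)
    (Q : Sylow 2 (Matrix.SpecialLinearGroup (Fin 2) F)) (T : Sylow 2 (Equiv.Perm (Fin n)))
    (htr : ∀ i j : Fin n, ∃ p ∈ T, p i = j) {x : Vs n F ≃ₗ[F] Vs n F} (hx : x ∈ Iso n F)
    (hN : ∀ r ∈ wr (Q : Subgroup (Matrix.SpecialLinearGroup (Fin 2) F)) (T : Subgroup (Equiv.Perm (Fin n))),
      x * r * x⁻¹ ∈ wr (Q : Subgroup (Matrix.SpecialLinearGroup (Fin 2) F)) (T : Subgroup (Equiv.Perm (Fin n)))) :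
    ∃ y ∈ Subgroup.normalizer ((Q : Subgroup (Matrix.SpecialLinearGroup (Fin 2) F)) :
        Set (Matrix.SpecialLinearGroup (Fin 2) F)),
      ∃ r ∈ wr (Q : Subgroup (Matrix.SpecialLinearGroup (Fin 2) F)) (T : Subgroup (Equiv.Perm (Fin n))),
        x = bl n F (fun _ => y) * r := by
  set Q' := (Q : Subgroup (Matrix.SpecialLinearGroup (Fin 2) F))
  set T' := (T : Subgroup (Equiv.Perm (Fin n)))
  have h2 : (2 : F) ≠ 0 := SylowSL2.two_ne_zero_of_odd hodd
  obtain ⟨s, hsQ, hs⟩ := exists_root Q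
  have hxM : x ∈ Mon n F := mem_Mon_of_planes hx fun i => by
    refine map_plane_of_conj h2 hs ?_
    obtain ⟨a, π, e, -, -⟩ := hN _ (single_mem_wr i hsQ)
    exact e ▸ mono_mem_Mon a π
  obtain ⟨a, π, rfl⟩ := hxM
  have hπN : π ∈ Subgroup.normalizer (T' : Set (Equiv.Perm (Fin n))) := by
    refine Subgroup.mem_normalizer_fintype fun p hp => ?_
    obtain ⟨b, σ, e, -, hσ⟩ := hN _ (perm_mem_wr hp)
    rw [eq_mul_inv_iff_mul_eq, mono_mul, mono_mul] at e
    have e2 := (mono_injective e).2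
    exact (eq_mul_inv_iff_mul_eq.2 e2) ▸ hσ
  have hπ : π ∈ T' := Involutions.AltSylowNormalizer.normalizer_le T (fun y hy hr =>
    Involutions.AltSylowNormalizer.perm_eq_one n (Fin n) (Fintype.card_fin n) T y hy hr) hπN
  have haN : ∀ i, a i ∈ Subgroup.normalizer (Q' : Set (Matrix.SpecialLinearGroup (Fin 2) F)) := by
    intro j
    obtain ⟨i, rfl⟩ := π.surjective j
    refine Subgroup.mem_normalizer_fintype fun q hq => ?_
    have h := hN _ (single_mem_wr i hq)
    rw [mono_conj_single, single_eq] at h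
    have h' := (comp_of_mem_wr h).1 (π i)
    rwa [Pi.mulSingle_eq_same] at h'
  have hpat : ∀ p ∈ T', ∀ i, a i * (a (p.symm i))⁻¹ ∈ Q' := by
    intro p hp i
    have e0 : mono a π = bl n F a * mono 1 π := by
      rw [bl_apply, mono_mul, one_mul]; congr 1; funext i; exact (mul_one _).symm
    have h1 := hN _ (mul_mem (mul_mem (inv_mem (perm_mem_wr hπ)) (perm_mem_wr hp)) (perm_mem_wr hπ))
    rw [e0, show bl n F a * mono 1 π * ((mono 1 π)⁻¹ * mono 1 p * mono 1 π) * (bl n F a * mono 1 π)⁻¹ =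
      bl n F a * mono 1 p * (bl n F a)⁻¹ by group, ← map_inv, bl_apply, bl_apply, mono_mul, mono_mul,
      one_mul, mul_one] at h1
    have := (comp_of_mem_wr h1).1 i
    simpa using this
  let k0 : Fin n := ⟨0, hn⟩
  have hq : ∀ i, (a k0)⁻¹ * a i ∈ Q' := fun i => by
    obtain ⟨p, hp, hpi⟩ := htr k0 i
    have h1 := hpat p hp i
    rw [show p.symm i = k0 by rw [← hpi, Equiv.symm_apply_apply]] at h1
    have h2' := (Subgroup.mem_normalizer_iff''.1 (haN k0) _).1 h1
    rwa [← mul_assoc, inv_mul_cancel_right] at h2'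
  refine ⟨a k0, haN k0, mono (fun i => (a k0)⁻¹ * a i) π, ⟨_, _, rfl, hq, hπ⟩, ?_⟩
  rw [bl_apply, mono_mul, one_mul]
  congr 1
  funext i
  exact (mul_inv_cancel_left _ _).symm

/-- The wreath product is a Sylow 2-subgroup. -/
theorem exists_sylow (hodd : Odd (Fintype.card F)) (hn : 0 < n)
    (Q : Sylow 2 (Matrix.SpecialLinearGroup (Fin 2) F)) (T : Sylow 2 (Equiv.Perm (Fin n)))
    (htr : ∀ i j : Fin n, ∃ p ∈ T, p i = j) :
    ∃ P : Sylow 2 (Iso n F), ∀ x : Iso n F, x ∈ P ↔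
      (x : Vs n F ≃ₗ[F] Vs n F) ∈ wr (Q : Subgroup (Matrix.SpecialLinearGroup (Fin 2) F))
        (T : Subgroup (Equiv.Perm (Fin n))) := by
  haveI : Fact (Nat.Prime 2) := ⟨Nat.prime_two⟩
  haveI := finite_equiv (F := F) (n := n)
  set W := wr (Q : Subgroup (Matrix.SpecialLinearGroup (Fin 2) F)) (T : Subgroup (Equiv.Perm (Fin n))) with hW
  have hWp : IsPGroup 2 W := wr_isPGroup Q.2 T.2
  obtain ⟨P, hP⟩ := (hWp.comap_subtype (K := Iso n F)).exists_le_sylow
  refine ⟨P, fun x => ⟨fun hx => ?_, fun hx => hP hx⟩⟩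
  set P' := (P : Subgroup (Iso n F)).map (Iso n F).subtype with hP'
  have hP'p : IsPGroup 2 P' := P.2.map _
  suffices h : P' ≤ W from h ⟨x, hx, rfl⟩
  have hWP : W ≤ P' := fun w hw => ⟨⟨w, wr_le_Iso hw⟩, hP hw, rfl⟩
  by_contra hne
  have hlt : W.subgroupOf P' < ⊤ := lt_top_iff_ne_top.2 fun e => hne (Subgroup.subgroupOf_eq_top.1 e)
  haveI : Group.IsNilpotent P' := hP'p.isNilpotent
  obtain ⟨g, hgN, hgW⟩ := SetLike.exists_of_lt (Group.normalizerCondition_of_isNilpotent _ hlt)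
  have hgI : (g : Vs n F ≃ₗ[F] Vs n F) ∈ Iso n F := Subgroup.map_subtype_le _ g.2
  obtain ⟨y, hy, r, hr, e⟩ := exists_diag hodd hn Q T htr hgI fun r hr =>
    (Subgroup.mem_normalizer_iff.1 hgN ⟨r, hWP hr⟩).1 hr
  have hyP : bl n F (fun _ => y) ∈ P' := by
    have h1 := mul_mem g.2 (inv_mem (hWP hr))
    rwa [e, mul_inv_cancel_right] at h1
  obtain ⟨j, hj⟩ := hP'p ⟨_, hyP⟩
  have hyQ : y ∈ Q := by
    refine mem_of_two_element Q (a := j) ?_ hy
    have h1 : bl n F ((fun _ : Fin n => y) ^ 2 ^ j) = bl n F 1 := by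
      rw [map_pow, map_one]; exact congrArg Subtype.val hj
    exact congrFun (mono_injective h1).1 ⟨0, hn⟩
  refine hgW ?_
  rw [Subgroup.mem_subgroupOf, e]
  exact mul_mem ⟨fun _ => y, 1, rfl, fun _ => hyQ, one_mem _⟩ hr

namespace QData

/-- A diagonal element of the normaliser against an overgroup of the wreath product. -/
theorem diag_dichotomy (D : QData F) (hodd : Odd (Fintype.card F)) {T : Subgroup (Equiv.Perm (Fin n))}
    (hT : IsPGroup 2 T) (htr : ∀ i j : Fin n, ∃ p ∈ T, p i = j)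
    {K : Subgroup (Vs n F ≃ₗ[F] Vs n F)} (hKI : K ≤ Iso n F)
    (hK : wr (D.Q : Subgroup (Matrix.SpecialLinearGroup (Fin 2) F)) T ≤ K)
    {y : Matrix.SpecialLinearGroup (Fin 2) F} (hy : y ∈ D.N) :
    bl n F (fun _ => y) ∈ Subgroup.normalizer (K : Set (Vs n F ≃ₗ[F] Vs n F)) ∨
      bl n F (fun _ => y) ∈ K ⊔ K.map (MulAut.conj (bl n F fun _ => y)).toMonoidHom := by
  classical
  haveI := finite_equiv (F := F) (n := n)
  set c := bl n F (fun _ : Fin n => y) with hc
  have hB : ∀ i : Fin n, ∀ q ∈ D.Q, single i q ∈ K := fun i q hq => hK (single_mem_wr i hq)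
  have hTK : ∀ p ∈ T, mono 1 p ∈ K := fun p hp => hK (perm_mem_wr hp)
  by_cases hG : D.NoGraph K
  swap
  · obtain ⟨i, j, hij⟩ : ∃ i j, D.HasGraph K i j := by
      simp only [NoGraph] at hG
      push Not at hG
      exact hG
    obtain ⟨a, ha, ham, hne⟩ := D.exists_pair_of_graph hB hij
    exact Or.inr (Subgroup.mem_sup_left (D.diag_mem hB hT hTK htr ha ham hne hy))
  have hKM : K ≤ Mon n F := le_Mon_of_noGraph D Finset.univ K hKI
    (fun g _ i hi => absurd (Finset.mem_univ i) hi) (fun i _ => hB i) hG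
  let Ki : Fin n → Subgroup (Matrix.SpecialLinearGroup (Fin 2) F) := fun i => K.comap (single i)
  by_cases hnorm : ∀ i, y ∈ Subgroup.normalizer (Ki i : Set (Matrix.SpecialLinearGroup (Fin 2) F))
  · refine Or.inl (Subgroup.mem_normalizer_fintype fun g hg => ?_)
    obtain ⟨a, π, rfl⟩ := hKM hg
    have hx : ∀ j, ∃ x ∈ Ki j, x * a j ∈ D.N := by
      intro j
      obtain ⟨i, rfl⟩ := π.surjective j
      obtain ⟨R, -, hR2, hQR, x, hxK, hx⟩ := exists_conj_two (K := Ki (π i))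
        (B := (D.Q : Subgroup (Matrix.SpecialLinearGroup (Fin 2) F))) (fun q hq => hB (π i) q hq) D.Q.2
        (P := (D.Q : Subgroup (Matrix.SpecialLinearGroup (Fin 2) F)).map (MulAut.conj (a (π i))).toMonoidHom)
        (by
          rintro _ ⟨q, hq, rfl⟩
          show single (π i) (a (π i) * q * (a (π i))⁻¹) ∈ K
          rw [← mono_conj_single]
          exact mul_mem (mul_mem hg (hB i q hq)) (inv_mem hg))
        (D.Q.2.map _)
      refine ⟨x, hxK, Subgroup.mem_normalizer_fintype fun q hq => ?_⟩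
      have h1 := hx _ ⟨q, hq, rfl⟩
      rw [MulEquiv.coe_toMonoidHom, MulAut.conj_apply, sylow_eq_of_le D.Q hR2 hQR] at h1
      rwa [show x * a (π i) * q * (x * a (π i))⁻¹ = x * (a (π i) * q * (a (π i))⁻¹) * x⁻¹ by group]
    choose x hxK hxN using hx
    have hbl : ∀ b : Fin n → Matrix.SpecialLinearGroup (Fin 2) F, (∀ i, b i ∈ Ki i) → bl n F b ∈ K :=
      fun b hb => Subgroup.pi_mem_of_mulSingle_mem (H := K.comap (bl n F)) b hb
    have hn' : bl n F x * mono a π ∈ K := mul_mem (hbl x hxK) hg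
    have e1 : mono a π = (bl n F x)⁻¹ * (bl n F x * mono a π) := (inv_mul_cancel_left _ _).symm
    rw [e1, show c * ((bl n F x)⁻¹ * (bl n F x * mono a π)) * c⁻¹ =
      (c * (bl n F x)⁻¹ * c⁻¹) * (c * (bl n F x * mono a π) * c⁻¹) by group]
    refine mul_mem ?_ ?_
    · rw [hc, ← map_inv, bl_apply, bl_apply, ← bl_apply, diag_conj, ← bl_apply]
      exact hbl _ fun i => (Subgroup.mem_normalizer_iff.1 (hnorm i) _).1 (inv_mem (hxK i))
    · have e2 : bl n F x * mono a π = mono (fun i => x i * a i) π := by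
        rw [bl_apply, mono_mul, one_mul]; rfl
      rw [e2, diag_conj, ← show mono (fun i => y * (x i * a i) * y⁻¹ * (x i * a i)⁻¹) 1 * mono (fun i => x i * a i) π =
        mono (fun i => y * (x i * a i) * y⁻¹) π by
          rw [mono_mul, one_mul]; congr 1; funext i; exact inv_mul_cancel_right _ _, ← bl_apply, ← e2]
      exact mul_mem (hbl _ fun i => hB i _ (comm_mod_sylow hodd D.Q hy (hxN i))) hn'
  push Not at hnorm
  obtain ⟨i, hi⟩ := hnorm
  rcases normalised_or_mem hodd D.Q (K := Ki i) (fun q hq => hB i q hq) hy with h | ⟨m, hm, hmN, hmQ⟩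
  · exact absurd h hi
  refine Or.inr ?_
  set J := K ⊔ K.map (MulAut.conj c).toMonoidHom with hJ
  have hKJ : K ≤ J := le_sup_left
  have hmJ : single i m ∈ J := by
    refine (sup_le (fun s hs => hKJ hs) ?_ : Ki i ⊔ (Ki i).map (MulAut.conj y).toMonoidHom ≤ J.comap (single i)) hm
    rintro _ ⟨s, hs, rfl⟩
    refine Subgroup.mem_comap.2 (Subgroup.mem_sup_right ⟨single i s, hs, ?_⟩)
    rw [MulEquiv.coe_toMonoidHom, MulAut.conj_apply, MulEquiv.coe_toMonoidHom, MulAut.conj_apply, hc,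
      bl_apply, mono_conj_single]
    rfl
  have hmem : ∀ k, (Pi.mulSingle i m : Fin n → Matrix.SpecialLinearGroup (Fin 2) F) k ∈ D.N := fun k => by
    by_cases h : k = i
    · subst h; rw [Pi.mulSingle_eq_same]; exact hmN
    · rw [Pi.mulSingle_eq_of_ne h]; exact one_mem _
  refine D.diag_mem (a := Pi.mulSingle i m) (fun i q hq => hKJ (hB i q hq)) hT
    (fun p hp => hKJ (hTK p hp)) htr hmem hmJ ?_ hy
  rw [Finset.prod_eq_single i (fun k _ hk => ?_) (fun h => absurd (Finset.mem_univ i) h)]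
  · intro h
    have h' := D.cls_eq_one.1 h
    simp only [Pi.mulSingle_eq_same] at h'
    exact hmQ h'
  · rw [D.cls_eq_one]
    simp only [Pi.mulSingle_eq_of_ne hk]
    exact one_mem _

end QData

/-- The key property. -/
theorem key_iso (n w : ℕ) (F : Type u) [Field F] [Fintype F] (hn : n = 2 ^ w)
    (hodd : Odd (Fintype.card F)) : KeyProp (Iso n F) := by
  haveI : Fact (Nat.Prime 2) := ⟨Nat.prime_two⟩
  haveI := finite_equiv (F := F) (n := n)
  have hn0 : 0 < n := hn ▸ Nat.two_pow_pos w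
  obtain ⟨T, htr⟩ := exists_transitive_sylow hn
  obtain ⟨Q⟩ : Nonempty (Sylow 2 (Matrix.SpecialLinearGroup (Fin 2) F)) := inferInstance
  obtain ⟨P, hP⟩ := exists_sylow hodd hn0 Q T htr
  set W := wr (Q : Subgroup (Matrix.SpecialLinearGroup (Fin 2) F)) (T : Subgroup (Equiv.Perm (Fin n)))
  have hdiag : ∀ a ∈ Subgroup.normalizer ((P : Subgroup (Iso n F)) : Set (Iso n F)),
      ∃ y ∈ Subgroup.normalizer ((Q : Subgroup (Matrix.SpecialLinearGroup (Fin 2) F)) :
        Set (Matrix.SpecialLinearGroup (Fin 2) F)),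
      ∃ r ∈ W, (a : Vs n F ≃ₗ[F] Vs n F) = bl n F (fun _ => y) * r := fun a ha =>
    exists_diag hodd hn0 Q T htr a.2 fun r hr => by
      have := (Subgroup.mem_normalizer_iff.1 ha ⟨r, wr_le_Iso hr⟩).1 ((hP _).2 hr)
      exact (hP _).1 this
  refine ⟨P, fun a ha b hb => ?_, fun K hK g hg => ?_⟩
  · obtain ⟨y, hy, r, hr, ea⟩ := hdiag a ha
    obtain ⟨y', hy', r', hr', eb⟩ := hdiag b hb
    refine (hP _).2 ?_
    push_cast
    rw [ea, eb]
    set c := bl n F (fun _ : Fin n => y) with hc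
    set c' := bl n F (fun _ : Fin n => y') with hc'
    rw [show c * r * (c' * r') * (c * r)⁻¹ * (c' * r')⁻¹ = (c * r * c⁻¹) * (c * c' * (r' * r⁻¹) * (c * c')⁻¹) *
      (c * c' * c⁻¹ * c'⁻¹) * (c' * r'⁻¹ * c'⁻¹) by group]
    refine mul_mem (mul_mem (mul_mem (diag_conj_wr hy hr) ?_) ?_) (diag_conj_wr hy' (inv_mem hr'))
    · rw [hc, hc', ← map_mul]
      exact diag_conj_wr (mul_mem hy hy') (mul_mem hr' (inv_mem hr))
    · rw [hc, hc', ← map_inv, ← map_inv, ← map_mul, ← map_mul, ← map_mul]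
      exact ⟨_, 1, rfl, fun i => comm_mod_sylow hodd Q hy hy', one_mem _⟩
  obtain ⟨y, hy, r, hr, eg⟩ := hdiag g hg
  rcases normalizer_dichotomy hodd Q with hQN | ⟨D, hD⟩
  · rw [hQN] at hy
    have hgW : (g : Vs n F ≃ₗ[F] Vs n F) ∈ W := eg ▸ mul_mem ⟨fun _ => y, 1, rfl, fun _ => hy, one_mem _⟩ hr
    exact Or.inl (Subgroup.le_normalizer (hK ((hP g).2 hgW)))
  subst hD
  set K0 := K.map (Iso n F).subtype with hK0
  have hWK : W ≤ K0 := fun v hv => ⟨⟨v, wr_le_Iso hv⟩, hK ((hP _).2 hv), rfl⟩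
  have hrK := hWK hr
  rcases D.diag_dichotomy hodd T.2 htr (Subgroup.map_subtype_le K) hWK hy with h | h
  · left
    have hgK : (g : Vs n F ≃ₗ[F] Vs n F) ∈ Subgroup.normalizer (K0 : Set (Vs n F ≃ₗ[F] Vs n F)) :=
      eg ▸ mul_mem h (Subgroup.le_normalizer hrK)
    refine Subgroup.mem_normalizer_iff.2 fun k => ?_
    have := Subgroup.mem_normalizer_iff.1 hgK k
    exact ((Subgroup.mem_map_iff_mem (f := (Iso n F).subtype) (x := k) (Subgroup.subtype_injective _)).symm.trans this).trans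
      (Subgroup.mem_map_iff_mem (f := (Iso n F).subtype) (x := g * k * g⁻¹) (Subgroup.subtype_injective _))
  · right
    set c := bl n F (fun _ : Fin n => y) with hc
    have hmap : (K ⊔ K.map (MulAut.conj g).toMonoidHom).map (Iso n F).subtype =
        K0 ⊔ K0.map (MulAut.conj (g : Vs n F ≃ₗ[F] Vs n F)).toMonoidHom := by
      rw [Subgroup.map_sup, hK0, Subgroup.map_map, Subgroup.map_map]
      congr 1
    have heq : K0.map (MulAut.conj (g : Vs n F ≃ₗ[F] Vs n F)).toMonoidHom =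
        K0.map (MulAut.conj c).toMonoidHom := by
      rw [eg, map_conj_mul, map_conj_eq_self (Subgroup.le_normalizer hrK)]
    have hmem : (g : Vs n F ≃ₗ[F] Vs n F) ∈ (K ⊔ K.map (MulAut.conj g).toMonoidHom).map (Iso n F).subtype := by
      rw [hmap, heq, eg]
      exact mul_mem h (Subgroup.mem_sup_left hrK)
    exact (Subgroup.mem_map_iff_mem (Subgroup.subtype_injective (Iso n F))).1 hmem

end Cfsg.Agent.Classical.OddSp
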