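import Mathlib
import Cfsg.Agent.Lib.Coprime.Sylow
import Cfsg.Agent.Lib.ZStar.Main
import Cfsg.Agent.InvChar.Core

/-!
# Unipotent conjugators for an involution of small rank

In a group `X` of isometries moving at most four dimensions let `e = q ^ 2` be an involution, isolated
modulo a central `z`, with `q` of order four moving at most two dimensions.  Then every conjugate of
`e` is, up to `z`, the conjugate by an element of one `p`-subgroup.
-/

set_option autoImplicit false
set_option linter.unusedSectionVars false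
set_option linter.style.haveILetI false

namespace Cfsg.Agent.Classical.OddSp

open Module

variable {F : Type*} [Field F] {V : Type*} [AddCommGroup V] [Module F V]

/-- An automorphism as an endomorphism. -/
def lin : (V ≃ₗ[F] V) →* Module.End F V := LinearEquiv.automorphismGroup.toLinearMapMonoidHom

@[simp] theorem lin_apply (g : V ≃ₗ[F] V) (v : V) : lin g v = g v := rfl

theorem lin_injective : Function.Injective (lin : (V ≃ₗ[F] V) → Module.End F V) :=
  fun _ _ h => LinearEquiv.ext fun v => LinearMap.congr_fun h v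

/-- The automorphisms commuting with an endomorphism. -/
def endCentralizer (S : Module.End F V) : Subgroup (V ≃ₗ[F] V) where
  carrier := {g | Commute (lin g) S}
  one_mem' := by simp only [Set.mem_ofPred_eq, map_one]; exact Commute.one_left S
  mul_mem' := fun {a b} ha hb => by simp only [Set.mem_ofPred_eq, map_mul]; exact ha.mul_left hb
  inv_mem' := fun {a} ha => by
    show Commute (lin a⁻¹) S
    calc lin a⁻¹ * S = lin a⁻¹ * (S * lin a) * lin a⁻¹ := by
          rw [mul_assoc, mul_assoc, ← map_mul, mul_inv_cancel, map_one, mul_one]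
      _ = lin a⁻¹ * lin a * S * lin a⁻¹ := by rw [show S * lin a = lin a * S from (Commute.eq ha).symm, ← mul_assoc]
      _ = S * lin a⁻¹ := by rw [← map_mul, inv_mul_cancel, map_one, one_mul]

/-- The restriction of a group of automorphisms to an invariant subspace. -/
def restrHom (W : Submodule F V) (K : Subgroup (V ≃ₗ[F] V)) (hK : ∀ k ∈ K, ∀ v ∈ W, k v ∈ W) :
    K →* Module.End F W where
  toFun k := (lin (k : V ≃ₗ[F] V)).restrict (fun v hv => hK k k.2 v hv)
  map_one' := LinearMap.ext fun _ => rfl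
  map_mul' _ _ := LinearMap.ext fun _ => rfl

theorem restrHom_apply (W : Submodule F V) (K : Subgroup (V ≃ₗ[F] V))
    (hK : ∀ k ∈ K, ∀ v ∈ W, k v ∈ W) (k : K) (v : W) :
    ((restrHom W K hK k v : W) : V) = (k : V ≃ₗ[F] V) v := rfl

/-- The trace of the sum of the powers of an element of finite order counts its fixed points. -/
theorem trace_sum_pow [FiniteDimensional F V] (f : Module.End F V) (n : ℕ) (hn : (n : F) ≠ 0)
    (hf : f ^ n = 1) :
    LinearMap.trace F V (∑ m ∈ Finset.range n, f ^ m) = n * (finrank F (LinearMap.ker (f - 1)) : F) := by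
  set S := ∑ m ∈ Finset.range n, f ^ m with hS
  have hproj : LinearMap.IsProj (LinearMap.ker (f - 1)) ((n : F)⁻¹ • S) := by
    refine ⟨fun v => ?_, fun v hv => ?_⟩
    · rw [LinearMap.mem_ker, ← Module.End.mul_apply, mul_smul_comm, hS, mul_geom_sum, hf, sub_self,
        smul_zero, LinearMap.zero_apply]
    · have hfv : f v = v := by
        rwa [LinearMap.mem_ker, LinearMap.sub_apply, Module.End.one_apply, sub_eq_zero] at hv
      have hpow : ∀ m, (f ^ m) v = v := by
        intro m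
        induction m with
        | zero => rfl
        | succ m ih => rw [pow_succ, Module.End.mul_apply, hfv, ih]
      rw [LinearMap.smul_apply, hS, LinearMap.sum_apply, Finset.sum_congr rfl fun m _ => hpow m,
        Finset.sum_const, Finset.card_range, ← Nat.cast_smul_eq_nsmul F, smul_smul, inv_mul_cancel₀ hn,
        one_smul]
  have h := hproj.trace
  rw [map_smul, smul_eq_mul] at h
  rw [← h, ← mul_assoc, mul_inv_cancel₀ hn, one_mul]

section Geom

variable {R : Type*} [Ring R] {l : ℕ}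

/-- A permutation of a geometric series. -/
theorem geom_sum_mul_exp (hl : l.Prime) {ζ : R} (hζ : ζ ^ l = 1) (hgeom : ∑ m ∈ Finset.range l, ζ ^ m = 0)
    {k : ℕ} (hk : ¬ l ∣ k) : ∑ m ∈ Finset.range l, (ζ ^ k) ^ m = 0 := by
  rw [← hgeom]
  have hmod : ∀ a, ζ ^ a = ζ ^ (a % l) := fun a => by
    conv_lhs => rw [← Nat.mod_add_div a l, pow_add, pow_mul, hζ, one_pow, mul_one]
  have hinj : Set.InjOn (fun m => k * m % l) (Finset.range l) := by
    intro a ha b hb hab
    have h : a ≡ b [MOD l] :=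
      Nat.ModEq.cancel_left_of_coprime ((hl.coprime_iff_not_dvd.2 hk)) hab
    exact h.eq_of_lt_of_lt (Finset.mem_range.1 ha) (Finset.mem_range.1 hb)
  have hmaps : ∀ m ∈ Finset.range l, k * m % l ∈ Finset.range l :=
    fun m _ => Finset.mem_range.2 (Nat.mod_lt _ hl.pos)
  refine Finset.sum_bij (fun m _ => k * m % l) hmaps (fun a ha b hb e => hinj ha hb e)
    (fun c hc => ?_) fun m _ => by rw [← pow_mul, hmod]
  have himg : (Finset.range l).image (fun m => k * m % l) = Finset.range l :=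
    Finset.eq_of_subset_of_card_le (Finset.image_subset_iff.2 hmaps)
      (by rw [Finset.card_image_of_injOn hinj])
  rw [← himg, Finset.mem_image] at hc
  obtain ⟨a, ha, rfl⟩ := hc
  exact ⟨a, ha, rfl⟩

/-- Components with distinct weights under a unit are zero when their sum is. -/
theorem eq_zero_of_twisted (hl : l.Prime) (hl0 : IsUnit (l : R)) {ζ u : R} (hu : IsUnit u)
    (hζ : ζ ^ l = 1) (hgeom : ∑ m ∈ Finset.range l, ζ ^ m = 0) (Y : Fin l → R) (hcu : Commute ζ u)
    (hY : ∀ i : Fin l, u * Y i = ζ ^ (i : ℕ) * Y i * u) (hsum : ∑ i, Y i = 0) (i₀ : Fin l) : Y i₀ = 0 := by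
  have hall : ∀ m : ℕ, ∑ i : Fin l, ζ ^ ((i : ℕ) * m) * Y i = 0 := by
    intro m
    induction m with
    | zero => simpa using hsum
    | succ m ih =>
      refine hu.mul_left_eq_zero.1 ?_
      have h := congrArg (fun r => u * r) ih
      simp only [Finset.mul_sum, mul_zero] at h
      rw [Finset.sum_mul]
      refine Eq.trans (Finset.sum_congr rfl fun i _ => ?_) h
      rw [← mul_assoc u, ← (hcu.pow_left _).eq, mul_assoc _ u, hY, Nat.mul_succ, pow_add]
      simp only [mul_assoc]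
  have h0 : ∑ i : Fin l, (∑ m ∈ Finset.range l, (ζ ^ (l - (i₀ : ℕ) + i)) ^ m) * Y i = 0 := by
    simp only [Finset.sum_mul]
    rw [Finset.sum_comm]
    refine Finset.sum_eq_zero fun m _ => ?_
    have h := congrArg (fun r => ζ ^ ((l - (i₀ : ℕ)) * m) * r) (hall m)
    simp only [Finset.mul_sum, mul_zero] at h
    refine Eq.trans (Finset.sum_congr rfl fun i _ => ?_) h
    rw [← mul_assoc, ← pow_add, ← pow_mul, Nat.add_mul]
  rw [Finset.sum_eq_single i₀] at h0
  · rw [Nat.sub_add_cancel i₀.2.le, hζ] at h0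
    simp only [one_pow, Finset.sum_const, Finset.card_range, nsmul_one] at h0
    exact hl0.mul_right_eq_zero.1 h0
  · intro i _ hi
    rw [geom_sum_mul_exp hl hζ hgeom, zero_mul]
    intro hdvd
    have hi0 := i₀.2
    have hi1 := i.2
    rcases hdvd with ⟨c, hc⟩
    have hne : (i : ℕ) ≠ i₀ := fun e => hi (Fin.ext e)
    rcases Nat.lt_trichotomy c 1 with h | h | h
    · interval_cases c
      omega
    · subst h; omega
    · have : 2 * l ≤ l * c := by rw [mul_comm]; exact Nat.mul_le_mul_left l h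
      omega
  · exact fun h => absurd (Finset.mem_univ i₀) h

end Geom

variable [FiniteDimensional F V]

/-- An abelian group of odd order prime to the characteristic normalised by `q` centralises `q * q`. -/
theorem commute_of_abelian (h2 : (2 : F) ≠ 0) {q e : V ≃ₗ[F] V} (hqe : q * q = e) (he2 : e * e = 1)
    (hrk : finrank F (LinearMap.range (lin q - 1)) ≤ 2) (Q : Subgroup (V ≃ₗ[F] V)) [Finite Q]
    (hodd : Odd (Nat.card Q)) (hQ0 : (Nat.card Q : F) ≠ 0) (hab : ∀ a ∈ Q, ∀ b ∈ Q, a * b = b * a)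
    (hqQ : ∀ a ∈ Q, q * a * q⁻¹ ∈ Q) : ∀ a ∈ Q, a * e = e * a := by
  classical
  have heinv : e⁻¹ = e := inv_eq_of_mul_eq_one_right he2
  have heQ : ∀ a ∈ Q, e * a * e⁻¹ ∈ Q := fun a ha => by
    have := hqQ _ (hqQ a ha)
    rwa [← hqe, mul_inv_rev, show q * q * a * (q⁻¹ * q⁻¹) = q * (q * a * q⁻¹) * q⁻¹ by group]
  have h2dvd : ∀ a ∈ Q, a * a = 1 → a = 1 := fun a ha haa => by
    have h1 : orderOf a ∣ 2 := orderOf_dvd_of_pow_eq_one (by rw [sq, haa])
    have h2 : orderOf a ∣ Nat.card Q := Subgroup.orderOf_dvd_natCard Q ha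
    rw [← orderOf_eq_one_iff]
    exact Nat.dvd_one.1 ((Nat.coprime_two_left.2 hodd).gcd_eq_one ▸ Nat.dvd_gcd h1 h2)
  -- the inverted elements
  let A : Subgroup (V ≃ₗ[F] V) :=
    { carrier := {a | a ∈ Q ∧ e * a * e⁻¹ = a⁻¹}
      one_mem' := ⟨one_mem Q, by group⟩
      mul_mem' := fun {a b} ha hb => ⟨mul_mem ha.1 hb.1, by
        rw [mul_inv_rev, show e * (a * b) * e⁻¹ = (e * a * e⁻¹) * (e * b * e⁻¹) by group, ha.2, hb.2]
        exact hab _ (inv_mem ha.1) _ (inv_mem hb.1)⟩
      inv_mem' := fun {a} ha => ⟨inv_mem ha.1, by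
        rw [show e * a⁻¹ * e⁻¹ = (e * a * e⁻¹)⁻¹ by group, ha.2]⟩ }
  have hAQ : A ≤ Q := fun a ha => ha.1
  suffices hA : ∀ a ∈ A, a = 1 by
    intro a ha
    have hmem : a * (e * a * e⁻¹)⁻¹ ∈ A := by
      refine ⟨mul_mem ha (inv_mem (heQ a ha)), ?_⟩
      rw [heinv]
      calc e * (a * (e * a * e)⁻¹) * e = e * a * e⁻¹ * a⁻¹ * e⁻¹ * e := by group
        _ = e * a * e * a⁻¹ * e * e := by rw [heinv]
        _ = (a * (e * a * e)⁻¹)⁻¹ := by rw [mul_assoc _ e e, he2, mul_one]; group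
    have h1 := hA _ hmem
    rw [mul_inv_eq_one] at h1
    calc a * e = e * a * e⁻¹ * e := by rw [← h1]
      _ = e * a := inv_mul_cancel_right _ _
  by_contra hne
  push Not at hne
  haveI : Finite A := Finite.of_injective _ (Subgroup.inclusion_injective hAQ)
  haveI := Fintype.ofFinite A
  have hA0 : (Fintype.card A : F) ≠ 0 := by
    obtain ⟨c, hc⟩ := Subgroup.card_dvd_of_le hAQ
    intro h
    refine hQ0 ?_
    rw [hc, Nat.cast_mul, Nat.card_eq_fintype_card, h, zero_mul]
  have hqA : ∀ a ∈ A, q * a * q⁻¹ ∈ A := fun a ha => ⟨hqQ a ha.1, by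
    rw [← hqe, show q * q * (q * a * q⁻¹) * (q * q)⁻¹ = q * (q * q * a * (q * q)⁻¹) * q⁻¹ by group, hqe,
      ha.2]
    group⟩
  have hqpow : ∀ m : ℕ, ∀ a ∈ A, q ^ m * a * (q ^ m)⁻¹ ∈ A := by
    intro m
    induction m with
    | zero => intro a ha; simpa using ha
    | succ m ih =>
      intro a ha
      have := ih _ (hqA a ha)
      rwa [show q ^ m * (q * a * q⁻¹) * (q ^ m)⁻¹ = q ^ (m + 1) * a * (q ^ (m + 1))⁻¹ by
        rw [pow_succ]; group] at this
  have hq4 : q ^ 4 = 1 := by rw [show 4 = 2 * 2 from rfl, pow_mul, sq q, hqe, sq, he2]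
  -- fixed points of the powers of `q`
  have hfpf : ∀ m, 0 < m → m < 4 → ∀ a ∈ A, q ^ m * a * (q ^ m)⁻¹ = a → a = 1 := by
    intro m hm0 hm4 a ha hfix
    have hea : e * a * e⁻¹ = a := by
      have h1 : q ^ (2 * m) * a * (q ^ (2 * m))⁻¹ = a := by
        calc q ^ (2 * m) * a * (q ^ (2 * m))⁻¹ = q ^ m * (q ^ m * a * (q ^ m)⁻¹) * (q ^ m)⁻¹ := by
              rw [two_mul, pow_add]; group
          _ = a := by rw [hfix, hfix]
      have hc : Commute (q ^ m) a := by
        show q ^ m * a = a * q ^ m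
        conv_rhs => rw [← hfix]
        group
      have hqq : Commute (q ^ 2) a := by
        rcases (show m = 1 ∨ m = 2 ∨ m = 3 by omega) with rfl | rfl | rfl
        · exact (show Commute q a by simpa using hc).pow_left 2
        · exact hc
        · have h := hc.pow_left 2
          rwa [← pow_mul, show 3 * 2 = 4 + 2 from rfl, pow_add, hq4, one_mul] at h
      rw [← hqe, ← sq, hqq.eq, mul_inv_cancel_right]
    refine h2dvd a ha.1 ?_
    nth_rw 2 [show a = a⁻¹ from hea.symm.trans ha.2]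
    exact mul_inv_cancel a
  -- the moved subspace
  set S : Module.End F V := ∑ a : A, lin (a : V ≃ₗ[F] V) with hS
  set W := LinearMap.ker S with hW
  have hAS : ∀ a₀ : A, lin (a₀ : V ≃ₗ[F] V) * S = S := fun a₀ => by
    rw [hS, Finset.mul_sum]
    exact Fintype.sum_bijective _ (Group.mulLeft_bijective a₀) _ _ fun a => (map_mul lin _ _).symm
  have hSA : ∀ a₀ : A, S * lin (a₀ : V ≃ₗ[F] V) = S := fun a₀ => by
    rw [hS, Finset.sum_mul]
    exact Fintype.sum_bijective _ (Group.mulRight_bijective a₀) _ _ fun a => (map_mul lin _ _).symm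
  have hqS : Commute (lin q) S := by
    show lin q * S = S * lin q
    rw [hS, Finset.mul_sum, Finset.sum_mul]
    let φ : A → A := fun a => ⟨q * (a : V ≃ₗ[F] V) * q⁻¹, hqA a a.2⟩
    have hφ : Function.Bijective φ := Finite.injective_iff_bijective.1 fun a b h =>
      Subtype.ext (mul_left_cancel (mul_right_cancel (congrArg Subtype.val h)))
    exact Fintype.sum_bijective φ hφ _ _ fun a => by
      rw [← map_mul, ← map_mul]
      show lin _ = lin (q * (a : V ≃ₗ[F] V) * q⁻¹ * q)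
      rw [inv_mul_cancel_right]
  set K := endCentralizer S with hK
  have hKW : ∀ k ∈ K, ∀ v ∈ W, k v ∈ W := fun k hk v hv => by
    have h : S ((lin k) v) = lin k (S v) := (LinearMap.congr_fun (Commute.eq hk) v).symm
    rw [hW, LinearMap.mem_ker] at hv ⊢
    rw [hv, map_zero] at h
    exact h
  have hAK : ∀ a : A, (a : V ≃ₗ[F] V) ∈ K := fun a => (hAS a).trans (hSA a).symm
  have hqK : q ∈ K := hqS
  let ρ := restrHom W K hKW
  let qK : K := ⟨q, hqK⟩
  let aK : A →* K := (Subgroup.inclusion (fun a ha => hAK ⟨a, ha⟩ : A ≤ K))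
  set f := ρ qK with hf
  have hf4 : f ^ 4 = 1 := by
    rw [hf, ← map_pow, show qK ^ 4 = 1 from Subtype.ext hq4, map_one]
  have hsumA : ∑ a : A, ρ (aK a) = 0 := LinearMap.ext fun w => Subtype.ext (by
    have hw : S (w : V) = 0 := w.2
    rw [hS, LinearMap.sum_apply] at hw
    rw [LinearMap.sum_apply, LinearMap.zero_apply, Submodule.coe_sum]
    exact hw)
  -- the average of the conjugates
  have htr : (Fintype.card A : F) * LinearMap.trace F W (∑ m ∈ Finset.range 4, f ^ m) =
      (Fintype.card A : F) * finrank F W := by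
    have h1 : ∑ a : A, ρ (aK a) * (∑ m ∈ Finset.range 4, f ^ m) * ρ (aK a⁻¹) =
        (Fintype.card A : F) • (1 : Module.End F W) := by
      simp only [Finset.mul_sum, Finset.sum_mul]
      rw [Finset.sum_comm, Finset.sum_eq_single 0]
      · simp only [pow_zero, mul_one, ← map_mul, mul_inv_cancel, map_one, Finset.sum_const,
          Finset.card_univ]
        rw [Nat.cast_smul_eq_nsmul]
      · intro m hm hm0
        have hm4 := Finset.mem_range.1 hm
        let ψ : A → A := fun a => a * ⟨q ^ m * ((a : V ≃ₗ[F] V))⁻¹ * (q ^ m)⁻¹, hqpow m _ (inv_mem a.2)⟩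
        have hψ : Function.Bijective ψ := Finite.injective_iff_bijective.1 fun a b hab' => by
          have h0 := congrArg Subtype.val hab'
          simp only [ψ, Subgroup.coe_mul] at h0
          refine Subtype.ext (inv_mul_eq_one.1 (hfpf m (Nat.pos_of_ne_zero hm0) hm4 _
            (mul_mem (inv_mem a.2) b.2) ?_))
          have hc := hab _ (hAQ (hqpow m _ (inv_mem a.2))) _ (inv_mem (hAQ b.2))
          calc q ^ m * ((a : V ≃ₗ[F] V)⁻¹ * b) * (q ^ m)⁻¹
              = (q ^ m * (a : V ≃ₗ[F] V)⁻¹ * (q ^ m)⁻¹) * (q ^ m * (b : V ≃ₗ[F] V)⁻¹ * (q ^ m)⁻¹)⁻¹ := by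
                group
            _ = (a : V ≃ₗ[F] V)⁻¹ * (↑a * (q ^ m * (a : V ≃ₗ[F] V)⁻¹ * (q ^ m)⁻¹)) *
                  (q ^ m * (b : V ≃ₗ[F] V)⁻¹ * (q ^ m)⁻¹)⁻¹ := by group
            _ = (a : V ≃ₗ[F] V)⁻¹ * b := by rw [h0]; group
        calc ∑ a : A, ρ (aK a) * f ^ m * ρ (aK a⁻¹) = ∑ a : A, ρ (aK (ψ a)) * f ^ m := by
              refine Finset.sum_congr rfl fun a _ => ?_
              rw [hf, ← map_pow, ← map_mul, ← map_mul, ← map_mul]
              refine congrArg ρ (Subtype.ext ?_)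
              show (a : V ≃ₗ[F] V) * q ^ m * (a : V ≃ₗ[F] V)⁻¹ =
                (a : V ≃ₗ[F] V) * (q ^ m * (a : V ≃ₗ[F] V)⁻¹ * (q ^ m)⁻¹) * q ^ m
              group
          _ = (∑ a : A, ρ (aK a)) * f ^ m := by
              rw [Finset.sum_mul]
              exact Fintype.sum_bijective ψ hψ _ _ fun a => rfl
          _ = 0 := by rw [hsumA, zero_mul]
      · intro h; simp at h
    have h2 := congrArg (LinearMap.trace F W) h1
    rw [map_sum, map_smul, LinearMap.trace_one, smul_eq_mul] at h2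
    rw [← h2, ← Finset.card_univ, ← nsmul_eq_mul, ← Finset.sum_const]
    refine Finset.sum_congr rfl fun a _ => ?_
    rw [LinearMap.trace_mul_comm, ← mul_assoc, ← map_mul, ← map_mul, inv_mul_cancel, map_one, map_one,
      one_mul]
  have h4 : ((4 : ℕ) : F) ≠ 0 := by
    rw [show ((4 : ℕ) : F) = 2 * 2 by norm_num]
    exact mul_ne_zero h2 h2
  have E1 := mul_left_cancel₀ hA0 htr
  rw [trace_sum_pow f 4 h4 hf4] at E1
  -- the same for `f ^ 2`
  have hf2 : (f ^ 2) ^ 2 = 1 := by rw [← pow_mul]; exact hf4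
  have htr2 : LinearMap.trace F W (∑ m ∈ Finset.range 2, (f ^ 2) ^ m) = finrank F W := by
    have h1 : ∑ a : A, ρ (aK a) * f ^ 2 * ρ (aK a⁻¹) = 0 := by
      let ψ : A → A := fun a => a * ⟨q ^ 2 * ((a : V ≃ₗ[F] V))⁻¹ * (q ^ 2)⁻¹, hqpow 2 _ (inv_mem a.2)⟩
      have hψ : Function.Bijective ψ := Finite.injective_iff_bijective.1 fun a b hab' => by
        have h0 := congrArg Subtype.val hab'
        simp only [ψ, Subgroup.coe_mul] at h0
        have hinv : ∀ c : A, q ^ 2 * (c : V ≃ₗ[F] V)⁻¹ * (q ^ 2)⁻¹ = c := fun c => by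
          rw [sq, hqe, show e * (c : V ≃ₗ[F] V)⁻¹ * e⁻¹ = (e * (c : V ≃ₗ[F] V) * e⁻¹)⁻¹ by group, c.2.2,
            inv_inv]
        rw [hinv, hinv] at h0
        refine Subtype.ext (inv_mul_eq_one.1 (h2dvd _ (mul_mem (inv_mem a.2.1) b.2.1) ?_))
        have hcab := hab _ (inv_mem a.2.1) _ b.2.1
        calc ((a : V ≃ₗ[F] V)⁻¹ * b) * ((a : V ≃ₗ[F] V)⁻¹ * b)
            = (a : V ≃ₗ[F] V)⁻¹ * ((b : V ≃ₗ[F] V) * (a : V ≃ₗ[F] V)⁻¹) * b := by group
          _ = ((a : V ≃ₗ[F] V) * a)⁻¹ * (b * b) := by rw [← hcab]; group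
          _ = 1 := by rw [h0, inv_mul_cancel]
      calc ∑ a : A, ρ (aK a) * f ^ 2 * ρ (aK a⁻¹) = ∑ a : A, ρ (aK (ψ a)) * f ^ 2 := by
            refine Finset.sum_congr rfl fun a _ => ?_
            rw [hf, ← map_pow, ← map_mul, ← map_mul, ← map_mul]
            refine congrArg ρ (Subtype.ext ?_)
            show (a : V ≃ₗ[F] V) * q ^ 2 * (a : V ≃ₗ[F] V)⁻¹ =
              (a : V ≃ₗ[F] V) * (q ^ 2 * (a : V ≃ₗ[F] V)⁻¹ * (q ^ 2)⁻¹) * q ^ 2
            group
        _ = (∑ a : A, ρ (aK a)) * f ^ 2 := by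
            rw [Finset.sum_mul]
            exact Fintype.sum_bijective ψ hψ _ _ fun a => rfl
        _ = 0 := by rw [hsumA, zero_mul]
    have hz := congrArg (LinearMap.trace F W) h1
    rw [map_sum, map_zero] at hz
    have hc : ∀ a : A, LinearMap.trace F W (ρ (aK a) * f ^ 2 * ρ (aK a⁻¹)) = LinearMap.trace F W (f ^ 2) :=
      fun a => by
        rw [LinearMap.trace_mul_comm, ← mul_assoc, ← map_mul, ← map_mul, inv_mul_cancel, map_one, map_one,
          one_mul]
    rw [Finset.sum_congr rfl fun a _ => hc a, Finset.sum_const, Finset.card_univ, nsmul_eq_mul,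
      mul_eq_zero] at hz
    rw [Finset.sum_range_succ, Finset.sum_range_one, pow_zero, pow_one, map_add, LinearMap.trace_one,
      hz.resolve_left hA0, add_zero]
  rw [trace_sum_pow (f ^ 2) 2 (by exact_mod_cast h2) hf2] at htr2
  -- the ranks
  set s := finrank F (LinearMap.range (f - 1)) with hs
  set r := finrank F (LinearMap.range (f ^ 2 - 1)) with hr
  have hs2 : s ≤ 2 := by
    refine le_trans ?_ hrk
    rw [hs, ← Submodule.finrank_map_subtype_eq W (LinearMap.range (f - 1))]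
    refine Submodule.finrank_mono ?_
    rintro _ ⟨_, ⟨w, rfl⟩, rfl⟩
    exact ⟨w, rfl⟩
  have hrs : r ≤ s := by
    rw [hr, show f ^ 2 - 1 = (f + 1) * (f - 1) by simp only [sq, add_mul, mul_sub, mul_one, one_mul]; abel, Module.End.mul_eq_comp, LinearMap.range_comp]
    exact Submodule.finrank_map_le _ _
  have hr1 : r ≠ 0 := by
    intro h0
    rw [hr, Submodule.finrank_eq_zero, LinearMap.range_eq_bot, sub_eq_zero] at h0
    obtain ⟨a, ha, ha1⟩ := hne
    refine ha1 ?_
    have haW : ∀ w ∈ W, a w = w := by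
      intro w hw
      have h := LinearMap.congr_fun (show ρ (aK ⟨a, ha⟩) * ρ (aK ⟨a, ha⟩) = 1 by
        have e1 : ρ (qK ^ 2 * aK ⟨a, ha⟩ * (qK ^ 2)⁻¹) = ρ (aK ⟨a, ha⟩) := by
          rw [map_mul, map_mul, map_pow, ← hf, h0, one_mul]
          have e2 : ρ ((qK ^ 2)⁻¹) = 1 := by
            have := congrArg ρ (mul_inv_cancel (qK ^ 2))
            rwa [map_mul, map_one, map_pow, ← hf, h0, one_mul] at this
          rw [e2, mul_one]
        have e3 : qK ^ 2 * aK ⟨a, ha⟩ * (qK ^ 2)⁻¹ = (aK ⟨a, ha⟩)⁻¹ := Subtype.ext (by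
          show q ^ 2 * a * (q ^ 2)⁻¹ = a⁻¹
          rw [sq, hqe, ha.2])
        calc ρ (aK ⟨a, ha⟩) * ρ (aK ⟨a, ha⟩) = ρ (qK ^ 2 * aK ⟨a, ha⟩ * (qK ^ 2)⁻¹) * ρ (aK ⟨a, ha⟩) := by
              rw [e1]
          _ = 1 := by rw [e3, ← map_mul, inv_mul_cancel, map_one]) ⟨w, hw⟩
      have haa : (a * a) w = w := congrArg Subtype.val h
      obtain ⟨j, hj⟩ := hodd
      have hpow : (a * a) ^ (j + 1) = a := by
        rw [← sq, ← pow_mul, show 2 * (j + 1) = Nat.card Q + 1 by omega, pow_succ,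
          orderOf_dvd_iff_pow_eq_one.1 (Subgroup.orderOf_dvd_natCard Q ha.1), one_mul]
      have : ∀ i : ℕ, ((a * a) ^ i) w = w := fun i => by
        induction i with
        | zero => rfl
        | succ i ih =>
          show ((a * a) ^ (i + 1)) w = w
          rw [pow_succ]
          show ((a * a) ^ i) ((a * a) w) = w
          rw [haa, ih]
      rw [← hpow]
      exact this _
    refine LinearEquiv.ext fun v => ?_
    have hmem : a v - v ∈ W := by
      rw [hW, LinearMap.mem_ker, map_sub, sub_eq_zero]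
      exact LinearMap.congr_fun (hSA ⟨a, ha⟩) v
    have hpow : ∀ i : ℕ, (a ^ i) v = v + (i : F) • (a v - v) := by
      intro i
      induction i with
      | zero => simp
      | succ i ih =>
        rw [pow_succ']
        show a ((a ^ i) v) = _
        rw [ih, map_add, map_smul, haW _ hmem, Nat.cast_add, Nat.cast_one, add_smul, one_smul]
        abel
    have h := hpow (Nat.card Q)
    rw [orderOf_dvd_iff_pow_eq_one.1 (Subgroup.orderOf_dvd_natCard Q ha.1)] at h
    have h' : (Nat.card Q : F) • (a v - v) = 0 := by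
      simpa using h.symm
    exact sub_eq_zero.1 ((smul_eq_zero.1 h').resolve_left hQ0)
  have hk1 := LinearMap.finrank_range_add_finrank_ker (f - 1)
  have hk2 := LinearMap.finrank_range_add_finrank_ker (f ^ 2 - 1)
  rw [← hs] at hk1
  rw [← hr] at hk2
  set n := finrank F W
  set k₁ := finrank F (LinearMap.ker (f - 1))
  set k₂ := finrank F (LinearMap.ker (f ^ 2 - 1))
  have c1 : (s : F) + k₁ = n := by rw [← Nat.cast_add, hk1]
  have c2 : (r : F) + k₂ = n := by rw [← Nat.cast_add, hk2]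
  push_cast at E1 htr2
  have key : 6 * (r : F) = 4 * s := by linear_combination (6 : F) * c2 - (4 : F) * c1 + E1 - (3 : F) * htr2
  rcases (show r = 1 ∨ r = 2 by omega) with hr' | hr' <;>
    rcases (show s = 1 ∨ s = 2 by omega) with hs' | hs' <;>
    rw [hr', hs'] at key <;> norm_num at key
  all_goals first
    | omega
    | exact h2 (by linear_combination key)
    | exact mul_ne_zero h2 h2 (by linear_combination key)
    | exact h2 (by linear_combination -key)

/-- A group of `l`-power order moving at most four dimensions and preserving a nondegenerate form is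
abelian. -/
theorem abelian_of_small {l : ℕ} [hl : Fact l.Prime] (hl2 : l ≠ 2) (hl0 : (l : F) ≠ 0)
    (B : LinearMap.BilinForm F V) (hB : B.Nondegenerate) (U : Submodule F V) (hU : finrank F U ≤ 4)
    (Q : Subgroup (V ≃ₗ[F] V)) [Finite Q] (hQ : IsPGroup l Q) (hQU : ∀ x ∈ Q, ∀ v, x v - v ∈ U)
    (hiso : ∀ x ∈ Q, ∀ u v, B (x u) (x v) = B u v) : ∀ a ∈ Q, ∀ b ∈ Q, a * b = b * a := by
  classical
  by_contra hne
  push Not at hne
  obtain ⟨a₀, ha₀, b₀, hb₀, hab₀⟩ := hne
  set Z := Subgroup.center Q with hZ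
  haveI hnt : Nontrivial (Q ⧸ Z) := by
    rw [← not_subsingleton_iff_nontrivial]
    intro hs
    have hmem : (⟨a₀, ha₀⟩ : Q) ∈ Z :=
      (QuotientGroup.eq_one_iff _).1 (Subsingleton.elim _ _)
    exact hab₀ (congrArg Subtype.val (Subgroup.mem_center_iff.1 hmem ⟨b₀, hb₀⟩)).symm
  haveI := (hQ.to_quotient Z).center_nontrivial
  obtain ⟨⟨a', ha'⟩, ha'1⟩ := exists_ne (1 : Subgroup.center (Q ⧸ Z))
  obtain ⟨a, rfl⟩ := QuotientGroup.mk_surjective a'
  have haZ : a ∉ Z := fun h => ha'1 (Subtype.ext ((QuotientGroup.eq_one_iff a).2 h))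
  have hcomm : ∀ b : Q, a * b * a⁻¹ * b⁻¹ ∈ Z := fun b => by
    rw [← QuotientGroup.eq_one_iff, QuotientGroup.mk_mul, QuotientGroup.mk_mul, QuotientGroup.mk_mul,
      QuotientGroup.mk_inv, QuotientGroup.mk_inv, ← Subgroup.mem_center_iff.1 ha' (b : Q ⧸ Z)]
    group
  obtain ⟨b, hb⟩ : ∃ b : Q, a * b * a⁻¹ * b⁻¹ ≠ 1 := by
    by_contra h
    push Not at h
    refine haZ (Subgroup.mem_center_iff.2 fun b => ?_)
    have := mul_inv_eq_one.1 (h b)
    rw [mul_inv_eq_iff_eq_mul] at this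
    exact this.symm
  set c := a * b * a⁻¹ * b⁻¹ with hc
  have hcZ : ∀ g : Q, Commute g c := fun g => Subgroup.mem_center_iff.1 (hcomm b) g
  obtain ⟨k, hk⟩ := hQ.exists_orderOf_eq_pow c
  obtain ⟨k, rfl⟩ : ∃ k', k = k' + 1 := Nat.exists_eq_succ_of_ne_zero fun h0 => hb (by
    rw [h0, pow_zero, orderOf_eq_one_iff] at hk; exact hk)
  have hbpow : ∀ n : ℕ, a * b ^ n = c ^ n * b ^ n * a := by
    intro n
    induction n with
    | zero => simp
    | succ n ih =>
      have h1 : a * b = c * b * a := by rw [hc]; group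
      calc a * b ^ (n + 1) = (a * b ^ n) * b := by rw [pow_succ, mul_assoc]
        _ = c ^ n * b ^ n * (a * b) := by rw [ih]; group
        _ = c ^ n * (b ^ n * c) * b * a := by rw [h1]; group
        _ = c ^ (n + 1) * b ^ (n + 1) * a := by rw [(hcZ (b ^ n)).eq, pow_succ, pow_succ]; group
  set b' := b ^ l ^ k with hb'
  set ζ := c ^ l ^ k with hζ
  have hord : orderOf ζ = l := by
    rw [hζ, orderOf_pow' c (pow_ne_zero _ hl.out.ne_zero), hk,
      Nat.gcd_eq_right (pow_dvd_pow l (Nat.le_succ k)), pow_succ,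
      Nat.mul_div_cancel_left _ (pow_pos hl.out.pos k)]
  have hab : a * b' = ζ * b' * a := hbpow _
  have hζc : ∀ g : Q, Commute g ζ := fun g => (hcZ g).pow_right _
  -- the moved subspace of `ζ`
  set W := LinearMap.range (lin (ζ : V ≃ₗ[F] V) - 1) with hW
  have hWU : W ≤ U := by
    rintro _ ⟨v, rfl⟩
    exact hQU _ ζ.2 v
  have hWinv : ∀ g ∈ Q, ∀ w ∈ W, g w ∈ W := by
    rintro g hg _ ⟨v, rfl⟩
    refine ⟨g v, ?_⟩
    have h := LinearEquiv.congr_fun (congrArg Subtype.val (hζc ⟨g, hg⟩).eq) v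
    simp only [LinearMap.sub_apply, Module.End.one_apply, lin_apply, map_sub]
    exact congrArg (· - g v) h.symm
  let ρ := restrHom W Q hWinv
  have hζl : ζ ^ l = 1 := hord ▸ pow_orderOf_eq_one ζ
  have hgeom : ∑ m ∈ Finset.range l, ρ ζ ^ m = 0 := by
    refine LinearMap.ext fun w => Subtype.ext ?_
    obtain ⟨v, hv⟩ := w.2
    have h0 := LinearMap.congr_fun (geom_sum_mul (lin (ζ : V ≃ₗ[F] V)) l) v
    rw [← map_pow, ← SubmonoidClass.coe_pow, hζl, OneMemClass.coe_one, map_one, sub_self,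
      Module.End.mul_apply, hv, LinearMap.sum_apply, LinearMap.zero_apply] at h0
    rw [LinearMap.sum_apply, LinearMap.zero_apply, Submodule.coe_sum, Submodule.coe_zero, ← h0]
    refine Finset.sum_congr rfl fun m _ => ?_
    rw [← map_pow, ← map_pow]
    rfl
  haveI hWnt : Nontrivial W := by
    rw [Submodule.nontrivial_iff_ne_bot, hW, Ne, LinearMap.range_eq_bot, sub_eq_zero]
    intro h
    have : (ζ : V ≃ₗ[F] V) = 1 := lin_injective (h.trans (map_one lin).symm)
    rw [show ζ = 1 from Subtype.ext this, orderOf_one] at hord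
    exact hl.out.one_lt.ne hord
  have hζl' : ρ ζ ^ l = 1 := by rw [← map_pow, hζl, map_one]
  -- no scalar
  have hscal : ∀ lam : F, ρ ζ ≠ lam • 1 := by
    intro lam hlam
    have hz : ∀ w ∈ W, (ζ : V ≃ₗ[F] V) w = lam • w := fun w hw =>
      congrArg Subtype.val (LinearMap.congr_fun hlam ⟨w, hw⟩)
    have hne1 : lam ≠ 1 := by
      intro h1
      rw [h1, one_smul] at hlam
      rw [hlam] at hgeom
      simp only [one_pow, Finset.sum_const, Finset.card_range] at hgeom
      obtain ⟨w, hw⟩ := exists_ne (0 : W)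
      have h := LinearMap.congr_fun hgeom w
      rw [LinearMap.smul_apply, Module.End.one_apply, LinearMap.zero_apply,
        ← Nat.cast_smul_eq_nsmul F, smul_eq_zero] at h
      exact h.elim hl0 hw
    have hlam2 : lam * lam ≠ 1 := by
      intro h
      obtain ⟨w, hw⟩ := exists_ne (0 : W)
      have hpl : lam ^ l = 1 := by
        have := LinearMap.congr_fun hζl' w
        rw [hlam, smul_pow, one_pow, LinearMap.smul_apply, Module.End.one_apply] at this
        have h' : (lam ^ l - 1) • w = 0 := by rw [sub_smul, one_smul, this, sub_self]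
        exact sub_eq_zero.1 ((smul_eq_zero.1 h').resolve_right hw)
      obtain ⟨j, hj⟩ := hl.out.odd_of_ne_two hl2
      rw [hj, pow_succ, pow_mul, sq, h, one_pow, one_mul] at hpl
      exact hne1 hpl
    have hWW : ∀ u ∈ W, ∀ w ∈ W, B u w = 0 := by
      intro u hu w hw
      have h := hiso _ ζ.2 u w
      rw [hz u hu, hz w hw] at h
      simp only [map_smul, LinearMap.smul_apply, smul_eq_mul, ← mul_assoc] at h
      have h' : (lam * lam - 1) * B u w = 0 := by rw [sub_mul, one_mul, h, sub_self]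
      exact (mul_eq_zero.1 h').resolve_left (sub_ne_zero.2 hlam2)
    obtain ⟨w, hw⟩ := exists_ne (0 : W)
    refine hw (Subtype.ext (hB.2 _ fun v => ?_))
    have h := hiso _ ζ.2 v w
    have h0 := hWW _ (LinearMap.mem_range_self _ v : (lin (ζ : V ≃ₗ[F] V) - 1) v ∈ W) (lam • (w : V))
      (Submodule.smul_mem _ _ w.2)
    rw [hz w w.2] at h
    rw [LinearMap.sub_apply, Module.End.one_apply, lin_apply, map_sub, LinearMap.sub_apply, h,
      map_smul, smul_eq_mul] at h0
    have h' : (1 - lam) * B v w = 0 := by rw [sub_mul, one_mul, h0]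
    exact (mul_eq_zero.1 h').resolve_left (sub_ne_zero.2 (Ne.symm hne1))
  -- independence
  have hunit : ∀ g : Q, IsUnit (ρ g) := fun g => (Group.isUnit g).map ρ
  have hlu : IsUnit ((l : ℕ) : Module.End F W) := by
    rw [← map_natCast (algebraMap F (Module.End F W))]
    exact hl0.isUnit.map _
  set ξ := ρ ζ with hξ
  have hξc : ∀ g : Q, Commute (ρ g) ξ := fun g => (hζc g).map ρ
  have hAB : ρ a * ρ b' = ξ * ρ b' * ρ a := by rw [hξ, ← map_mul, hab, map_mul, map_mul]
  have hBA : ρ b' * ρ a = ξ ^ (l - 1) * ρ a * ρ b' := by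
    rw [mul_assoc _ (ρ a), hAB, ← mul_assoc, ← mul_assoc, ← pow_succ,
      Nat.sub_add_cancel hl.out.one_le, hζl', one_mul]
  let v : Fin l × Fin l × Fin 2 → Module.End F W := fun t =>
    ρ a ^ (t.1 : ℕ) * (ξ ^ (t.2.2 : ℕ) * ρ b' ^ (t.2.1 : ℕ))
  have hind : LinearIndependent F v := by
    rw [Fintype.linearIndependent_iff]
    intro g hg
    let C : Fin l → Fin l → Module.End F W := fun i j => g (i, j, 0) • 1 + g (i, j, 1) • ξ
    have hCc : ∀ (x : Q) i j, Commute (ρ x) (C i j) := fun x i j =>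
      ((Commute.one_right _).smul_right _).add_right ((hξc x).smul_right _)
    have hsum : ∑ i : Fin l, ρ a ^ (i : ℕ) * ∑ j : Fin l, C i j * ρ b' ^ (j : ℕ) = 0 := by
      rw [← hg, Fintype.sum_prod_type]
      refine Finset.sum_congr rfl fun i _ => ?_
      rw [Finset.mul_sum, Fintype.sum_prod_type]
      refine Finset.sum_congr rfl fun j _ => ?_
      simp only [Fin.sum_univ_two, v, C, add_mul, mul_add, smul_mul_assoc, mul_smul_comm,
        Fin.val_zero, Fin.val_one, pow_zero, pow_one, one_mul]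
    have hgeom' : ∑ m ∈ Finset.range l, (ξ ^ (l - 1)) ^ m = 0 :=
      geom_sum_mul_exp hl.out hζl' hgeom (fun h => by
        have := Nat.le_of_dvd (by have := hl.out.two_le; omega) h
        have := hl.out.two_le
        omega)
    have hY := eq_zero_of_twisted hl.out hlu (hunit b') (ζ := ξ ^ (l - 1))
      (by rw [← pow_mul, mul_comm, pow_mul, hζl', one_pow]) hgeom'
      (fun i : Fin l => ρ a ^ (i : ℕ) * ∑ j : Fin l, C i j * ρ b' ^ (j : ℕ))
      ((hξc b').symm.pow_left _) (fun i => by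
        have hS : Commute (ρ b') (∑ j : Fin l, C i j * ρ b' ^ (j : ℕ)) :=
          Commute.sum_right _ _ _ fun j _ => (hCc b' i j).mul_right (Commute.self_pow _ _)
        have hpow : ∀ m : ℕ, ρ b' * ρ a ^ m = (ξ ^ (l - 1)) ^ m * ρ a ^ m * ρ b' := by
          intro m
          induction m with
          | zero => simp
          | succ m ih =>
            calc ρ b' * ρ a ^ (m + 1) = (ρ b' * ρ a ^ m) * ρ a := by rw [pow_succ, mul_assoc]
              _ = (ξ ^ (l - 1)) ^ m * ρ a ^ m * (ρ b' * ρ a) := by rw [ih, mul_assoc]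
              _ = (ξ ^ (l - 1)) ^ m * (ρ a ^ m * ξ ^ (l - 1)) * ρ a * ρ b' := by
                  rw [hBA]; simp only [mul_assoc]
              _ = (ξ ^ (l - 1)) ^ (m + 1) * ρ a ^ (m + 1) * ρ b' := by
                  rw [((hξc a).pow_pow m (l - 1)).eq, pow_succ, pow_succ]; simp only [mul_assoc]
        calc ρ b' * (ρ a ^ (i : ℕ) * _) = (ρ b' * ρ a ^ (i : ℕ)) * _ := (mul_assoc _ _ _).symm
          _ = _ := by rw [hpow]; simp only [mul_assoc]; rw [hS.eq]) hsum
    intro ⟨i, j, t⟩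
    have hi : ∑ j : Fin l, C i j * ρ b' ^ (j : ℕ) = 0 :=
      ((hunit a).pow _).mul_right_eq_zero.1 (hY i)
    have hCj := eq_zero_of_twisted hl.out hlu (hunit a) hζl' hgeom
      (fun j : Fin l => C i j * ρ b' ^ (j : ℕ)) (hξc a).symm (fun j => by
        have hpow : ∀ m : ℕ, ρ a * ρ b' ^ m = ξ ^ m * ρ b' ^ m * ρ a := fun m => by
          induction m with
          | zero => simp
          | succ m ih =>
            calc ρ a * ρ b' ^ (m + 1) = (ρ a * ρ b' ^ m) * ρ b' := by rw [pow_succ, mul_assoc]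
              _ = ξ ^ m * ρ b' ^ m * (ρ a * ρ b') := by rw [ih, mul_assoc]
              _ = ξ ^ m * (ρ b' ^ m * ξ) * ρ b' * ρ a := by rw [hAB]; simp only [mul_assoc]
              _ = ξ ^ (m + 1) * ρ b' ^ (m + 1) * ρ a := by
                  rw [((hξc b').pow_left m).eq, pow_succ, pow_succ]; simp only [mul_assoc]
        have hCξ : Commute (ξ ^ (j : ℕ)) (C i j) :=
          ((Commute.one_right _).smul_right _).add_right ((Commute.pow_self _ _).smul_right _)
        calc ρ a * (C i j * ρ b' ^ (j : ℕ)) = C i j * (ρ a * ρ b' ^ (j : ℕ)) := by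
              rw [← mul_assoc, (hCc a i j).eq, mul_assoc]
          _ = _ := by rw [hpow, ← mul_assoc (ξ ^ (j : ℕ)), hCξ.eq]; simp only [mul_assoc]) hi j
    have hC0 : g (i, j, 0) • (1 : Module.End F W) + g (i, j, 1) • ξ = 0 :=
      ((hunit b').pow _).mul_left_eq_zero.1 hCj
    have h1 : g (i, j, 1) = 0 := by
      by_contra h1
      refine hscal (-(g (i, j, 1))⁻¹ * g (i, j, 0)) ?_
      rw [← smul_smul, eq_neg_of_add_eq_zero_left hC0, smul_neg, smul_smul, neg_mul,
        inv_mul_cancel₀ h1, neg_one_smul, neg_neg]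
    rw [h1, zero_smul, add_zero, smul_eq_zero] at hC0
    have h0 := hC0.resolve_right one_ne_zero
    fin_cases t
    · exact h0
    · exact h1
  have hcard := hind.fintype_card_le_finrank
  rw [Fintype.card_prod, Fintype.card_prod, Fintype.card_fin, Fintype.card_fin,
    Module.finrank_linearMap] at hcard
  have hd : finrank F W ≤ 4 := (Submodule.finrank_mono hWU).trans hU
  have h3 : 3 ≤ l := by have := hl.out.two_le; omega
  have h9 : 3 * 3 ≤ l * l := Nat.mul_le_mul h3 h3
  have h16 : finrank F W * finrank F W ≤ 4 * 4 := Nat.mul_le_mul hd hd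
  nlinarith

variable [Fintype F] {p : ℕ} [CharP F p]

set_option maxHeartbeats 1000000 in
/-- The unipotent conjugators. -/
theorem exists_unipotent_conjugator (h2 : (2 : F) ≠ 0) (B : LinearMap.BilinForm F V) (hB : B.Nondegenerate)
    (X A : Subgroup (V ≃ₗ[F] V)) (hiso : ∀ x ∈ X, ∀ u v, B (x u) (x v) = B u v)
    (U : Submodule F V) (hU : Module.finrank F U ≤ 4) (hX : ∀ x ∈ X, ∀ v, x v - v ∈ U)
    (hAX : A ≤ X) (hA : IsPGroup 2 A) {q e z : V ≃ₗ[F] V} (hq : q ∈ A) (hqe : q * q = e) (he2 : e * e = 1)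
    (he1 : e ≠ 1) (hrk : Module.finrank F (LinearMap.range (q.toLinearMap - LinearMap.id)) ≤ 2)
    (hz : z ∈ X) (hzc : ∀ x ∈ X, x * z = z * x) (hz2 : z * z = 1) (hez : e ≠ z)
    (hiso' : ∀ x ∈ X, ((x * e * x⁻¹) * e = e * (x * e * x⁻¹) ∨ (x * e * x⁻¹) * e = e * (x * e * x⁻¹) * z) →
      x * e * x⁻¹ = e ∨ x * e * x⁻¹ = e * z) :
    ∃ P : Subgroup (V ≃ₗ[F] V), P ≤ X ∧ IsPGroup p P ∧
      A ≤ Subgroup.normalizer (P : Set (V ≃ₗ[F] V)) ∧
      ∀ x ∈ X, ∃ π ∈ P, x * e * x⁻¹ = π * e * π⁻¹ ∨ x * e * x⁻¹ = π * e * π⁻¹ * z := by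
  classical
  haveI hp : Fact p.Prime := ⟨CharP.char_is_prime F p⟩
  haveI : Finite V := Module.finite_of_finite F
  haveI : Finite (V ≃ₗ[F] V) := Finite.of_injective (fun g : V ≃ₗ[F] V => (g : V → V)) DFunLike.coe_injective
  haveI : Fact (Nat.Prime 2) := ⟨Nat.prime_two⟩
  have heA : e ∈ A := hqe ▸ mul_mem hq hq
  have heX : e ∈ X := hAX heA
  have heinv : e⁻¹ = e := inv_eq_of_mul_eq_one_right he2
  -- modulo `z`
  let eX : X := ⟨e, heX⟩
  let zX : X := ⟨z, hz⟩
  set Zs := Subgroup.zpowers zX with hZs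
  have hzX2 : zX ^ 2 = 1 := Subtype.ext (by show z ^ 2 = 1; rw [sq, hz2])
  have hZmem : ∀ w : X, w ∈ Zs ↔ w = 1 ∨ w = zX := by
    intro w
    constructor
    · intro hw
      obtain ⟨i, rfl⟩ := (IsOfFinOrder.mem_powers_iff_mem_zpowers (isOfFinOrder_of_finite zX)).mpr hw
      show zX ^ i = 1 ∨ zX ^ i = zX
      rw [← Nat.mod_add_div i 2, pow_add, pow_mul, hzX2, one_pow, mul_one]
      rcases Nat.mod_two_eq_zero_or_one i with h | h <;> simp [h]
    · rintro (rfl | rfl)
      · exact one_mem _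
      · exact Subgroup.mem_zpowers _
  haveI : Zs.Normal := ⟨fun w hw g => by
    rcases (hZmem w).1 hw with rfl | rfl
    · simp
    · have : g * zX * g⁻¹ = zX := Subtype.ext (by
        show (g : V ≃ₗ[F] V) * z * (g : V ≃ₗ[F] V)⁻¹ = z
        rw [hzc _ g.2, mul_inv_cancel_right])
      rw [this]; exact Subgroup.mem_zpowers _⟩
  have heq1 : (eX : X ⧸ Zs) ≠ 1 := by
    rw [Ne, QuotientGroup.eq_one_iff, hZmem]
    rintro (h | h)
    · exact he1 (congrArg Subtype.val h)
    · exact hez (congrArg Subtype.val h)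
  have hisol : Cfsg.IsIsolatedInvolution (eX : X ⧸ Zs) := by
    refine ⟨orderOf_eq_prime ?_ heq1, fun g hg => ?_⟩
    · rw [← QuotientGroup.mk_pow, show eX ^ 2 = 1 from Subtype.ext (by show e ^ 2 = 1; rw [sq, he2])]
      rfl
    · obtain ⟨x, rfl⟩ := QuotientGroup.mk_surjective g
      rw [← QuotientGroup.mk_inv, ← QuotientGroup.mk_mul, ← QuotientGroup.mk_mul] at hg ⊢
      have hg' : (x * eX * x⁻¹ * eX)⁻¹ * (eX * (x * eX * x⁻¹)) ∈ Zs := by
        rw [← QuotientGroup.eq, QuotientGroup.mk_mul, QuotientGroup.mk_mul]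
        exact hg.eq.symm
      rw [QuotientGroup.eq]
      have hor : ((x : V ≃ₗ[F] V) * e * (x : V ≃ₗ[F] V)⁻¹) * e = e * ((x : V ≃ₗ[F] V) * e * (x : V ≃ₗ[F] V)⁻¹) ∨
          ((x : V ≃ₗ[F] V) * e * (x : V ≃ₗ[F] V)⁻¹) * e = e * ((x : V ≃ₗ[F] V) * e * (x : V ≃ₗ[F] V)⁻¹) * z := by
        rcases (hZmem _).1 hg' with h | h
        · exact Or.inl (congrArg Subtype.val (inv_mul_eq_one.1 h))
        · right
          have h' := congrArg Subtype.val (inv_mul_eq_iff_eq_mul.1 h)
          simp only [Subgroup.coe_mul, Subgroup.coe_inv] at h'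
          rw [show e * ((x : V ≃ₗ[F] V) * e * (x : V ≃ₗ[F] V)⁻¹) =
              (x : V ≃ₗ[F] V) * e * (x : V ≃ₗ[F] V)⁻¹ * e * z from h', mul_assoc _ z z, hz2, mul_one]
      rw [hZmem]
      rcases hiso' x x.2 hor with h | h
      · left; rw [inv_mul_eq_one]; exact Subtype.ext h
      · right
        refine inv_mul_eq_iff_eq_mul.2 (Subtype.ext ?_)
        show e = ((x : V ≃ₗ[F] V) * e * (x : V ≃ₗ[F] V)⁻¹) * z
        rw [h, mul_assoc _ z z, hz2, mul_one]
  set Nbar := Cfsg.oddCore (X ⧸ Zs) with hNbar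
  have hNodd : Odd (Nat.card Nbar) := Cfsg.Agent.InvChar.Core.odd_card_oddCore
  set N := Nbar.comap (QuotientGroup.mk' Zs) with hN
  haveI : Nbar.Normal := inferInstance
  haveI : N.Normal := inferInstance
  set m := Nat.card Nbar with hm
  have hZN : ∀ n ∈ N, n ^ m ∈ Zs := by
    intro n hn
    rw [← QuotientGroup.eq_one_iff, QuotientGroup.mk_pow]
    exact orderOf_dvd_iff_pow_eq_one.1 (Subgroup.orderOf_dvd_natCard Nbar hn)
  -- the odd part of the preimage
  obtain ⟨O, hOodd, hOnorm, hOmem, hOX⟩ : ∃ O : Subgroup X, Odd (Nat.card O) ∧ O.Normal ∧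
      (∀ n ∈ N, n ^ m = 1 → n ∈ O) ∧ O ≤ N := by
    set Z' := Zs.subgroupOf N with hZ'
    have hZN' : Zs ≤ N := fun w hw => by
      show (w : X ⧸ Zs) ∈ Nbar
      rw [(QuotientGroup.eq_one_iff w).2 hw]
      exact one_mem _
    have hidx : Z'.index = m := by
      show Zs.relIndex N = m
      have h := Subgroup.relIndex_comap (f := QuotientGroup.mk' Zs) (H := (⊥ : Subgroup (X ⧸ Zs))) N
      rw [MonoidHom.comap_bot, QuotientGroup.ker_mk'] at h
      rw [h, hN, Subgroup.map_comap_eq_self_of_surjective (QuotientGroup.mk'_surjective Zs),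
        Subgroup.relIndex_bot_left]
    have hcardZ : Nat.card Z' ∣ 2 := by
      rw [Nat.card_congr (Subgroup.subgroupOfEquivOfLe hZN').toEquiv, hZs, Nat.card_zpowers]
      exact orderOf_dvd_of_pow_eq_one hzX2
    have hcop : Nat.Coprime (Nat.card Z') Z'.index :=
      hidx ▸ (Nat.coprime_two_left.2 hNodd).coprime_dvd_left hcardZ
    obtain ⟨H, hH⟩ := Subgroup.exists_right_complement'_of_coprime hcop
    have hcardH : Nat.card H = m := by rw [← hidx, hH.symm.index_eq_card]
    have hHmem : ∀ n : N, n ^ m = 1 ↔ n ∈ H := by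
      intro n
      refine ⟨fun hn => ?_, fun hn => hcardH ▸ orderOf_dvd_iff_pow_eq_one.1 (Subgroup.orderOf_dvd_natCard H hn)⟩
      obtain ⟨⟨w, h⟩, hwh⟩ := hH.2 n
      simp only at hwh
      have hc : Commute (w : N) (h : N) := Subtype.ext (by
        rcases (hZmem _).1 w.2 with hw | hw
        · change ((w : N) : X) = 1 at hw
          show ((w : N) : X) * _ = _ * ((w : N) : X)
          rw [hw, one_mul, mul_one]
        · change ((w : N) : X) = zX at hw
          show ((w : N) : X) * _ = _ * ((w : N) : X)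
          rw [hw]
          exact Subtype.ext (hzc _ ((h : N) : X).2).symm)
      have hhm : (h : N) ^ m = 1 := hcardH ▸ orderOf_dvd_iff_pow_eq_one.1 (Subgroup.orderOf_dvd_natCard H h.2)
      have hwm : (w : N) ^ m = 1 := by
        rw [← hwh, hc.mul_pow, hhm, mul_one] at hn
        exact hn
      have hw1 : (w : N) = 1 := by
        rw [← orderOf_eq_one_iff]
        exact Nat.dvd_one.1 (((Nat.coprime_two_left.2 hNodd).coprime_dvd_left hcardZ).gcd_eq_one ▸
          Nat.dvd_gcd (Subgroup.orderOf_dvd_natCard Z' w.2) (orderOf_dvd_of_pow_eq_one hwm))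
      rw [hw1, one_mul] at hwh
      exact hwh ▸ h.2
    refine ⟨H.map N.subtype, ?_, ?_, ?_, Subgroup.map_subtype_le H⟩
    · rw [Subgroup.card_subtype, hcardH]; exact hNodd
    · refine ⟨fun w hw g => ?_⟩
      obtain ⟨n, hn, rfl⟩ := hw
      refine ⟨⟨g * n * g⁻¹, ‹N.Normal›.conj_mem _ n.2 g⟩, (hHmem _).1 (Subtype.ext ?_), rfl⟩
      show (g * (n : X) * g⁻¹) ^ m = 1
      rw [conj_pow, show ((n : X)) ^ m = 1 from congrArg Subtype.val ((hHmem n).2 hn)]
      group
    · intro n hn hnm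
      exact ⟨⟨n, hn⟩, (hHmem _).1 (Subtype.ext hnm), rfl⟩
  haveI := hOnorm
  -- the image in the automorphisms
  set O' := O.map X.subtype with hO'
  have hO'X : O' ≤ X := Subgroup.map_subtype_le O
  have hO'odd : Odd (Nat.card O') := by rw [hO', Subgroup.card_subtype]; exact hOodd
  have hAO' : A ≤ Subgroup.normalizer (O' : Set (V ≃ₗ[F] V)) := fun a ha =>
    Subgroup.mem_normalizer_fintype fun w hw => by
      obtain ⟨n, hn, rfl⟩ := hw
      exact ⟨⟨a, hAX ha⟩ * n * ⟨a, hAX ha⟩⁻¹, hOnorm.conj_mem n hn _, rfl⟩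
  haveI : Group.IsNilpotent A := hA.isNilpotent
  have hcopA : (Nat.card A).Coprime (Nat.card O') := by
    obtain ⟨n, hn⟩ := IsPGroup.iff_card.1 hA
    rw [hn]
    exact (Nat.coprime_two_left.2 hO'odd).pow_left n
  -- the invariant Sylow subgroup
  obtain ⟨P₀, hP₀⟩ := Cfsg.Agent.Coprime.exists_invariant_sylow p hAO' hcopA (Or.inl inferInstance)
  set P := (P₀ : Subgroup O').map O'.subtype with hP
  refine ⟨P, (Subgroup.map_subtype_le _).trans hO'X, P₀.2.map _, hP₀, fun x hx => ?_⟩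
  -- `O = P * C(e)`
  let C : Subgroup O' := (Subgroup.centralizer ({e} : Set (V ≃ₗ[F] V))).subgroupOf O'
  have hsurj : ∀ o : O', ∃ π ∈ (P₀ : Subgroup O'), π⁻¹ * o ∈ C := by
    have hcop : Nat.Coprime C.index (P₀ : Subgroup O').index := by
      refine Nat.coprime_of_dvd fun l hlp hlC hlP => ?_
      haveI : Fact l.Prime := ⟨hlp⟩
      have hlp' : l ≠ p := fun h => P₀.not_dvd_index (h ▸ hlP)
      have hl2 : l ≠ 2 := fun h => by
        have h2 : 2 ∣ Nat.card O' := (h ▸ hlP).trans (Subgroup.index_dvd_card _)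
        exact (Nat.not_even_iff_odd.2 hO'odd) (even_iff_two_dvd.2 h2)
      obtain ⟨R₀, hR₀⟩ := Cfsg.Agent.Coprime.exists_invariant_sylow l hAO' hcopA (Or.inl inferInstance)
      set R := (R₀ : Subgroup O').map O'.subtype with hR
      have hRX : R ≤ X := (Subgroup.map_subtype_le _).trans hO'X
      have hRl : IsPGroup l R := R₀.2.map _
      have hl0 : (l : F) ≠ 0 := fun h => hlp' ((Nat.prime_dvd_prime_iff_eq hp.out hlp).1
        ((CharP.cast_eq_zero_iff F p l).1 h)).symm
      have hab := abelian_of_small hl2 hl0 B hB U hU R hRl (fun w hw => hX w (hRX hw))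
        fun w hw => hiso w (hRX hw)
      obtain ⟨k, hk⟩ := IsPGroup.iff_card.1 hRl
      have hce := commute_of_abelian h2 hqe he2 hrk R
        (by rw [hk]; exact (hlp.odd_of_ne_two hl2).pow)
        (by rw [hk, Nat.cast_pow]; exact pow_ne_zero _ hl0) hab
        (fun w hw => (Subgroup.mem_normalizer_iff.1 (hR₀ hq) w).1 hw)
      have hle : (R₀ : Subgroup O') ≤ C := fun w hw =>
        Subgroup.mem_centralizer_singleton_iff.2 (hce _ ⟨w, hw, rfl⟩)
      exact R₀.not_dvd_index (hlC.trans (Subgroup.index_dvd_of_le hle))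
    intro o
    let φ : (P₀ : Subgroup O') ⧸ C.subgroupOf (P₀ : Subgroup O') → O' ⧸ C :=
      Quotient.map' Subtype.val fun a b h => by
        rw [QuotientGroup.leftRel_apply] at h ⊢
        exact h
    have hφ : Function.Injective φ := by
      intro a b
      induction a using Quotient.inductionOn' with
      | h a =>
        induction b using Quotient.inductionOn' with
        | h b =>
          intro h
          exact QuotientGroup.eq.2 (QuotientGroup.eq.1 h : (a : O')⁻¹ * b ∈ C)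
    have hcard : Nat.card (O' ⧸ C) ≤ Nat.card ((P₀ : Subgroup O') ⧸ C.subgroupOf (P₀ : Subgroup O')) := by
      rw [← Subgroup.index_eq_card, ← Subgroup.index_eq_card]
      show C.index ≤ C.relIndex P₀
      have h1 : C.index * (P₀ : Subgroup O').index ∣ (C ⊓ P₀).index :=
        hcop.mul_dvd_of_dvd_of_dvd (Subgroup.index_dvd_of_le inf_le_left) (Subgroup.index_dvd_of_le inf_le_right)
      rw [← Subgroup.relIndex_mul_index (inf_le_right : C ⊓ (P₀ : Subgroup O') ≤ P₀),
        Subgroup.inf_relIndex_right] at h1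
      have hpos : 0 < C.relIndex P₀ := Nat.pos_of_ne_zero Subgroup.FiniteIndex.index_ne_zero
      exact Nat.le_of_dvd hpos ((Nat.mul_dvd_mul_iff_right
        (Nat.pos_of_ne_zero Subgroup.FiniteIndex.index_ne_zero)).1 h1)
    obtain ⟨r, hr⟩ := (Nat.bijective_iff_injective_and_card φ).2
      ⟨hφ, le_antisymm (Nat.card_le_card_of_injective φ hφ) hcard⟩ |>.2 (o : O' ⧸ C)
    induction r using Quotient.inductionOn' with
    | h r => exact ⟨r, r.2, QuotientGroup.eq.1 hr⟩
  -- the conjugate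
  set y := x * e * x⁻¹ with hy
  have hyy : y * y = 1 := by
    rw [hy, show x * e * x⁻¹ * (x * e * x⁻¹) = x * (e * e) * x⁻¹ by group, he2]; group
  let cX : X := ⟨e * y, mul_mem heX (mul_mem (mul_mem hx heX) (inv_mem hx))⟩
  have hcN : cX ∈ N := by
    have h := Cfsg.Agent.ZStar.Main.commutator_mem_oddCore hisol ((⟨x, hx⟩ : X) : X ⧸ Zs)
    rw [← QuotientGroup.mk_inv, ← QuotientGroup.mk_inv, ← QuotientGroup.mk_mul, ← QuotientGroup.mk_mul,
      ← QuotientGroup.mk_mul] at h
    show ((cX : X) : X ⧸ Zs) ∈ Nbar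
    convert h using 2
    refine Subtype.ext ?_
    show e * (x * e * x⁻¹) = e * x * e⁻¹ * x⁻¹
    rw [heinv]; group
  set ε := cX ^ m with hε
  set c₁ := cX * ε with hc₁
  have hεZ : ε = 1 ∨ ε = zX := (hZmem _).1 (hZN cX hcN)
  have hεc : Commute cX ε := Commute.self_pow _ _
  have hε2 : ε * ε = 1 := by
    rcases hεZ with h | h <;> rw [h]
    · exact one_mul 1
    · rw [← sq]; exact hzX2
  have hc₁N : c₁ ∈ N := mul_mem hcN (pow_mem hcN m)
  have hc₁m : c₁ ^ m = 1 := by
    rw [hc₁, hεc.mul_pow]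
    obtain ⟨j, hj⟩ := hNodd
    have hεm : ε ^ m = ε := by
      rw [show m = 2 * j + 1 from hj, pow_succ, pow_mul, sq, hε2, one_pow, one_mul]
    rw [hεm, ← hε, hε2]
  obtain ⟨j, hj⟩ := hNodd
  set s := c₁ ^ (j + 1) with hs
  have hss : s * s = c₁ := by
    rw [hs, ← pow_add, show j + 1 + (j + 1) = m + 1 by omega, pow_succ, hc₁m, one_mul]
  have hsO : s ∈ O := hOmem s (pow_mem hc₁N _) (by rw [hs, ← pow_mul, mul_comm, pow_mul, hc₁m, one_pow])
  have hinv : eX * c₁ * eX⁻¹ = c₁⁻¹ := by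
    have hinvc : eX * cX * eX⁻¹ = cX⁻¹ := Subtype.ext (by
      show e * (e * y) * e⁻¹ = (e * y)⁻¹
      rw [← mul_assoc, he2, one_mul, heinv, mul_inv_rev, heinv, inv_eq_of_mul_eq_one_right hyy])
    rw [hc₁, hε, ← pow_succ', ← conj_pow, hinvc, inv_pow]
  have hsinv : e * (s : V ≃ₗ[F] V) * e⁻¹ = (s : V ≃ₗ[F] V)⁻¹ := by
    have : eX * s * eX⁻¹ = s⁻¹ := by rw [hs, ← conj_pow, hinv, inv_pow]
    exact congrArg Subtype.val this
  have hy' : y = (s : V ≃ₗ[F] V)⁻¹ * e * s * (ε : X) := by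
    have h1 : cX = s * s * ε := by rw [hss, hc₁, mul_assoc, hε2, mul_one]
    have h2' := congrArg Subtype.val h1
    simp only [Subgroup.coe_mul] at h2'
    have hy1 : y = e * (e * y) := by rw [← mul_assoc, he2, one_mul]
    calc y = e * ((s : V ≃ₗ[F] V) * s * (ε : X)) := by rw [hy1]; exact congrArg (e * ·) h2'
      _ = e * (s : V ≃ₗ[F] V) * e⁻¹ * e * s * (ε : X) := by group
      _ = _ := by rw [hsinv]
  obtain ⟨π, hπ, hπC⟩ := hsurj ⟨((s : X) : V ≃ₗ[F] V)⁻¹, inv_mem ⟨s, hsO, rfl⟩⟩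
  have hπC' : ((π : O') : V ≃ₗ[F] V)⁻¹ * ((s : X) : V ≃ₗ[F] V)⁻¹ * e =
      e * (((π : O') : V ≃ₗ[F] V)⁻¹ * ((s : X) : V ≃ₗ[F] V)⁻¹) :=
    Subgroup.mem_centralizer_singleton_iff.1 hπC
  have hconj : (π : V ≃ₗ[F] V) * e * (π : V ≃ₗ[F] V)⁻¹ = (s : V ≃ₗ[F] V)⁻¹ * e * s := by
    calc (π : V ≃ₗ[F] V) * e * (π : V ≃ₗ[F] V)⁻¹
        = π * (e * ((π : V ≃ₗ[F] V)⁻¹ * (s : V ≃ₗ[F] V)⁻¹)) * s := by group
      _ = π * ((π : V ≃ₗ[F] V)⁻¹ * (s : V ≃ₗ[F] V)⁻¹ * e) * s := by rw [hπC']
      _ = _ := by group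
  refine ⟨(π : V ≃ₗ[F] V), ⟨π, hπ, rfl⟩, ?_⟩
  rcases hεZ with h | h
  · left; rw [hy', h, hconj, OneMemClass.coe_one, mul_one]
  · right; rw [hy', h, hconj]

end Cfsg.Agent.Classical.OddSp
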