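import Cfsg.Agent.Lib.Classical.OddSp.Conj
import Cfsg.Agent.Lib.Classical.OddSp.Unipotent

/-!
# Two conjugates of reflections moving at most four dimensions commute
-/

set_option autoImplicit false
set_option linter.unusedSectionVars false
set_option linter.unusedSimpArgs false
set_option linter.style.haveILetI false

namespace Cfsg.Agent.Classical.OddSp

open Matrix
open TorusNormalizer (negOne negOne_sq coe_negOne)
open Cfsg.Agent.Classical.OddIndex

universe u

variable {F : Type u} [Field F] [Fintype F] {n : ℕ}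

/-- The sum of two planes. -/
def pl (k l : Fin n) : Submodule F (Vs n F) := LinearMap.range (emb k) ⊔ LinearMap.range (emb l)

theorem apply_eq_zero_of_pl {k l m : Fin n} (hk : m ≠ k) (hl : m ≠ l) {y : Vs n F} (hy : y ∈ pl k l) :
    y m = 0 := by
  obtain ⟨_, ⟨v, rfl⟩, _, ⟨w, rfl⟩, rfl⟩ := Submodule.mem_sup.1 hy
  rw [Pi.add_apply, emb_ne hk, emb_ne hl, add_zero]

theorem mem_pl_iff {k l : Fin n} (h : k ≠ l) {y : Vs n F} :
    y ∈ pl k l ↔ ∀ m, m ≠ k → m ≠ l → y m = 0 := by
  refine ⟨fun hy m hk hl => apply_eq_zero_of_pl hk hl hy, fun hy => ?_⟩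
  refine Submodule.mem_sup.2 ⟨emb k (y k), ⟨_, rfl⟩, emb l (y l), ⟨_, rfl⟩, funext fun m => ?_⟩
  by_cases hk : m = k
  · subst hk; rw [Pi.add_apply, emb_same, emb_ne h, add_zero]
  by_cases hl : m = l
  · subst hl; rw [Pi.add_apply, emb_same, emb_ne hk, zero_add]
  rw [Pi.add_apply, emb_ne hk, emb_ne hl, add_zero, hy m hk hl]

theorem finrank_pl {k l : Fin n} (h : k ≠ l) : Module.finrank F (pl (F := F) k l) = 4 := by
  have e := Submodule.finrank_sup_add_finrank_inf_eq (LinearMap.range (emb (F := F) k))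
    (LinearMap.range (emb (F := F) l))
  have hbot : LinearMap.range (emb (F := F) k) ⊓ LinearMap.range (emb (F := F) l) = ⊥ := by
    refine (Submodule.eq_bot_iff _).2 ?_
    rintro _ ⟨⟨v, rfl⟩, w, hw⟩
    have := congrFun hw k
    rw [emb_same, emb_ne h] at this
    rw [← this, map_zero]
  rw [hbot, finrank_bot, finrank_range_emb, finrank_range_emb] at e
  exact e

theorem emb_mem_pl_iff {k l m : Fin n} :
    LinearMap.range (emb (F := F) m) ≤ pl k l ↔ m = k ∨ m = l := by
  refine ⟨fun h => ?_, ?_⟩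
  · by_contra hne
    push Not at hne
    have := apply_eq_zero_of_pl hne.1 hne.2 (h ⟨![1, 0], rfl⟩)
    rw [emb_same] at this
    exact one_zero_ne this
  · rintro (rfl | rfl)
    exacts [le_sup_left, le_sup_right]

/-- A `p`-group moving only `U` fixes a nonzero vector of `U`. -/
theorem exists_fixed {p : ℕ} [CharP F p] {P : Subgroup (Vs n F ≃ₗ[F] Vs n F)} (hP : IsPGroup p P)
    {U : Submodule F (Vs n F)} (hPU : P ≤ movedIn U) {v : Vs n F} (hv : v ∈ U) (hv0 : v ≠ 0) :
    ∃ u ∈ U, u ≠ 0 ∧ ∀ π ∈ P, π u = u := by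
  have hp : p.Prime := CharP.char_is_prime F p
  haveI := Fact.mk hp
  letI : MulAction P U :=
    { smul := fun g u => ⟨(g : Vs n F ≃ₗ[F] Vs n F) u, movedIn_map (hPU g.2) u.2⟩
      one_smul := fun u => rfl
      mul_smul := fun g h u => rfl }
  have hdvd : p ∣ Nat.card U := by
    have h1 : addOrderOf (⟨v, hv⟩ : U) = p := by
      refine addOrderOf_eq_prime ?_ fun e => hv0 (congrArg Subtype.val e)
      refine Subtype.ext ?_
      show p • v = 0
      rw [← Nat.cast_smul_eq_nsmul F, CharP.cast_eq_zero, zero_smul]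
    exact h1 ▸ addOrderOf_dvd_natCard _
  have h0 : (0 : U) ∈ MulAction.fixedPoints P U := fun g => Subtype.ext (map_zero _)
  obtain ⟨b, hb, hb0⟩ := hP.exists_fixed_point_of_prime_dvd_card_of_fixed_point U hdvd h0
  exact ⟨b, b.2, fun e => hb0 (Subtype.ext e.symm), fun π hπ => congrArg Subtype.val (hb ⟨π, hπ⟩)⟩

namespace QData

variable {D : QData F} {S : Finset (Fin n)} {H : Subgroup (Vs n F ≃ₗ[F] Vs n F)}

/-- A group normalised by the quaternion group of a plane, fixing a vector seen in the plane, fixes the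
plane. -/
theorem plane_fixed {T : Finset (Fin n)} {P : Subgroup (Vs n F ≃ₗ[F] Vs n F)}
    (hA : blk (D.Q : Subgroup (Matrix.SpecialLinearGroup (Fin 2) F)) T ≤ Subgroup.normalizer (P : Set (Vs n F ≃ₗ[F] Vs n F)))
    {u : Vs n F} (hu : ∀ π ∈ P, π u = u) {m : Fin n} (hm : m ∈ T) (hum : u m ≠ 0)
    {π : Vs n F ≃ₗ[F] Vs n F} (hπ : π ∈ P) (v : Fin 2 → F) : π (emb m v) = emb m v := by
  let W : Submodule F (Vs n F) :=
    { carrier := {x | ∀ π ∈ P, π x = x}
      zero_mem' := fun π _ => map_zero π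
      add_mem' := fun {a b} ha hb π hπ => by rw [map_add, ha π hπ, hb π hπ]
      smul_mem' := fun c {a} ha π hπ => by rw [map_smul, ha π hπ] }
  have hinv : ∀ g ∈ blk (D.Q : Subgroup (Matrix.SpecialLinearGroup (Fin 2) F)) T, ∀ x ∈ W, g x ∈ W := by
    intro g hg x hx π hπ
    have h1 := hx _ ((Subgroup.mem_normalizer_iff''.1 (hA hg) π).1 hπ)
    rw [LinearEquiv.mul_apply, LinearEquiv.mul_apply] at h1
    have h2 := congrArg g h1
    rwa [← LinearEquiv.mul_apply g g⁻¹, mul_inv_cancel, LinearEquiv.coe_one, id_eq] at h2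
  have hw : emb m (u m) ∈ W := by
    have h1 := W.sub_mem (hinv _ (single_mem_blk (Q := (D.Q : Subgroup (Matrix.SpecialLinearGroup (Fin 2) F))) hm (negOne_mem_sylow D.Q)) u hu) hu
    rw [show single m (negOne F) = E m from rfl, E_apply, sub_sub_cancel_left] at h1
    have h3 := W.smul_mem (-(2 : F))⁻¹ h1
    rwa [← neg_smul, smul_smul, inv_mul_cancel₀ (neg_ne_zero.2 D.two), one_smul] at h3
  set w := u m with hwdef
  set W' := W.comap (emb m) with hW'
  have hinv' : ∀ q ∈ D.Q, ∀ x ∈ W', (q : Matrix (Fin 2) (Fin 2) F) *ᵥ x ∈ W' := by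
    intro q hq x hx
    have := hinv _ (single_mem_blk (Q := (D.Q : Subgroup (Matrix.SpecialLinearGroup (Fin 2) F))) hm hq) _ hx
    rwa [single_eq, mono_emb, Equiv.Perm.one_apply, Pi.mulSingle_eq_same] at this
  suffices h : W' = ⊤ by
    have : v ∈ W' := h ▸ Submodule.mem_top
    exact this π hπ
  by_contra hne
  have hlt : Module.finrank F W' < 2 := by
    have := Submodule.finrank_lt (s := W') (lt_top_iff_ne_top.2 hne).ne
    simpa using this
  have hspan : Submodule.span F {w} = W' := by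
    refine Submodule.eq_of_le_of_finrank_le (by rw [Submodule.span_singleton_le_iff_mem]; exact hw) ?_
    rw [finrank_span_singleton hum]
    omega
  have key : ∀ q ∈ D.Q, ∃ a : F, a • w = (q : Matrix (Fin 2) (Fin 2) F) *ᵥ w := fun q hq =>
    Submodule.mem_span_singleton.1 (hspan ▸ hinv' q hq w (by rw [← hspan]; exact Submodule.mem_span_singleton_self w))
  obtain ⟨a, ha⟩ := key _ D.hI
  obtain ⟨b, hb⟩ := key _ D.hJ
  set A := (D.I : Matrix (Fin 2) (Fin 2) F)
  set B := (D.J : Matrix (Fin 2) (Fin 2) F)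
  have e1 : (B * A) *ᵥ w = (a * b) • w := by
    rw [← Matrix.mulVec_mulVec, ← ha, Matrix.mulVec_smul, ← hb, smul_smul]
  have e2 : (A * B) *ᵥ w = (b * a) • w := by
    rw [← Matrix.mulVec_mulVec, ← hb, Matrix.mulVec_smul, ← ha, smul_smul]
  rw [D.mJI, Matrix.neg_mulVec, e2, ← neg_smul] at e1
  have e3 := smul_left_injective F hum e1
  have e4 : (a * a) • w = (-1 : F) • w := by
    have : (A * A) *ᵥ w = (a * a) • w := by
      rw [← Matrix.mulVec_mulVec, ← ha, Matrix.mulVec_smul, ← ha, smul_smul]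
    rw [← this, D.mI_sq, Matrix.neg_mulVec, Matrix.one_mulVec, neg_one_smul]
  have e5 := smul_left_injective F hum e4
  have e6 : (B * B) *ᵥ w = (b * b) • w := by
    rw [← Matrix.mulVec_mulVec, ← hb, Matrix.mulVec_smul, ← hb, smul_smul]
  rw [D.mJ_sq, Matrix.neg_mulVec, Matrix.one_mulVec, ← neg_one_smul F w] at e6
  have e7 := smul_left_injective F hum e6
  have : (2 : F) * (a * b) = 0 := by linear_combination -e3
  rcases mul_eq_zero.1 ((mul_eq_zero.1 this).resolve_left D.two) with h | h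
  · rw [h, mul_zero] at e5; exact one_ne_zero (neg_eq_zero.1 e5.symm)
  · rw [h, mul_zero] at e7; exact one_ne_zero (neg_eq_zero.1 e7)

/-- The conjugates of the reflection inside a group moving only `U`. -/
theorem Hyp.local_core (hy : D.Hyp S H) {p : ℕ} [CharP F p] {k : Fin n} {U : Submodule F (Vs n F)}
    (hU : Module.finrank F U ≤ 4) {T : Finset (Fin n)} (hTS : T ⊆ S) (hkT : k ∈ T)
    (hTU : ∀ i ∈ T, LinearMap.range (emb i) ≤ U) {z : Vs n F ≃ₗ[F] Vs n F} (hzH : z ∈ H)
    (hzU : z ∈ movedIn U) (hzc : ∀ x ∈ H ⊓ movedIn U, x * z = z * x) (hz2 : z * z = 1) (hez : E k ≠ z)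
    (hclass : ∀ d, IsRefl S H d → d ∈ movedIn U →
      (d * E k = E k * d ∨ d * E k = E k * d * z) → d = E k ∨ d = E k * z)
    {d : Vs n F ≃ₗ[F] Vs n F} (hd : IsRefl S H d) (hdU : d ∈ movedIn U) :
    ∃ P : Subgroup (Vs n F ≃ₗ[F] Vs n F), P ≤ H ⊓ movedIn U ∧ IsPGroup p P ∧
      blk (D.Q : Subgroup (Matrix.SpecialLinearGroup (Fin 2) F)) T ≤ Subgroup.normalizer (P : Set (Vs n F ≃ₗ[F] Vs n F)) ∧
      ∃ π ∈ P, d = π * E k * π⁻¹ ∨ d = π * E k * π⁻¹ * z := by
  haveI := finite_equiv (F := F) (n := n)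
  set X := H ⊓ movedIn U with hX
  have hsingle : ∀ i ∈ T, ∀ q ∈ D.Q, single i q ∈ X := fun i hi q hq =>
    ⟨hy.mem_single i (hTS hi) q hq, mem_movedIn_iff.2 ((mv_single_le i q).trans (hTU i hi))⟩
  have hAX : blk (D.Q : Subgroup (Matrix.SpecialLinearGroup (Fin 2) F)) T ≤ X := OddSp.blk_le hsingle
  have hqe : single k D.I * single k D.I = E k := by rw [← map_mul, D.II]; rfl
  have hrk : Module.finrank F (LinearMap.range ((single k D.I).toLinearMap - LinearMap.id)) ≤ 2 :=
    (Submodule.finrank_mono (mv_single_le k D.I)).trans (finrank_range_emb k).le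
  obtain ⟨P, hPX, hP, hAP, hconj⟩ := exists_unipotent_conjugator (p := p) D.two (Bf n F) Bf_nondegenerate
    X (blk (D.Q : Subgroup (Matrix.SpecialLinearGroup (Fin 2) F)) T) (fun x hx => hy.le_iso hx.1) U hU (fun x hx => hx.2) hAX
    (blk_isPGroup (Q := (D.Q : Subgroup (Matrix.SpecialLinearGroup (Fin 2) F))) D.Q.2 T) (single_mem_blk (Q := (D.Q : Subgroup (Matrix.SpecialLinearGroup (Fin 2) F))) hkT D.hI) hqe (E_mul_self k) (E_ne_one D.two k) hrk
    ⟨hzH, hzU⟩ hzc hz2 hez (fun x hx h => hclass _ ⟨k, hTS hkT, x, hx.1, rfl⟩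
      (mul_mem (mul_mem hx.2 (hsingle k hkT _ (negOne_mem_sylow D.Q)).2) (inv_mem hx.2)) h)
  -- some conjugate of `d` lies in a 2-subgroup with `E k`
  obtain ⟨R, hRX, hR, hAR, x, hx, hxd⟩ := exists_conj_two (K := X) hAX (blk_isPGroup (Q := (D.Q : Subgroup (Matrix.SpecialLinearGroup (Fin 2) F))) D.Q.2 T)
    (P := Subgroup.zpowers d) (Subgroup.zpowers_le.2 ⟨hd.mem hy, hdU⟩)
    (fun g => ⟨1, by
      obtain ⟨t, ht⟩ := g.2
      refine Subtype.ext ?_
      show (g : Vs n F ≃ₗ[F] Vs n F) ^ 2 = 1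
      rw [← ht, ← zpow_natCast, zpow_comm, zpow_natCast, sq, hd.sq, _root_.one_zpow]⟩)
  have hxd' := hxd d (Subgroup.mem_zpowers d)
  have hRH : R ≤ H := fun g hg => (hRX hg).1
  have hcomm := hy.comm_of_two hR hRH (hd.conj hx.1) (show IsRefl S H (E k) from ⟨k, hTS hkT, 1, one_mem _, by simp⟩) hxd'
    (hAR (single_mem_blk (Q := (D.Q : Subgroup (Matrix.SpecialLinearGroup (Fin 2) F))) hkT (negOne_mem_sylow D.Q)))
  obtain ⟨π, hπ, he⟩ := hconj x⁻¹ (inv_mem hx)
  rw [inv_inv] at he
  refine ⟨P, hPX, hP, hAP, π, hπ, ?_⟩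
  have hzx : z = x⁻¹ * z * x := by rw [mul_assoc, ← hzc x hx, inv_mul_cancel_left]
  rcases hclass _ (hd.conj hx.1) (hRX hxd').2 (Or.inl hcomm) with h1 | h1
  · have hd' : d = x⁻¹ * E k * x := by rw [← h1]; group
    rw [hd']; exact he
  · have hd' : d = x⁻¹ * E k * x * z := by
      rw [show d = x⁻¹ * (E k * z) * x by rw [← h1]; group]
      conv_rhs => rw [hzx]
      group
    rcases he with h2 | h2
    · exact Or.inr (by rw [hd', h2])
    · exact Or.inl (by rw [hd', h2, mul_assoc, hz2, mul_one])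

theorem Hyp.class_of_comm (hy : D.Hyp S H) {k : Fin n} (hk : k ∈ S) {U : Submodule F (Vs n F)}
    {d : Vs n F ≃ₗ[F] Vs n F} (hd : IsRefl S H d) (hdU : d ∈ movedIn U) (hc : d * E k = E k * d) :
    ∃ m ∈ S, d = E m ∧ LinearMap.range (emb (F := F) m) ≤ U := by
  obtain ⟨m, hm, rfl⟩ := hy.refl_eq hd (hy.cent k hk d (hd.mem hy) hc)
  exact ⟨m, hm, rfl, mv_E (F := F) D.two m ▸ mem_movedIn_iff.1 hdU⟩

/-- Conjugates of reflections moving only the sum of two planes commute with the reflections in them. -/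
theorem Hyp.local_pl (hy : D.Hyp S H) {k l : Fin n} (hk : k ∈ S) (hl : l ∈ S) (hkl : k ≠ l)
    {d : Vs n F ≃ₗ[F] Vs n F} (hd : IsRefl S H d) (hdU : mv d ≤ pl k l) : d * E k = E k * d := by
  classical
  obtain ⟨p, hp⟩ := CharP.exists F
  set U : Submodule F (Vs n F) := pl k l with hU
  set z : Vs n F ≃ₗ[F] Vs n F := E k * E l with hz
  have hEU : ∀ m, m = k ∨ m = l → E m ∈ movedIn U := fun m hm =>
    mem_movedIn_iff.2 (by rw [mv_E D.two]; exact emb_mem_pl_iff.2 hm)
  have hout : ∀ x ∈ H ⊓ movedIn U, ∀ m, m ≠ k → m ≠ l → ∀ v, x (emb m v) = emb m v := by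
    intro x hx m hmk hml v
    have hxI := hy.le_iso hx.1
    obtain ⟨hu, hu'⟩ : x (emb m v) - emb m v ∈ U ∧ True := ⟨hx.2 _, trivial⟩
    refine sub_eq_zero.1 (funext fun j => ?_)
    by_cases hj : j = k ∨ j = l
    · refine eq_zero_of_om fun w => ?_
      have hjm : j ≠ m := fun e => by rcases hj with rfl | rfl; exacts [hmk e.symm, hml e.symm]
      have hmem : x⁻¹ (emb j w) ∈ U := movedIn_map (inv_mem hx.2) (emb_mem_pl_iff.2 hj ⟨w, rfl⟩)
      have e := hxI (x⁻¹ (emb j w)) (emb m v)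
      rw [← LinearEquiv.mul_apply, mul_inv_cancel, LinearEquiv.coe_one, id_eq, Bf_emb, Bf_swap,
        Bf_emb, apply_eq_zero_of_pl hmk hml hmem] at e
      rw [Pi.sub_apply, emb_ne hjm, sub_zero, om_swap, e]
      simp [om]
    · push Not at hj
      exact apply_eq_zero_of_pl hj.1 hj.2 hu
  have hzc : ∀ x ∈ H ⊓ movedIn U, x * z = z * x := by
    intro x hx
    refine LinearEquiv.ext fun y => ?_
    have hz' : ∀ y : Vs n F, z y = y - (2 : F) • (emb k (y k) + emb l (y l)) := fun y => by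
      rw [hz, LinearEquiv.mul_apply, E_apply, E_apply, Pi.sub_apply, Pi.smul_apply, emb_ne hkl, smul_zero,
        sub_zero, smul_add]
      abel
    have hproj : ∀ y : Vs n F, x (emb k (y k) + emb l (y l)) = emb k ((x y) k) + emb l ((x y) l) := by
      intro y
      have hmem : x (emb k (y k) + emb l (y l)) ∈ U := movedIn_map hx.2
        (U.add_mem (Submodule.mem_sup_left (LinearMap.mem_range_self (emb k) _))
          (Submodule.mem_sup_right (LinearMap.mem_range_self (emb l) _)))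
      set r := y - (emb k (y k) + emb l (y l)) with hr
      have hrx : x r = r := by
        have : r = ∑ m, emb m (r m) := (Finset.univ_sum_single r).symm
        rw [this, map_sum]
        refine Finset.sum_congr rfl fun m _ => ?_
        by_cases hm : m = k ∨ m = l
        · have : r m = 0 := by
            rcases hm with rfl | rfl
            · simp [hr, emb_same, emb_ne hkl]
            · simp [hr, emb_same, emb_ne (Ne.symm hkl)]
          rw [this, map_zero, map_zero]
        · push Not at hm; exact hout x hx m hm.1 hm.2 _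
      have hsum : x y = x (emb k (y k) + emb l (y l)) + r := by
        conv_rhs => rw [← hrx, ← map_add, hr, add_sub_cancel]
      funext m
      rw [hsum]
      by_cases hm : m = k ∨ m = l
      · rcases hm with rfl | rfl
        · simp [hr, emb_same, emb_ne hkl, emb_ne (Ne.symm hkl)]
        · simp [hr, emb_same, emb_ne hkl, emb_ne (Ne.symm hkl)]
      · push Not at hm
        rw [apply_eq_zero_of_pl hm.1 hm.2 hmem]
        simp [emb_ne hm.1, emb_ne hm.2]
    rw [LinearEquiv.mul_apply x z, LinearEquiv.mul_apply z x, hz', hz', map_sub, map_smul, hproj]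
  have hz2 : z * z = 1 := by
    rw [hz, mul_assoc, ← mul_assoc (E l), E_comm l k, mul_assoc, E_mul_self, mul_one, E_mul_self]
  have hekz : E k * z = E l := by rw [hz, ← mul_assoc, E_mul_self, one_mul]
  have hez : E k ≠ z := fun e => E_ne_one D.two l (mul_eq_left.1 e.symm)
  have hzU : z ∈ movedIn U := mul_mem (hEU k (Or.inl rfl)) (hEU l (Or.inr rfl))
  have hzH : z ∈ H := mul_mem (hy.E_mem hk) (hy.E_mem hl)
  have hclass : ∀ d, IsRefl S H d → d ∈ movedIn U →
      (d * E k = E k * d ∨ d * E k = E k * d * z) → d = E k ∨ d = E k * z := by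
    intro d hd hdU h
    have hc : d * E k = E k * d := by
      rcases h with h | h
      · exact h
      -- an element exchanging the planes is in `Mon`
      have hdz := hzc d ⟨hd.mem hy, hdU⟩
      have h1 : d * E k * d⁻¹ = E l := by
        rw [h, mul_assoc (E k), hdz, ← mul_assoc, hekz, mul_inv_cancel_right]
      have hdinv : d⁻¹ = d := inv_eq_of_mul_eq_one_right hd.sq
      have h2 : d * E l * d⁻¹ = E k := by
        rw [← h1, hdinv, show d * (d * E k * d) * d = (d * d) * E k * (d * d) by group, hd.sq, one_mul,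
          mul_one]
      have hmap : ∀ m m', d * E m * d⁻¹ = E m' → ∀ v, d (emb m v) ∈ LinearMap.range (emb (F := F) m') :=
        fun m m' e v => by
          have := congrArg mv e
          rw [mv_conj, mv_E D.two, mv_E D.two] at this
          exact this ▸ ⟨emb m v, ⟨v, rfl⟩, rfl⟩
      have hdM : d ∈ Mon n F := mem_Mon_of_planes (hy.le_iso (hd.mem hy)) fun i => by
        by_cases hik : i = k
        · exact ⟨l, hik ▸ hmap k l h1⟩
        by_cases hil : i = l
        · exact ⟨k, hil ▸ hmap l k h2⟩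
        exact ⟨i, fun v => ⟨v, (hout d ⟨hd.mem hy, hdU⟩ i hik hil v).symm⟩⟩
      obtain ⟨m, -, rfl⟩ := hy.refl_eq hd hdM
      exact (E_comm m k)
    obtain ⟨m, -, rfl, hmU⟩ := hy.class_of_comm hk hd hdU hc
    rcases emb_mem_pl_iff.1 hmU with rfl | rfl
    exacts [Or.inl rfl, Or.inr hekz.symm]
  have hdU' : d ∈ movedIn U := mem_movedIn_iff.2 hdU
  obtain ⟨P, hPX, hP, hAP, π, hπ, hdπ⟩ := hy.local_core (p := p) (T := {k, l}) (finrank_pl hkl).le
    (by intro i hi; rcases Finset.mem_insert.1 hi with rfl | hi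
        exacts [hk, Finset.mem_singleton.1 hi ▸ hl])
    (Finset.mem_insert_self _ _)
    (fun i hi => emb_mem_pl_iff.2 (by simpa using hi)) hzH hzU hzc hz2 hez hclass hd hdU'
  obtain ⟨u, huU, hu0, hufix⟩ := exists_fixed hP (fun g hg => (hPX hg).2)
    (emb_mem_pl_iff.2 (Or.inl rfl) ⟨![1, 0], rfl⟩)
    (fun e => one_zero_ne (emb_injective k (e.trans (map_zero _).symm)))
  obtain ⟨m, hm, hum⟩ : ∃ m, (m = k ∨ m = l) ∧ u m ≠ 0 := by
    by_contra hno
    push Not at hno
    refine hu0 (funext fun m => ?_)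
    by_cases hm : m = k ∨ m = l
    · exact hno m hm
    · push Not at hm; exact apply_eq_zero_of_pl hm.1 hm.2 huU
  have hmT : m ∈ ({k, l} : Finset (Fin n)) := by simpa using hm
  have hπm := comm_of_fix (hy.le_iso (hPX hπ).1) (plane_fixed hAP hufix hmT hum hπ)
  have hπk : π * E k = E k * π := by
    rcases hm with rfl | rfl
    · exact hπm
    · have e : E k = E m * z := by rw [hz, ← mul_assoc, E_comm m k, mul_assoc, E_mul_self, mul_one]
      rw [e, ← mul_assoc, hπm, mul_assoc, hzc π (hPX hπ), ← mul_assoc]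
  have hπe : π * E k * π⁻¹ = E k := by rw [hπk, mul_inv_cancel_right]
  rw [hπe] at hdπ
  rcases hdπ with rfl | rfl
  · rfl
  · rw [hekz]; exact E_comm l k

/-- The nondegenerate case with no other plane. -/
theorem Hyp.local_nondeg (hy : D.Hyp S H) {k : Fin n} (hk : k ∈ S)
    {d : Vs n F ≃ₗ[F] Vs n F} (hd : IsRefl S H d)
    (hnd : ∀ u ∈ LinearMap.range (emb k) ⊔ mv d,
      (∀ w ∈ LinearMap.range (emb k) ⊔ mv d, Bf n F u w = 0) → u = 0)
    (hno : ∀ m ∈ S, LinearMap.range (emb m) ≤ LinearMap.range (emb k) ⊔ mv d → m = k) :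
    d * E k = E k * d := by
  obtain ⟨p, hp⟩ := CharP.exists F
  set U := LinearMap.range (emb (F := F) k) ⊔ mv d with hU
  have hd2 : Module.finrank F (mv d) = 2 := by
    obtain ⟨m, hm, h, hh, rfl⟩ := hd
    rw [finrank_mv_conj, mv_E D.two, finrank_range_emb]
  have hU4 : Module.finrank F U ≤ 4 :=
    (Submodule.finrank_add_le_finrank_add_finrank _ _).trans (by rw [finrank_range_emb, hd2])
  have hdU : d ∈ movedIn U := mem_movedIn_iff.2 le_sup_right
  have hclass : ∀ d, IsRefl S H d → d ∈ movedIn U →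
      (d * E k = E k * d ∨ d * E k = E k * d * 1) → d = E k ∨ d = E k * 1 := by
    intro d hd hdU h
    rw [mul_one, or_self] at h
    obtain ⟨m, hm, rfl, hmU⟩ := hy.class_of_comm hk hd hdU h
    exact Or.inl (by rw [hno m hm hmU])
  obtain ⟨P, hPX, hP, hAP, π, hπ, hdπ⟩ := hy.local_core (p := p) (T := {k}) hU4
    (Finset.singleton_subset_iff.2 hk) (Finset.mem_singleton_self k)
    (fun i hi => (Finset.mem_singleton.1 hi).symm ▸ le_sup_left) (one_mem H) (one_mem _)
    (fun x _ => by rw [mul_one, one_mul]) (one_mul 1) (E_ne_one D.two k) hclass hd hdU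
  rw [mul_one, or_self] at hdπ
  obtain ⟨u, huU, hu0, hufix⟩ := exists_fixed hP (fun g hg => (hPX hg).2)
    (show emb k ![1, 0] ∈ U from Submodule.mem_sup_left (LinearMap.mem_range_self (emb k) _))
    (fun e => one_zero_ne (emb_injective k (e.trans (map_zero _).symm)))
  have huk : u k ≠ 0 := by
    intro huk
    refine hu0 (hnd u huU fun w hw => ?_)
    obtain ⟨_, ⟨a, rfl⟩, b, hb, rfl⟩ := Submodule.mem_sup.1 hw
    have hperp : ∀ v, Bf n F u (emb k v) = 0 := fun v => by
      rw [Bf_swap, Bf_emb, huk]; simp [om]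
    rw [hdπ, mv_conj, mv_E D.two] at hb
    obtain ⟨_, ⟨v, rfl⟩, rfl⟩ := hb
    have h2 : Bf n F u (π (emb k v)) = 0 := by
      conv_lhs => rw [← hufix π hπ]
      rw [hy.le_iso (hPX hπ).1, hperp]
    rw [map_add, hperp, LinearEquiv.coe_coe, h2, add_zero]
  have hπk := comm_of_fix (hy.le_iso (hPX hπ).1)
    (plane_fixed hAP hufix (Finset.mem_singleton_self k) huk hπ)
  rw [hπk, mul_inv_cancel_right] at hdπ
  rw [hdπ]

end QData

end Cfsg.Agent.Classical.OddSp
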