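import Cfsg.Agent.Lib.Classical.OddSp.Space
import Cfsg.Agent.Lib.Classical.OddSp.SLQ

/-!
# Planes, reflections in planes and the groups supported on them
-/

set_option autoImplicit false
set_option linter.unusedSectionVars false
set_option linter.unusedSimpArgs false
set_option linter.style.haveILetI false

namespace Cfsg.Agent.Classical.OddSp

open Matrix
open TorusNormalizer (negOne negOne_sq coe_negOne)
open Cfsg.Agent.Classical.OddIndex

universe u

variable {F : Type u} [Field F] [Fintype F] {n : ℕ}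

theorem finite_equiv : Finite (Vs n F ≃ₗ[F] Vs n F) :=
  Finite.of_injective (fun g => (g : Vs n F → Vs n F)) DFunLike.coe_injective

theorem negOne_mulVec (v : Fin 2 → F) : (negOne F : Matrix (Fin 2) (Fin 2) F) *ᵥ v = -v := by
  rw [coe_negOne, Matrix.neg_mulVec, Matrix.one_mulVec]

theorem negOne_ne_one' (h2 : (2 : F) ≠ 0) : negOne F ≠ 1 := fun e => SLTwo.ne_one_negOne h2 e.symm

/-- The reflection in the plane `k`. -/
def E (k : Fin n) : Vs n F ≃ₗ[F] Vs n F := single k (negOne F)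

theorem E_apply (k : Fin n) (x : Vs n F) : E k x = x - (2 : F) • emb k (x k) := by
  funext j
  by_cases h : j = k
  · subst h
    rw [E, single_apply_same, negOne_mulVec, Pi.sub_apply, Pi.smul_apply, emb_same, two_smul]
    abel
  · rw [E, single_apply_ne h, Pi.sub_apply, Pi.smul_apply, emb_ne h, smul_zero, sub_zero]

theorem E_mul_self (k : Fin n) : E k * E k = (1 : Vs n F ≃ₗ[F] Vs n F) := by
  rw [E, ← map_mul, negOne_sq, map_one]

theorem E_inv (k : Fin n) : (E k : Vs n F ≃ₗ[F] Vs n F)⁻¹ = E k :=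
  inv_eq_of_mul_eq_one_right (E_mul_self k)

theorem E_ne_one (h2 : (2 : F) ≠ 0) (k : Fin n) : E k ≠ (1 : Vs n F ≃ₗ[F] Vs n F) := fun e =>
  negOne_ne_one' h2 (single_injective k (e.trans (map_one _).symm))

theorem bl_single (i : Fin n) (s : Matrix.SpecialLinearGroup (Fin 2) F) :
    single i s = bl n F (Pi.mulSingle i s) := rfl

theorem single_comm {i j : Fin n} (h : i ≠ j) (s t : Matrix.SpecialLinearGroup (Fin 2) F) :
    single i s * single j t = single j t * single i s := by
  rw [bl_single, bl_single, ← map_mul, ← map_mul]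
  exact congrArg _ (Pi.mulSingle_commute (f := fun _ : Fin n => Matrix.SpecialLinearGroup (Fin 2) F) h s t).eq

theorem E_comm_single (k i : Fin n) (s : Matrix.SpecialLinearGroup (Fin 2) F) :
    E k * single i s = single i s * E k := by
  by_cases h : k = i
  · subst h; rw [E, ← map_mul, ← map_mul, SLTwo.negOne_comm]
  · exact single_comm h _ _

theorem E_comm (k l : Fin n) : E k * E l = (E l * E k : Vs n F ≃ₗ[F] Vs n F) :=
  E_comm_single k l _

theorem single_mem_Mon (i : Fin n) (s : Matrix.SpecialLinearGroup (Fin 2) F) :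
    single i s ∈ Mon n F := mono_mem_Mon _ _

theorem E_mem_Mon (k : Fin n) : E k ∈ Mon n F := single_mem_Mon _ _

theorem iso_comp {g : Vs n F ≃ₗ[F] Vs n F} (hg : g ∈ Iso n F) {i : Fin n}
    (h : ∀ v, g (emb i v) = emb i v) (x : Vs n F) : (g x) i = x i := by
  refine sub_eq_zero.1 (eq_zero_of_om fun v => ?_)
  have e := hg (emb i v) x
  rw [h, Bf_emb, Bf_emb] at e
  simp only [om, Pi.sub_apply] at e ⊢
  linear_combination -e

/-- An isometry mapping a plane to a plane conjugates the reflections. -/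
theorem conj_E_of_map {h : Vs n F ≃ₗ[F] Vs n F} (hh : h ∈ Iso n F) {m k : Fin n}
    (hmap : ∀ v, h (emb m v) ∈ LinearMap.range (emb (F := F) k)) : h * E m * h⁻¹ = E k := by
  choose c hc using hmap
  have hinj : Function.Injective c := fun v w e => by
    refine emb_injective m (h.injective ?_)
    rw [← hc, ← hc, e]
  have hsur : Function.Surjective c := Finite.surjective_of_injective hinj
  have key : ∀ x, c (x m) = (h x) k := by
    intro x
    refine sub_eq_zero.1 (eq_zero_of_om fun y => ?_)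
    obtain ⟨v, rfl⟩ := hsur y
    have e1 := hh (emb m v) x
    rw [← hc, Bf_emb, Bf_emb] at e1
    have e2 := hh (emb m v) (emb m (x m))
    rw [← hc, ← hc, Bf_emb, Bf_emb, emb_same, emb_same] at e2
    simp only [om, Pi.sub_apply] at e1 e2 ⊢
    linear_combination e1 - e2
  rw [mul_inv_eq_iff_eq_mul]
  refine LinearEquiv.ext fun x => ?_
  rw [LinearEquiv.mul_apply, LinearEquiv.mul_apply, E_apply, E_apply, map_sub, map_smul, ← hc, key]

theorem preserve_of_comm {h : Vs n F ≃ₗ[F] Vs n F} (h2 : (2 : F) ≠ 0) {k : Fin n}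
    (hc : h * E k = E k * h) (v : Fin 2 → F) : h (emb k v) ∈ LinearMap.range (emb (F := F) k) := by
  have e := DFunLike.congr_fun hc (emb k v)
  rw [LinearEquiv.mul_apply, LinearEquiv.mul_apply, E_apply, E_apply, emb_same, map_sub, map_smul] at e
  refine ⟨(h (emb k v)) k, ?_⟩
  exact (smul_right_injective (Vs n F) h2 (sub_right_inj.1 e)).symm

theorem comm_of_conj_eq {G : Type*} [Group G] {h e : G} (he : h * e * h⁻¹ = e) : h * e = e * h :=
  mul_inv_eq_iff_eq_mul.1 he

theorem comm_of_fix {h : Vs n F ≃ₗ[F] Vs n F} (hh : h ∈ Iso n F) {k : Fin n}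
    (hf : ∀ v, h (emb k v) = emb k v) : h * E k = E k * h :=
  comm_of_conj_eq (conj_E_of_map hh fun v => ⟨v, (hf v).symm⟩)

theorem mv_single_eq (h2 : (2 : F) ≠ 0) {s : Matrix.SpecialLinearGroup (Fin 2) F} (hs : s ^ 4 = 1)
    (hs1 : s ≠ 1) (i : Fin n) : mv (single i s) = LinearMap.range (emb i) := by
  refine le_antisymm (mv_single_le i s) ?_
  let m : (Fin 2 → F) →ₗ[F] (Fin 2 → F) := ((s : Matrix (Fin 2) (Fin 2) F) - 1).mulVecLin
  have hm : Function.Surjective m := by
    refine LinearMap.injective_iff_surjective.1 ((injective_iff_map_eq_zero m).2 fun v hv => ?_)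
    by_contra hv0
    rw [Matrix.mulVecLin_apply, Matrix.sub_mulVec, Matrix.one_mulVec, sub_eq_zero] at hv
    exact hs1 (pow_four_fixes h2 hs hv0 hv)
  rintro _ ⟨w, rfl⟩
  obtain ⟨v, rfl⟩ := hm w
  refine ⟨emb i v, ?_⟩
  rw [LinearMap.sub_apply, LinearEquiv.coe_coe, LinearMap.id_apply, single_eq, mono_emb,
    Equiv.Perm.one_apply, Pi.mulSingle_eq_same, ← map_sub, Matrix.mulVecLin_apply, Matrix.sub_mulVec,
    Matrix.one_mulVec]

theorem mv_E (h2 : (2 : F) ≠ 0) (k : Fin n) : mv (E (F := F) k) = LinearMap.range (emb k) :=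
  mv_single_eq h2 (by rw [show (4 : ℕ) = 2 * 2 from rfl, pow_mul, sq (negOne F), negOne_sq, one_pow]) (negOne_ne_one' h2) k

theorem eq_of_mem_range {i j : Fin n} {v : Fin 2 → F} (hv : v ≠ 0)
    (h : emb i v ∈ LinearMap.range (emb (F := F) j)) : i = j := by
  by_contra hij
  obtain ⟨w, hw⟩ := h
  have := congrFun hw i
  rw [emb_same, emb_ne hij] at this
  exact hv this.symm

theorem one_zero_ne : (![1, 0] : Fin 2 → F) ≠ 0 := fun e => one_ne_zero (congrFun e 0)

/-- An element conjugating an element of order four of a plane into `Mon` maps the plane to a plane. -/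
theorem map_plane_of_conj (h2 : (2 : F) ≠ 0) {h : Vs n F ≃ₗ[F] Vs n F} {i : Fin n}
    {s : Matrix.SpecialLinearGroup (Fin 2) F} (hs : s * s = negOne F)
    (hm : h * single i s * h⁻¹ ∈ Mon n F) :
    ∃ j, ∀ v, h (emb i v) ∈ LinearMap.range (emb (F := F) j) := by
  have hs4 : s ^ 4 = 1 := by rw [show (4 : ℕ) = 2 * 2 from rfl, pow_mul, sq s, hs, sq, negOne_sq]
  have hs1 : s ≠ 1 := fun e => negOne_ne_one' h2 (by rw [← hs, e, one_mul])
  have hsq : h * single i s * h⁻¹ * (h * single i s * h⁻¹) = h * E i * h⁻¹ := by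
    rw [E, ← hs, map_mul]; group
  obtain ⟨j, t, -, ht⟩ := eq_single_of_small h2 hm (by
      rw [finrank_mv_conj, mv_single_eq h2 hs4 hs1, finrank_range_emb]) (by
      rw [hsq, show h * E i * h⁻¹ * (h * E i * h⁻¹) = h * (E i * E i) * h⁻¹ by group, E_mul_self,
        mul_one, mul_inv_cancel]) (fun e => E_ne_one h2 i (by
      rw [hsq, mul_inv_eq_one] at e
      exact mul_eq_left.1 e))
  rw [mv_conj, mv_single_eq h2 hs4 hs1] at ht
  exact ⟨j, fun v => ht ▸ ⟨emb i v, ⟨v, rfl⟩, rfl⟩⟩

/-- The isometries fixing the planes outside `S`. -/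
def Supp (n : ℕ) (F : Type u) [Field F] (S : Finset (Fin n)) : Subgroup (Vs n F ≃ₗ[F] Vs n F) where
  carrier := {g | ∀ i, i ∉ S → ∀ v, g (emb i v) = emb i v}
  one_mem' := fun i _ v => rfl
  mul_mem' := fun {g h} hg hh i hi v => by rw [LinearEquiv.mul_apply, hh i hi, hg i hi]
  inv_mem' := fun {g} hg i hi v => by
    conv_lhs => rw [← hg i hi v]
    rw [← LinearEquiv.mul_apply, inv_mul_cancel]
    rfl

theorem single_mem_Supp {S : Finset (Fin n)} {i : Fin n} (hi : i ∈ S)
    (s : Matrix.SpecialLinearGroup (Fin 2) F) : single i s ∈ Supp n F S := by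
  intro j hj v
  rw [single_eq, mono_emb, Equiv.Perm.one_apply,
    Pi.mulSingle_eq_of_ne (fun e : j = i => hj (e ▸ hi)), Matrix.SpecialLinearGroup.coe_one,
    Matrix.one_mulVec]

theorem mono_supp {S : Finset (Fin n)} {a : Fin n → Matrix.SpecialLinearGroup (Fin 2) F}
    {π : Equiv.Perm (Fin n)} (h : mono a π ∈ Supp n F S) {i : Fin n} (hi : i ∉ S) :
    π i = i ∧ a i = 1 := by
  have hπ : π i = i := by
    by_contra hne
    have := congrFun (h i hi ![1, 0]) i
    rw [mono_emb, emb_ne (Ne.symm hne), emb_same] at this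
    exact one_ne_zero (congrFun this.symm 0)
  refine ⟨hπ, Subtype.ext (Matrix.ext_of_mulVec_single fun b => ?_)⟩
  have := h i hi (Pi.single b 1)
  rw [mono_emb, hπ] at this
  rw [Matrix.SpecialLinearGroup.coe_one, Matrix.one_mulVec]
  exact emb_injective i this

/-- The automorphisms moving only `U`. -/
def movedIn (U : Submodule F (Vs n F)) : Subgroup (Vs n F ≃ₗ[F] Vs n F) where
  carrier := {g | ∀ v, g v - v ∈ U}
  one_mem' := fun v => by simp
  mul_mem' := fun {g h} hg hh v => by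
    have := U.add_mem (hg (h v)) (hh v)
    rwa [LinearEquiv.mul_apply, ← sub_add_sub_cancel (g (h v)) (h v) v]
  inv_mem' := fun {g} hg v => by
    have h0 := U.neg_mem (hg (g⁻¹ v))
    have e : g (g⁻¹ v) = v := by rw [← LinearEquiv.mul_apply, mul_inv_cancel]; rfl
    rwa [neg_sub, e] at h0

theorem mem_movedIn_iff {U : Submodule F (Vs n F)} {g : Vs n F ≃ₗ[F] Vs n F} :
    g ∈ movedIn U ↔ mv g ≤ U := by
  constructor
  · rintro h _ ⟨x, rfl⟩; exact h x
  · exact fun h v => h (sub_mem_mv g v)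

theorem movedIn_map {U : Submodule F (Vs n F)} {g : Vs n F ≃ₗ[F] Vs n F} (hg : g ∈ movedIn U)
    {u : Vs n F} (hu : u ∈ U) : g u ∈ U := by
  have := U.add_mem (hg u) hu
  rwa [sub_add_cancel] at this

/-- The product of copies of `Q` on the planes of `T`. -/
def blk (Q : Subgroup (Matrix.SpecialLinearGroup (Fin 2) F)) (T : Finset (Fin n)) :
    Subgroup (Vs n F ≃ₗ[F] Vs n F) :=
  (Subgroup.pi Set.univ fun m : Fin n => if m ∈ T then Q else ⊥).map (bl n F)

theorem single_mem_blk {Q : Subgroup (Matrix.SpecialLinearGroup (Fin 2) F)} {T : Finset (Fin n)}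
    {i : Fin n} (hi : i ∈ T) {q : Matrix.SpecialLinearGroup (Fin 2) F} (hq : q ∈ Q) :
    single i q ∈ blk Q T := by
  refine ⟨Pi.mulSingle i q, (Subgroup.mem_pi _).2 fun m _ => ?_, rfl⟩
  by_cases h : m = i
  · subst h; rw [Pi.mulSingle_eq_same, if_pos hi]; exact hq
  · rw [Pi.mulSingle_eq_of_ne h]; exact one_mem _

theorem blk_le {Q : Subgroup (Matrix.SpecialLinearGroup (Fin 2) F)} {T : Finset (Fin n)}
    {K : Subgroup (Vs n F ≃ₗ[F] Vs n F)} (h : ∀ i ∈ T, ∀ q ∈ Q, single i q ∈ K) : blk Q T ≤ K := by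
  rintro _ ⟨a, ha, rfl⟩
  refine Subgroup.pi_mem_of_mulSingle_mem (H := K.comap (bl n F)) a fun m => ?_
  have := (Subgroup.mem_pi _).1 ha m trivial
  by_cases hm : m ∈ T
  · rw [if_pos hm] at this; exact h m hm _ this
  · rw [if_neg hm, Subgroup.mem_bot] at this
    rw [this, Pi.mulSingle_one]; exact one_mem _

theorem blk_isPGroup {Q : Subgroup (Matrix.SpecialLinearGroup (Fin 2) F)} (hQ : IsPGroup 2 Q)
    (T : Finset (Fin n)) : IsPGroup 2 (blk Q T) := by
  haveI : Fact (Nat.Prime 2) := ⟨Nat.prime_two⟩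
  obtain ⟨c, hc⟩ := hQ.exists_card_eq
  rintro ⟨_, a, ha, rfl⟩
  refine ⟨c, Subtype.ext ?_⟩
  show bl n F a ^ 2 ^ c = 1
  rw [← map_pow, ← hc, show a ^ Nat.card Q = 1 from funext fun m => ?_, map_one]
  have := (Subgroup.mem_pi _).1 ha m trivial
  rw [Pi.pow_apply, Pi.one_apply]
  by_cases hm : m ∈ T
  · rw [if_pos hm] at this
    exact congrArg Subtype.val (pow_card_eq_one' (x := (⟨a m, this⟩ : Q)))
  · rw [if_neg hm, Subgroup.mem_bot] at this
    rw [this, one_pow]

end Cfsg.Agent.Classical.OddSp
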